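import Mathlib
import Cfsg.Prelude
import Cfsg.Agent.S0205
import Cfsg.Agent.Lib.Grp.ThreeCountsSolvable

/-!
Finite groups in which no prime divides three distinct element orders: the two basic cases.
-/

set_option autoImplicit false
set_option linter.style.haveILetI false

universe u v

namespace Cfsg.Agent.Grp.ThreeOrders

open Subgroup

/-- No prime divides three pairwise distinct element orders. -/
def NoThree (G : Type u) [Group G] : Prop :=
  ∀ p : ℕ, p.Prime → ∀ a b c : G, orderOf a ≠ orderOf b → orderOf b ≠ orderOf c →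
    orderOf a ≠ orderOf c → ¬ (p ∣ orderOf a ∧ p ∣ orderOf b ∧ p ∣ orderOf c)

/-- The case of an element of order `2 r`: orders divisible by `2` or `r` divide `2 r`. -/
def TwoR (G : Type u) [Group G] (r : ℕ) : Prop :=
  r.Prime ∧ r ≠ 2 ∧ ∀ g : G, (2 ∣ orderOf g ∨ r ∣ orderOf g) → orderOf g ∣ 2 * r

variable {G : Type u} [Group G]

theorem exists_orderOf_eq_of_dvd [Finite G] (g : G) {d : ℕ} (hd : d ∣ orderOf g) :
    ∃ b : G, orderOf b = d :=
  ⟨_, orderOf_pow_orderOf_div (orderOf_pos g).ne' hd⟩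

theorem NoThree.pair [Finite G] (h : NoThree G) {p q : ℕ} (hp : p.Prime) (hq : q.Prime) {a : G}
    (ha : orderOf a = p * q) {g : G} (hg : p ∣ orderOf g) : orderOf g = p ∨ orderOf g = p * q := by
  by_contra hcon
  push Not at hcon
  obtain ⟨b, hb⟩ := exists_orderOf_eq_of_dvd a (ha ▸ dvd_mul_right p q)
  refine h p hp b a g ?_ ?_ ?_ ⟨hb ▸ dvd_rfl, ha ▸ dvd_mul_right p q, hg⟩
  · rw [hb, ha]
    intro e
    exact hq.one_lt.ne (Nat.eq_of_mul_eq_mul_left hp.pos (by rw [mul_one]; exact e))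
  · rw [ha]; exact hcon.2.symm
  · rw [hb]; exact hcon.1.symm

theorem NoThree.length_le [Finite G] (h : NoThree G) (g : G) :
    (orderOf g).primeFactorsList.length ≤ 2 := by
  by_contra hcon
  have hne := (orderOf_pos g).ne'
  have hprod := Nat.prod_primeFactorsList hne
  match hl : (orderOf g).primeFactorsList, hcon with
  | [], hc => simp at hc
  | [_], hc => simp at hc
  | [_, _], hc => simp at hc
  | p :: q :: s :: l, _ =>
    have hpr : ∀ x ∈ p :: q :: s :: l, x.Prime := fun x hx =>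
      Nat.prime_of_mem_primeFactorsList (hl ▸ hx)
    have hp := hpr p (by simp)
    have hq := hpr q (by simp)
    have hs := hpr s (by simp)
    rw [hl] at hprod
    simp only [List.prod_cons] at hprod
    obtain ⟨a, ha⟩ := exists_orderOf_eq_of_dvd g (d := p * q) (Dvd.intro (s * l.prod) (by
      rw [← hprod]; ring))
    rcases h.pair hp hq ha (g := g) (Dvd.intro _ hprod) with e | e
    · rw [← hprod] at e
      have : q * (s * l.prod) = 1 := Nat.eq_of_mul_eq_mul_left hp.pos (by rw [mul_one]; exact e)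
      exact hq.ne_one (mul_eq_one.1 this).1
    · rw [← hprod] at e
      have : s * l.prod = 1 :=
        Nat.eq_of_mul_eq_mul_left (mul_pos hp.pos hq.pos) (by rw [mul_one, mul_assoc]; exact e)
      exact hs.ne_one (mul_eq_one.1 this).1

theorem NoThree.of_injective (h : NoThree G) {H : Type v} [Group H] (f : H →* G)
    (hf : Function.Injective f) : NoThree H := fun p hp a b c => by
  have := h p hp (f a) (f b) (f c)
  simpa only [orderOf_injective f hf] using this

theorem TwoR.prime {r : ℕ} (h : TwoR G r) : r.Prime := h.1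

theorem TwoR.ne_two {r : ℕ} (h : TwoR G r) : r ≠ 2 := h.2.1

theorem TwoR.dvd {r : ℕ} (h : TwoR G r) {g : G} (hg : 2 ∣ orderOf g ∨ r ∣ orderOf g) :
    orderOf g ∣ 2 * r := h.2.2 g hg

theorem TwoR.of_injective {r : ℕ} (h : TwoR G r) {H : Type v} [Group H] (f : H →* G)
    (hf : Function.Injective f) : TwoR H r :=
  ⟨h.1, h.2.1, fun g => by
    have := h.2.2 (f g)
    rwa [orderOf_injective f hf] at this⟩

theorem TwoR.subgroup {r : ℕ} (h : TwoR G r) (H : Subgroup G) : TwoR H r :=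
  h.of_injective H.subtype H.subtype_injective

theorem TwoR.quotient [Finite G] {r : ℕ} (h : TwoR G r) (N : Subgroup G) [N.Normal] :
    TwoR (G ⧸ N) r :=
  ⟨h.1, h.2.1, fun x hx => by
    obtain ⟨g, rfl⟩ := QuotientGroup.mk_surjective x
    have hd : orderOf (g : G ⧸ N) ∣ orderOf g := orderOf_map_dvd (QuotientGroup.mk' N) g
    exact hd.trans (h.dvd (hx.imp (fun e => e.trans hd) (fun e => e.trans hd)))⟩

/-- The dichotomy. -/
theorem NoThree.cases [Finite G] (h : NoThree G) :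
    (∀ g : G, 2 ∣ orderOf g → ∃ k : ℕ, orderOf g = 2 ^ k) ∨
      ∃ r : ℕ, TwoR G r ∧ ∃ g : G, orderOf g = 2 * r := by
  by_cases hex : ∃ r : ℕ, r.Prime ∧ r ≠ 2 ∧ ∃ g : G, orderOf g = 2 * r
  · obtain ⟨r, hr, hr2, a, ha⟩ := hex
    refine Or.inr ⟨r, ⟨hr, hr2, fun g hg => ?_⟩, a, ha⟩
    rcases hg with hg | hg
    · rcases h.pair Nat.prime_two hr ha hg with e | e <;> rw [e]
      exact dvd_mul_right 2 r
    · rcases h.pair hr Nat.prime_two (ha.trans (mul_comm 2 r)) hg with e | e <;> rw [e]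
      · exact dvd_mul_left r 2
      · rw [mul_comm]
  · refine Or.inl fun g hg => ⟨_, Nat.eq_prime_pow_of_unique_prime_dvd (orderOf_pos g).ne'
      fun {s} hs hsd => ?_⟩
    by_contra hs2
    exact hex ⟨s, hs, hs2, exists_orderOf_eq_of_dvd g
      (((Nat.coprime_primes Nat.prime_two hs).2 (Ne.symm hs2)).mul_dvd_of_dvd_of_dvd hg hsd)⟩

variable {r : ℕ}

theorem TwoR.not_two_mul (h : TwoR G r) {g : G} {ℓ : ℕ} (hℓ : ℓ.Prime) (h2 : ℓ ≠ 2) (hr : ℓ ≠ r)
    (hg : 2 ∣ orderOf g ∨ r ∣ orderOf g) : ¬ ℓ ∣ orderOf g := by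
  intro hd
  rcases hℓ.dvd_mul.1 (hd.trans (h.dvd hg)) with e | e
  · exact h2 ((Nat.prime_dvd_prime_iff_eq hℓ Nat.prime_two).1 e)
  · exact hr ((Nat.prime_dvd_prime_iff_eq hℓ h.prime).1 e)

theorem TwoR.not_sq_dvd (h : TwoR G r) (g : G) : ¬ 2 * 2 ∣ orderOf g ∧ ¬ r * r ∣ orderOf g := by
  constructor <;> intro hd
  · have h1 := hd.trans (h.dvd (Or.inl ((dvd_mul_right 2 2).trans hd)))
    have h2 := Nat.dvd_of_mul_dvd_mul_left (by norm_num : 0 < 2) h1
    exact h.ne_two ((Nat.prime_dvd_prime_iff_eq Nat.prime_two h.prime).1 h2).symm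
  · have h1 := hd.trans (h.dvd (Or.inr ((dvd_mul_right r r).trans hd)))
    rw [mul_comm 2 r] at h1
    have h2 := Nat.dvd_of_mul_dvd_mul_left h.prime.pos h1
    exact h.ne_two ((Nat.prime_dvd_prime_iff_eq h.prime Nat.prime_two).1 h2)

theorem TwoR.two_group_sq [Finite G] (h : TwoR G r) {P : Subgroup G} (hP : IsPGroup 2 P) {x : G}
    (hx : x ∈ P) : x * x = 1 := by
  haveI := Fact.mk Nat.prime_two
  obtain ⟨k, hk⟩ := IsPGroup.iff_orderOf.1 hP ⟨x, hx⟩
  rw [orderOf_mk] at hk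
  rcases k with _ | _ | k
  · rw [pow_zero, orderOf_eq_one_iff] at hk; simp [hk]
  · rw [← sq, ← orderOf_dvd_iff_pow_eq_one, hk]; norm_num
  · exact absurd (hk ▸ ⟨2 ^ k, by ring⟩) (h.not_sq_dvd x).1

theorem TwoR.two_group_comm [Finite G] (h : TwoR G r) {P : Subgroup G} (hP : IsPGroup 2 P) :
    IsMulCommutative P := by
  refine ⟨⟨fun a b => Subtype.ext ?_⟩⟩
  have ha := h.two_group_sq hP a.2
  have hb := h.two_group_sq hP b.2
  have hab := h.two_group_sq hP (P.mul_mem a.2 b.2)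
  calc (a : G) * b = (a * b)⁻¹ := eq_inv_of_mul_eq_one_left hab
    _ = (b : G)⁻¹ * (a : G)⁻¹ := mul_inv_rev _ _
    _ = b * a := by rw [inv_eq_of_mul_eq_one_right ha, inv_eq_of_mul_eq_one_right hb]

theorem TwoR.r_group_pow [Finite G] (h : TwoR G r) {P : Subgroup G} (hP : IsPGroup r P) {x : G}
    (hx : x ∈ P) : x ^ r = 1 := by
  haveI := Fact.mk h.prime
  obtain ⟨k, hk⟩ := IsPGroup.iff_orderOf.1 hP ⟨x, hx⟩
  rw [orderOf_mk] at hk
  rcases k with _ | _ | k
  · rw [pow_zero, orderOf_eq_one_iff] at hk; simp [hk]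
  · rw [← orderOf_dvd_iff_pow_eq_one, hk, pow_one]
  · exact absurd (hk ▸ ⟨r ^ k, by ring⟩) (h.not_sq_dvd x).2

/-- The primes of an element commuting with an element of order `2` or `r`. -/
theorem TwoR.primes_of_commute [Finite G] (h : TwoR G r) {t x : G}
    (ht : orderOf t = 2 ∨ orderOf t = r) (hc : Commute x t) {ℓ : ℕ} (hℓ : ℓ.Prime)
    (hd : ℓ ∣ orderOf x) : ℓ = 2 ∨ ℓ = r := by
  by_contra hcon
  push Not at hcon
  set y := x ^ (orderOf x / ℓ) with hy
  have hyo : orderOf y = ℓ := orderOf_pow_orderOf_div (orderOf_pos x).ne' hd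
  have hcop : (orderOf y).Coprime (orderOf t) := by
    rcases ht with ht | ht <;> rw [hyo, ht]
    · exact (Nat.coprime_primes hℓ Nat.prime_two).2 hcon.1
    · exact (Nat.coprime_primes hℓ h.prime).2 hcon.2
  have ho := (hc.pow_left (orderOf x / ℓ)).orderOf_mul_eq_mul_orderOf_of_coprime hcop
  refine h.not_two_mul hℓ hcon.1 hcon.2 (g := y * t) ?_ (by rw [ho, hyo]; exact dvd_mul_right _ _)
  rcases ht with ht | ht <;> rw [ho, ht]
  · exact Or.inl (dvd_mul_left _ _)
  · exact Or.inr (dvd_mul_left _ _)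

theorem TwoR.primes_of_le_centralizer [Finite G] (h : TwoR G r) {t : G}
    (ht : orderOf t = 2 ∨ orderOf t = r) {K : Subgroup G}
    (hK : K ≤ Subgroup.centralizer ({t} : Set G)) {ℓ : ℕ} (hℓ : ℓ.Prime) (hd : ℓ ∣ Nat.card K) :
    ℓ = 2 ∨ ℓ = r := by
  haveI := Fact.mk hℓ
  obtain ⟨x, hx⟩ := exists_prime_orderOf_dvd_card' ℓ hd
  rw [← Subgroup.orderOf_coe] at hx
  exact h.primes_of_commute ht (mem_centralizer_singleton_iff.1 (hK x.2)) hℓ (by rw [hx])

theorem TwoR.solvable_of_le_centralizer [Finite G] (h : TwoR G r) {t : G}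
    (ht : orderOf t = 2 ∨ orderOf t = r) {K : Subgroup G}
    (hK : K ≤ Subgroup.centralizer ({t} : Set G)) : Group.IsSolvable K :=
  ThreeCounts.two_prime_solvable 2 r Nat.prime_two h.prime
    fun _ hℓ hd => h.primes_of_le_centralizer ht hK hℓ hd

end Cfsg.Agent.Grp.ThreeOrders
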