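import Mathlib
import Cfsg.Agent.Lib.Grp.Coprime
import Cfsg.Agent.Lib.Grp.CoprimeAbelian
import Cfsg.Agent.Lib.Grp.Solvable
import Cfsg.Agent.Lib.Grp.ThreeOrders.Basic

/-!
If `y` acts freely on an abelian group `A` and `A` does not centralise an invariant solvable
subgroup `W` of coprime order, then some element of `W y` has order larger than that of `y`.
-/

set_option autoImplicit false
set_option linter.style.haveILetI false

universe u

namespace Cfsg.Agent.Grp.ThreeOrders

open Subgroup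
open scoped commutatorElement

variable {G : Type u} [Group G]

theorem abelian_lift [Finite G] (A V : Subgroup G) [IsMulCommutative A] [IsMulCommutative V]
    (hAV : A ≤ Subgroup.normalizer (V : Set G)) (hcop : (Nat.card A).Coprime (Nat.card V)) {y : G}
    (hyV : y ∈ Subgroup.normalizer (V : Set G)) (hyA : y ∈ Subgroup.normalizer (A : Set G)) {n : ℕ}
    (hn : 0 < n) (hy : y ^ n = 1)
    (hfree : ∀ i, 0 < i → i < n → ∀ a ∈ A, Commute a (y ^ i) → a = 1)
    (hne : ¬ A ≤ Subgroup.centralizer (V : Set G)) : ∃ v ∈ V, (v * y) ^ n ≠ 1 := by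
  classical
  by_contra hcon
  push Not at hcon
  apply hne
  obtain ⟨m, rfl⟩ : ∃ m, n = m + 1 := ⟨n - 1, by omega⟩
  let φ := conjEnd (Subgroup.normalizer (V : Set G)) V le_rfl
  let Y : Subgroup.normalizer (V : Set G) := ⟨y, hyV⟩
  let ι : A → Subgroup.normalizer (V : Set G) := fun a => ⟨a, hAV a.2⟩
  have φmul : ∀ g h v, φ (g * h) v = φ g (φ h v) := fun g h v =>
    Subtype.ext (by simp [φ, conjEnd, mul_assoc])
  have φone : ∀ v, φ 1 v = v := fun v => Subtype.ext (by simp [φ, conjEnd])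
  let _ : Fintype A := Fintype.ofFinite A
  open scoped IsMulCommutative in
  let T : V →* V := ∏ a : A, φ (ι a)
  have hT : ∀ v : V, T v = ∏ a : A, φ (ι a) v := by
    intro v
    open scoped IsMulCommutative in
    exact MonoidHom.finsetProd_apply _ _ v
  -- the norms vanish
  have hpow : ∀ (v : V) (k : ℕ), ((v : G) * y) ^ k =
      ((∏ i ∈ Finset.range k, φ (Y ^ i) v : V) : G) * y ^ k := by
    intro v k
    induction k with
    | zero => simp
    | succ k ih =>
      open scoped IsMulCommutative in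
      rw [Finset.prod_range_succ, Subgroup.coe_mul, pow_succ, ih, pow_succ]
      simp [φ, conjEnd, Y, mul_assoc]
  have hN : ∀ v : V, (∏ i ∈ Finset.range (m + 1), φ (Y ^ i) v : V) = 1 := by
    intro v
    have := hcon v v.2
    rw [hpow v (m + 1), hy, mul_one] at this
    exact Subtype.ext this
  -- the bijection given by a free element
  have hbij : ∀ (j : ℕ), 0 < j → j < m + 1 → ∀ v : V,
      (∏ a : A, φ (ι a * Y ^ j * (ι a)⁻¹) v) = T (φ (Y ^ j) v) := by
    intro j hj hj' v
    have hnj : ∀ a ∈ A, y ^ j * a⁻¹ * (y ^ j)⁻¹ ∈ A := fun a ha =>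
      mem_conj_normalizer ((Subgroup.normalizer (A : Set G)).pow_mem hyA j) (A.inv_mem ha)
    let e : A → A := fun a => ⟨(a : G) * (y ^ j * (a : G)⁻¹ * (y ^ j)⁻¹), A.mul_mem a.2 (hnj a a.2)⟩
    have hinj : Function.Injective e := by
      intro a b hab
      have h0 : (a : G) * (y ^ j * (a : G)⁻¹ * (y ^ j)⁻¹) = (b : G) * (y ^ j * (b : G)⁻¹ * (y ^ j)⁻¹) :=
        congrArg Subtype.val hab
      have hcm : (b : G)⁻¹ * a = a * (b : G)⁻¹ :=
        congrArg Subtype.val (IsMulCommutative.is_comm.comm (b⁻¹) a)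
      have h1 : (b : G)⁻¹ * a = y ^ j * ((b : G)⁻¹ * a) * (y ^ j)⁻¹ := by
        calc (b : G)⁻¹ * a = (b : G)⁻¹ * (a * (y ^ j * (a : G)⁻¹ * (y ^ j)⁻¹)) * (y ^ j * a * (y ^ j)⁻¹) := by
              group
          _ = (b : G)⁻¹ * (b * (y ^ j * (b : G)⁻¹ * (y ^ j)⁻¹)) * (y ^ j * a * (y ^ j)⁻¹) := by rw [h0]
          _ = _ := by group
      have h2 := hfree j hj hj' _ (A.mul_mem (A.inv_mem b.2) a.2) (by
        show _ * y ^ j = y ^ j * _
        nth_rewrite 1 [h1]; group)
      exact Subtype.ext (inv_mul_eq_one.1 h2).symm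
    rw [hT]
    refine Fintype.prod_bijective e (Finite.injective_iff_bijective.1 hinj) _ _ fun a => ?_
    rw [← φmul]
    congr 2
    apply Subtype.ext
    simp [ι, e, Y]; group
  -- the key identity
  have key : ∀ v : V, v ^ Nat.card A = T v := by
    intro v
    open scoped IsMulCommutative in
    have h1 : ∏ a : A, ∏ i ∈ Finset.range (m + 1), φ (ι a * Y ^ i * (ι a)⁻¹) v = 1 := by
      refine Finset.prod_eq_one fun a _ => ?_
      have e : ∀ i ∈ Finset.range (m + 1),
          φ (ι a * Y ^ i * (ι a)⁻¹) v = φ (ι a) (φ (Y ^ i) (φ (ι a)⁻¹ v)) := fun i _ => by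
        rw [φmul, φmul]
      rw [Finset.prod_congr rfl e, ← map_prod, hN, map_one]
    open scoped IsMulCommutative in
    rw [Finset.prod_comm, Finset.prod_range_succ'] at h1
    open scoped IsMulCommutative in
    have h2 : ∀ i ∈ Finset.range m, (∏ a : A, φ (ι a * Y ^ (i + 1) * (ι a)⁻¹) v) = T (φ (Y ^ (i + 1)) v) :=
      fun i hi => hbij (i + 1) (by omega) (by have := Finset.mem_range.1 hi; omega) v
    open scoped IsMulCommutative in
    rw [Finset.prod_congr rfl h2, ← map_prod] at h1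
    open scoped IsMulCommutative in
    have h3 : (∏ i ∈ Finset.range m, φ (Y ^ (i + 1)) v) * v = 1 := by
      have := hN v
      rwa [Finset.prod_range_succ', pow_zero, φone] at this
    open scoped IsMulCommutative in
    rw [eq_inv_of_mul_eq_one_left h3, map_inv, inv_mul_eq_one] at h1
    rw [h1]
    simp [φone, Nat.card_eq_fintype_card]
  -- conclusion
  intro a ha
  rw [Subgroup.mem_centralizer_iff]
  intro x hx
  have hfix : ∀ v : V, φ (ι ⟨a, ha⟩) (T v) = T v := by
    intro v
    open scoped IsMulCommutative in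
    rw [hT, map_prod]
    open scoped IsMulCommutative in
    refine Fintype.prod_equiv (Equiv.mulLeft (⟨a, ha⟩ : A)) _ _ fun b => ?_
    rw [← φmul]
    rfl
  obtain ⟨u, hu⟩ := (powCoprime hcop.symm).surjective (⟨x, hx⟩ : V)
  rw [powCoprime_apply, key] at hu
  have := congrArg Subtype.val (hfix u)
  rw [hu] at this
  exact (eq_mul_inv_iff_mul_eq.1 this.symm : x * a = a * x)

/-- Powers of an element of the coset `W y`. -/
theorem mul_pow_mul_inv_mem (W : Subgroup G) {y : G}
    (hyW : y ∈ Subgroup.normalizer (W : Set G)) {w : G} (hw : w ∈ W) (k : ℕ) :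
    (w * y) ^ k * (y ^ k)⁻¹ ∈ W := by
  induction k with
  | zero => simp
  | succ k ih =>
    have h1 := W.mul_mem ih (mem_conj_normalizer ((Subgroup.normalizer (W : Set G)).pow_mem hyW k) hw)
    convert h1 using 1
    rw [pow_succ, pow_succ]; group

/-- The same with a solvable `W`. -/
theorem solvable_lift [Finite G] (A W : Subgroup G) [IsMulCommutative A] (hW : Group.IsSolvable W)
    (hAW : A ≤ Subgroup.normalizer (W : Set G)) (hcop : (Nat.card A).Coprime (Nat.card W)) {y : G}
    (hyW : y ∈ Subgroup.normalizer (W : Set G)) (hyA : y ∈ Subgroup.normalizer (A : Set G)) {n : ℕ}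
    (hn : 0 < n) (hy : y ^ n = 1)
    (hfree : ∀ i, 0 < i → i < n → ∀ a ∈ A, Commute a (y ^ i) → a = 1)
    (hne : ¬ A ≤ Subgroup.centralizer (W : Set G)) :
    ∃ w ∈ W, (w * y) ^ n ≠ 1 := by
  classical
  induction hc : Nat.card W using Nat.strong_induction_on generalizing W with
  | _ c ih =>
    subst hc
    have hW1 : W ≠ ⊥ := by
      rintro rfl
      refine hne fun a _ => ?_
      rw [Subgroup.mem_centralizer_iff]
      intro x hx
      rw [Subgroup.mem_bot.1 hx]; simp
    set D := ⁅W, W⁆ with hD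
    have hDW : D ≤ W := Subgroup.commutator_le_self W
    have hND : ∀ g ∈ Subgroup.normalizer (W : Set G), g ∈ Subgroup.normalizer (D : Set G) := by
      intro g hg
      rw [mem_normalizer_iff_smul, hD, ← map_conj_eq_smul, Subgroup.map_commutator, map_conj_eq_smul,
        mem_normalizer_iff_smul.1 hg]
    have hDc : Nat.card D < Nat.card W := by
      have hlt : D < W := lt_of_le_of_ne hDW fun e => hW1 ?_
      · exact lt_of_le_of_ne (Nat.le_of_dvd Nat.card_pos (Subgroup.card_dvd_of_le hDW))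
          fun e => hlt.ne (Subgroup.eq_of_le_of_card_ge hDW e.ge)
      · by_contra hb
        exact (commutator_lt_self_of_solvable hW hb).ne e
    by_cases hDA : A ≤ Subgroup.centralizer (D : Set G)
    swap
    · obtain ⟨w, hw, hw'⟩ := ih _ hDc D (isSolvable_of_le hDW hW) (fun a ha => hND a (hAW ha))
        (hcop.coprime_dvd_right (Subgroup.card_dvd_of_le hDW)) (hND y hyW) hDA rfl
      exact ⟨w, hDW hw, hw'⟩
    -- the action on the abelian quotient
    have hWA : ¬ ⁅W, A⁆ ≤ D := fun hle => hne (le_centralizer_of_series A W D hAW hcop (Or.inr hW) hle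
      (by rw [Subgroup.commutator_comm]; exact Subgroup.commutator_eq_bot_iff_le_centralizer.mpr hDA))
    set H := Subgroup.normalizer (D : Set G) with hH
    have hWH : W ≤ H := fun w hw => hND w (Subgroup.le_normalizer hw)
    have hAH : A ≤ H := fun a ha => hND a (hAW ha)
    haveI hDn : (D.subgroupOf H).Normal := Subgroup.normal_subgroupOf_of_le_normalizer le_rfl
    let q := QuotientGroup.mk' (D.subgroupOf H)
    let V' := (W.subgroupOf H).map q
    let A' := (A.subgroupOf H).map q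
    have hq : ∀ {g : H}, q g = 1 ↔ (g : G) ∈ D := fun {g} => by
      rw [QuotientGroup.mk'_apply, QuotientGroup.eq_one_iff, Subgroup.mem_subgroupOf]
    have hV' : IsMulCommutative V' := by
      refine ⟨⟨?_⟩⟩
      rintro ⟨_, g, hg, rfl⟩ ⟨_, h, hh, rfl⟩
      refine Subtype.ext ?_
      show q g * q h = q h * q g
      have : q ⁅g, h⁆ = 1 := hq.2 (by
        simpa [commutatorElement_def] using Subgroup.commutator_mem_commutator (H₁ := W) hg hh)
      rw [commutatorElement_def, map_mul, map_mul, map_mul, map_inv, map_inv] at this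
      calc q g * q h = q g * q h * (q g)⁻¹ * (q h)⁻¹ * (q h * q g) := by group
        _ = _ := by rw [this, one_mul]
    have hA' : IsMulCommutative A' := by
      refine ⟨⟨?_⟩⟩
      rintro ⟨_, g, hg, rfl⟩ ⟨_, h, hh, rfl⟩
      refine Subtype.ext ?_
      show q g * q h = q h * q g
      rw [← map_mul, ← map_mul]
      have e : (g : G) * h = h * g := congrArg Subtype.val
        (IsMulCommutative.is_comm.comm (⟨_, hg⟩ : A) ⟨_, hh⟩)
      exact congrArg q (Subtype.ext e)
    have hnorm : ∀ (B : Subgroup G) (x : H), (x : G) ∈ Subgroup.normalizer (B : Set G) →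
        q x ∈ Subgroup.normalizer ((((B.subgroupOf H).map q : Subgroup (H ⧸ D.subgroupOf H))) : Set (H ⧸ D.subgroupOf H)) := by
      intro B x hx
      refine Subgroup.mem_normalizer_iff.2 fun z => ⟨?_, ?_⟩
      · rintro ⟨g, hg, rfl⟩
        exact ⟨x * g * x⁻¹, mem_conj_normalizer (K := B) hx hg, by simp⟩
      · rintro ⟨g, hg, e⟩
        exact ⟨x⁻¹ * g * x, mem_conj_normalizer' (K := B) hx hg, by
          rw [map_mul, map_mul, map_inv, e]; group⟩
    have hcard : ∀ (B : Subgroup G), B ≤ H → Nat.card ↥((B.subgroupOf H).map q) ∣ Nat.card B :=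
      fun B hB => (Subgroup.card_map_dvd _ q).trans
        (dvd_of_eq (Nat.card_congr (Subgroup.subgroupOfEquivOfLe hB).toEquiv))
    obtain ⟨v, ⟨w, hw, rfl⟩, hv⟩ := abelian_lift A' V'
      (by rintro _ ⟨a, ha, rfl⟩; exact hnorm W a (hAW ha))
      ((hcop.coprime_dvd_left (hcard A hAH)).coprime_dvd_right (hcard W hWH))
      (y := q ⟨y, hND y hyW⟩) (hnorm W _ hyW) (hnorm A _ hyA) hn
      (by rw [← map_pow, hq]; simp [hy])
      (by
        rintro i hi hi' _ ⟨a, ha, rfl⟩ hc
        have h1 : q ⁅a, (⟨y, hND y hyW⟩ : H) ^ i⁆ = 1 := by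
          rw [map_commutatorElement, commutatorElement_eq_one_iff_mul_comm, map_pow]
          exact hc.eq
        have h2 : ⁅(a : G), y ^ i⁆ ∈ D := by simpa [commutatorElement_def] using hq.1 h1
        have h3 : ⁅(a : G), y ^ i⁆ ∈ A := by
          rw [commutatorElement_def, mul_assoc, mul_assoc, ← mul_assoc (y ^ i)]
          exact A.mul_mem ha
            (mem_conj_normalizer ((Subgroup.normalizer (A : Set G)).pow_mem hyA i) (A.inv_mem ha))
        have h4 : ⁅(a : G), y ^ i⁆ ∈ A ⊓ W := ⟨h3, hDW h2⟩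
        rw [inf_eq_bot_of_coprime hcop, Subgroup.mem_bot, commutatorElement_eq_one_iff_mul_comm] at h4
        rw [show a = 1 from Subtype.ext (hfree i hi hi' _ ha h4), map_one])
      (by
        intro hle
        refine hWA (Subgroup.commutator_le.2 fun w hw a ha => ?_)
        have h1 := Subgroup.mem_centralizer_iff.1 (hle ⟨⟨a, hAH ha⟩, ha, rfl⟩) _ ⟨⟨w, hWH hw⟩, hw, rfl⟩
        rw [← commutatorElement_eq_one_iff_mul_comm, ← map_commutatorElement, hq] at h1
        simpa [commutatorElement_def] using h1)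
    refine ⟨w, hw, fun h0 => hv ?_⟩
    rw [← map_mul, ← map_pow, hq]
    simp [h0]

theorem commutator_le_left_zpowers {A : Subgroup G} {y : G}
    (hyA : y ∈ Subgroup.normalizer (A : Set G)) : ⁅A, Subgroup.zpowers y⁆ ≤ A :=
  commutator_le_left_of_le_normalizer (Subgroup.zpowers_le.2 hyA)

theorem free_commutator_eq [Finite G] {A : Subgroup G} {y : G}
    (hyA : y ∈ Subgroup.normalizer (A : Set G)) (hcop : (Nat.card A).Coprime (orderOf y))
    (hfix : ∀ a ∈ A, Commute a y → a = 1) : ⁅A, Subgroup.zpowers y⁆ = A := by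
  haveI : Group.IsSolvable (Subgroup.zpowers y) := inferInstance
  have h := commutator_sup_fixed (Subgroup.zpowers y) A (Subgroup.zpowers_le.2 hyA)
    (by rw [Nat.card_zpowers]; exact hcop.symm) (Or.inl inferInstance)
  rwa [show A ⊓ Subgroup.centralizer (Subgroup.zpowers y : Set G) = ⊥ from ?_, sup_bot_eq] at h
  rw [eq_bot_iff]
  rintro a ⟨ha, hc⟩
  exact Subgroup.mem_bot.2
    (hfix a ha (Subgroup.mem_centralizer_iff.1 hc y (Subgroup.mem_zpowers y)).symm)

/-- An element of prime order and an abelian `A`: a coset element of larger order, unless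
`[A,y]` centralises `W`. -/
theorem prime_lift [Finite G] {p : ℕ} [Fact p.Prime] (A W : Subgroup G) [IsMulCommutative A]
    (hW : IsPGroup p W) (hAW : A ≤ Subgroup.normalizer (W : Set G)) (hA : ¬ p ∣ Nat.card A) {y : G}
    (hyW : y ∈ Subgroup.normalizer (W : Set G)) (hyA : y ∈ Subgroup.normalizer (A : Set G)) {n : ℕ}
    (hn : n.Prime) (hy : orderOf y = n) (hnA : ¬ n ∣ Nat.card A)
    (hne : ¬ ⁅A, Subgroup.zpowers y⁆ ≤ Subgroup.centralizer (W : Set G)) :
    ∃ g : G, n * p ∣ orderOf g := by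
  have hp : p.Prime := Fact.out
  set B := ⁅A, Subgroup.zpowers y⁆ with hB
  have hBA : B ≤ A := commutator_le_left_zpowers hyA
  have hBc : IsMulCommutative B := ⟨⟨fun a b => Subtype.ext (by
    have e : (a : G) * b = b * a := congrArg Subtype.val
      (IsMulCommutative.is_comm.comm (⟨a, hBA a.2⟩ : A) ⟨b, hBA b.2⟩)
    exact e)⟩⟩
  obtain ⟨k, hk⟩ := hW.exists_card_eq
  have hcop : (Nat.card B).Coprime (Nat.card W) := by
    rw [hk]
    exact ((hp.coprime_iff_not_dvd.2 hA).symm.pow_right k).coprime_dvd_left (Subgroup.card_dvd_of_le hBA)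
  haveI := hW.isNilpotent
  obtain ⟨w, hw, hw'⟩ := solvable_lift B W inferInstance (hBA.trans hAW) hcop hyW
    (right_le_normalizer_commutator (Subgroup.zpowers y) A (Subgroup.mem_zpowers y))
    hn.pos (by rw [← hy, pow_orderOf_eq_one]) (fun i hi hi' a ha hc => by
      have hz : y ∈ Subgroup.zpowers (y ^ i) := by
        rw [mem_zpowers_pow_iff, hy, ← Nat.coprime_iff_gcd_eq_one]
        exact Nat.Coprime.symm (hn.coprime_iff_not_dvd.2
          fun hd => absurd (Nat.le_of_dvd hi hd) (by omega))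
      have hcy : Commute a y := by
        obtain ⟨j, hj⟩ := Subgroup.mem_zpowers_iff.1 hz
        exact hj ▸ hc.zpow_right j
      have hmem : a ∈ (A ⊓ Subgroup.centralizer (Subgroup.zpowers y : Set G)) ⊓ B := by
        refine ⟨⟨hBA ha, Subgroup.mem_centralizer_iff.2 fun z hz => ?_⟩, ha⟩
        obtain ⟨j, rfl⟩ := Subgroup.mem_zpowers_iff.1 hz
        exact (hcy.zpow_right j).eq.symm
      rw [hB, abelian_commutator_inf_fixed (Subgroup.zpowers y) A (Subgroup.zpowers_le.2 hyA)
        (by rw [Nat.card_zpowers, hy]; exact hn.coprime_iff_not_dvd.2 hnA)] at hmem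
      exact Subgroup.mem_bot.1 hmem) hne
  refine ⟨w * y, ?_⟩
  set g := w * y
  have hgn : g ^ n ∈ W := by
    have := mul_pow_mul_inv_mem W hyW hw n
    rwa [show y ^ n = 1 by rw [← hy, pow_orderOf_eq_one], inv_one, mul_one] at this
  obtain ⟨j, hj⟩ := IsPGroup.iff_orderOf.1 hW ⟨_, hgn⟩
  rw [orderOf_mk] at hj
  have hdiv : orderOf g ∣ n * p ^ j :=
    orderOf_dvd_of_pow_eq_one (by rw [pow_mul, ← hj, pow_orderOf_eq_one])
  obtain ⟨d, hd⟩ : p ∣ orderOf (g ^ n) := by
    rw [hj]
    refine dvd_pow_self p fun e => hw' ?_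
    rw [e, pow_zero, orderOf_eq_one_iff] at hj
    exact hj
  have hpg : p ∣ orderOf g := (Dvd.intro d hd.symm).trans (orderOf_pow_dvd n)
  have hng : n ∣ orderOf g := by
    by_contra hnd
    have hcop' : (orderOf g).Coprime n := (hn.coprime_iff_not_dvd.2 hnd).symm
    have hdp : orderOf g ∣ p ^ j := hcop'.dvd_of_dvd_mul_left hdiv
    obtain ⟨i, -, hi⟩ := (Nat.dvd_prime_pow hp).1 hdp
    have h1 := mul_pow_mul_inv_mem W hyW hw (p ^ i)
    rw [show (w * y) ^ (p ^ i) = 1 by rw [← hi]; exact pow_orderOf_eq_one g, one_mul,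
      W.inv_mem_iff] at h1
    obtain ⟨l, hl⟩ := IsPGroup.iff_orderOf.1 hW ⟨_, h1⟩
    rw [orderOf_mk] at hl
    have hnp : n ≠ p := fun e => hnd (e ▸ hpg)
    have hone : orderOf (y ^ p ^ i) = n := by
      rw [orderOf_pow, hy, Nat.Coprime.gcd_eq_one
        (((Nat.coprime_primes hn hp).2 hnp).pow_right i), Nat.div_one]
    exact hnp ((Nat.prime_dvd_prime_iff_eq hn hp).1 (hn.dvd_of_dvd_pow (by rw [← hl, hone])))
  by_cases hnp : n = p
  · subst hnp
    by_contra hnn
    obtain ⟨i, hi, hig⟩ := (Nat.dvd_prime_pow hp).1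
      (hdiv.trans (dvd_of_eq (pow_succ' n j).symm))
    rcases i with _ | _ | i
    · rw [hig, pow_zero] at hng; exact hn.not_dvd_one hng
    · exact hw' (by rw [← orderOf_dvd_iff_pow_eq_one, hig, pow_one])
    · exact hnn (hig ▸ ⟨n ^ i, by ring⟩)
  · exact ((Nat.coprime_primes hn hp).2 hnp).mul_dvd_of_dvd_of_dvd hng hpg

/-- In the case `TwoR`: `[A,y]` centralises `W`. -/
theorem TwoR.lift [Finite G] {r : ℕ} (h : TwoR G r) {p : ℕ} [Fact p.Prime] (hp : p = 2 ∨ p = r)
    (A W : Subgroup G) [IsMulCommutative A] (hW : IsPGroup p W)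
    (hAW : A ≤ Subgroup.normalizer (W : Set G)) (hA : ¬ p ∣ Nat.card A) {y : G}
    (hyW : y ∈ Subgroup.normalizer (W : Set G)) (hyA : y ∈ Subgroup.normalizer (A : Set G)) {n : ℕ}
    (hn : n.Prime) (hy : orderOf y = n) (hnA : ¬ n ∣ Nat.card A) (hnp : ¬ n * p ∣ 2 * r) :
    ⁅A, Subgroup.zpowers y⁆ ≤ Subgroup.centralizer (W : Set G) := by
  by_contra hne
  obtain ⟨g, hg⟩ := prime_lift A W hW hAW hA hyW hyA hn hy hnA hne
  have hpg : p ∣ orderOf g := (dvd_mul_left p n).trans hg
  refine hnp (hg.trans (h.dvd ?_))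
  rcases hp with rfl | rfl
  · exact Or.inl hpg
  · exact Or.inr hpg

/-- A 2-group on an `r`-group with an element of odd prime order. -/
theorem TwoR.lift_two [Finite G] {r : ℕ} (h : TwoR G r) (A W : Subgroup G) (hA : IsPGroup 2 A)
    (hW : IsPGroup r W) (hAW : A ≤ Subgroup.normalizer (W : Set G)) {y : G}
    (hyW : y ∈ Subgroup.normalizer (W : Set G)) (hyA : y ∈ Subgroup.normalizer (A : Set G)) {n : ℕ}
    (hn : n.Prime) (hn2 : n ≠ 2) (hy : orderOf y = n) :
    ⁅A, Subgroup.zpowers y⁆ ≤ Subgroup.centralizer (W : Set G) := by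
  haveI := Fact.mk h.prime
  haveI := h.two_group_comm hA
  haveI := Fact.mk Nat.prime_two
  obtain ⟨k, hk⟩ := hA.exists_card_eq
  have hno : ∀ q : ℕ, q.Prime → q ≠ 2 → ¬ q ∣ Nat.card A := fun q hq hq2 hd =>
    hq2 ((Nat.prime_dvd_prime_iff_eq hq Nat.prime_two).1 (hq.dvd_of_dvd_pow (hk ▸ hd)))
  refine h.lift (Or.inr rfl) A W hW hAW (hno r h.prime h.ne_two) hyW hyA hn hy (hno n hn hn2) ?_
  intro hd
  have := Nat.dvd_of_mul_dvd_mul_right h.prime.pos hd
  exact hn2 ((Nat.prime_dvd_prime_iff_eq hn Nat.prime_two).1 this)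

end Cfsg.Agent.Grp.ThreeOrders
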