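import Mathlib
import Cfsg.Prelude
import Cfsg.Agent.Lib.Grp.ThreeOrders.Lift
import Cfsg.Agent.Lib.Grp.Cores
import Cfsg.Agent.Lib.Grp.Frattini
import Cfsg.Agent.Lib.Transfer.Abelian
import Cfsg.Agent.Lib.Transfer.NormalComplement
import Cfsg.Agent.Lib.Invol.Sylow

/-!
In the case `TwoR` a nonsolvable group has trivial solvable radical and a simple socle.
-/

set_option autoImplicit false
set_option linter.style.haveILetI false
set_option linter.unusedSectionVars false

universe u

namespace Cfsg.Agent.Grp.ThreeOrders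

open Subgroup
open scoped commutatorElement

variable {G : Type u} [Group G] [Finite G] {r : ℕ}

theorem odd_solvable {H : Type u} [Group H] [Finite H] (h : ¬ 2 ∣ Nat.card H) : Group.IsSolvable H :=
  Cfsg.Agent.S0205.result (Nat.not_even_iff_odd.1 fun he => h he.two_dvd)

theorem solvable_ext (N : Subgroup G) [N.Normal] (h1 : Group.IsSolvable N)
    (h2 : Group.IsSolvable (G ⧸ N)) : Group.IsSolvable G :=
  (Group.isSolvable_iff_subgroup_quotient N).2 ⟨h1, h2⟩

theorem exists_involution {P : Subgroup G} (hP : IsPGroup 2 P) (hP1 : P ≠ ⊥) :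
    ∃ t ∈ P, orderOf t = 2 := by
  haveI := Fact.mk Nat.prime_two
  obtain ⟨k, hk⟩ := hP.exists_card_eq
  have hk0 : k ≠ 0 := fun e => hP1 (Subgroup.eq_bot_of_card_eq P (by simpa [e] using hk))
  exact Invol.exists_orderOf_two_mem (by rw [hk]; exact Nat.even_pow.2 ⟨even_two, hk0⟩)

theorem TwoR.orderOf_eq_two (h : TwoR G r) {P : Subgroup G} (hP : IsPGroup 2 P) {a : G}
    (ha : a ∈ P) (ha1 : a ≠ 1) : orderOf a = 2 :=
  orderOf_eq_prime (by rw [sq]; exact h.two_group_sq hP ha) ha1

theorem TwoR.pCore_eq_bot (h : TwoR G r) (hns : ¬ Group.IsSolvable G) : Cfsg.pCore 2 G = ⊥ := by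
  haveI := Fact.mk Nat.prime_two
  by_contra hne
  obtain ⟨t, ht, ht2⟩ := exists_involution pCore_isPGroup hne
  haveI := pCore_isNormal (p := 2) (G := G)
  obtain ⟨S⟩ : Nonempty (Sylow 2 G) := inferInstance
  have hc := h.two_group_comm S.isPGroup'
  set C := Subgroup.centralizer (Cfsg.pCore 2 G : Set G) with hC
  have hSC : (S : Subgroup G) ≤ C := fun s hs => Subgroup.mem_centralizer_iff.2 fun x hx =>
    congrArg Subtype.val (hc.is_comm.comm ⟨x, pCore_le_sylow S hx⟩ ⟨s, hs⟩)
  haveI : C.Normal := inferInstance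
  refine hns (solvable_ext C ?_ (odd_solvable fun hd => S.not_dvd_index
    (dvd_trans (by rwa [← Subgroup.index_eq_card] at hd) (Subgroup.index_dvd_of_le hSC))))
  exact h.solvable_of_le_centralizer (Or.inl ht2)
    (Subgroup.centralizer_le (Set.singleton_subset_iff.2 ht))

theorem exists_noncentral_prime_power (hns : ¬ Group.IsSolvable G) (S : Sylow 2 G)
    (hS : IsMulCommutative (S : Subgroup G)) :
    ∃ q : ℕ, q.Prime ∧ q ≠ 2 ∧ ∃ g ∈ Subgroup.normalizer ((S : Subgroup G) : Set G),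
      (∃ k, orderOf g = q ^ k) ∧ g ∉ Subgroup.centralizer ((S : Subgroup G) : Set G) := by
  haveI := Fact.mk Nat.prime_two
  by_contra hcon
  push Not at hcon
  obtain ⟨N, hN, hd, k, hk⟩ := Transfer.hasNormalPComplement_iff_exists.1
    (Transfer.hasNormalPComplement_of_prime_elements S hS fun q hq hq2 g hg ⟨j, hj⟩ x hx => by
      rw [mul_inv_eq_iff_eq_mul]
      exact (Subgroup.mem_centralizer_iff.1 (hcon q hq hq2 g hg ⟨j, hj⟩) x hx).symm)
  refine hns (solvable_ext N (odd_solvable hd) ?_)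
  haveI := (IsPGroup.of_card (p := 2) (n := k) (G := G ⧸ N) (by rw [← Subgroup.index_eq_card, hk])).isNilpotent
  infer_instance

theorem TwoR.not_cyclic (h : TwoR G r) (hns : ¬ Group.IsSolvable G) (S : Sylow 2 G) :
    ¬ IsCyclic (S : Subgroup G) := by
  intro hc
  obtain ⟨q, _, _, g, hg, _, hgC⟩ := exists_noncentral_prime_power hns S (h.two_group_comm S.isPGroup')
  refine hgC (Subgroup.mem_centralizer_iff.2 fun x hx => ?_)
  have hgx := mem_conj_normalizer hg hx
  obtain ⟨a, ha⟩ := hc.exists_generator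
  have two : ∀ y : G, y ∈ (S : Subgroup G) → y = 1 ∨ y = a := by
    intro y hy
    obtain ⟨j, hj⟩ := Subgroup.mem_zpowers_iff.1 (ha ⟨y, hy⟩)
    have ha2 : a ^ (2 : ℤ) = 1 := Subtype.ext (by
      rw [show ((2 : ℤ)) = ((2 : ℕ) : ℤ) from rfl, zpow_natCast, SubmonoidClass.coe_pow, sq]
      exact h.two_group_sq S.isPGroup' a.2)
    rcases Int.even_or_odd j with ⟨i, hi⟩ | ⟨i, hi⟩
    · left
      rw [hi, ← two_mul, zpow_mul, ha2, one_zpow] at hj
      exact (congrArg Subtype.val hj).symm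
    · right
      rw [hi, zpow_add, zpow_mul, ha2, one_zpow, one_mul, zpow_one] at hj
      exact (congrArg Subtype.val hj).symm
  rcases two x hx with rfl | hxa
  · simp
  rcases two _ hgx with e | e
  · rw [show x = 1 by rw [mul_inv_eq_one, mul_eq_left] at e; exact e]; simp
  · exact (mul_inv_eq_iff_eq_mul.1 (e.trans hxa.symm)).symm

/-- An element of odd prime order of `N(S)` acting nontrivially modulo `S₀`. -/
theorem TwoR.exists_prime_elt (h : TwoR G r) (S : Sylow 2 G) (S₀ : Subgroup G)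
    (hN : Subgroup.normalizer ((S : Subgroup G) : Set G) ≤ Subgroup.normalizer (S₀ : Set G))
    (hne : ¬ ⁅(S : Subgroup G), Subgroup.normalizer ((S : Subgroup G) : Set G)⁆ ≤ S₀) :
    ∃ y ∈ Subgroup.normalizer ((S : Subgroup G) : Set G), (orderOf y).Prime ∧ orderOf y ≠ 2 ∧
      ¬ ⁅(S : Subgroup G), Subgroup.zpowers y⁆ ≤ S₀ := by
  haveI := Fact.mk Nat.prime_two
  set N := Subgroup.normalizer ((S : Subgroup G) : Set G) with hNdef
  by_contra hcon
  push Not at hcon
  apply hne
  let K : Subgroup G :=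
    { carrier := {x | x ∈ N ∧ ∀ s ∈ (S : Subgroup G), ⁅s, x⁆ ∈ S₀}
      one_mem' := ⟨N.one_mem, fun s _ => by simp⟩
      mul_mem' := by
        rintro x y ⟨hx, hx'⟩ ⟨hy, hy'⟩
        refine ⟨N.mul_mem hx hy, fun s hs => ?_⟩
        rw [show ⁅s, x * y⁆ = ⁅s, x⁆ * (x * ⁅s, y⁆ * x⁻¹) by simp only [commutatorElement_def]; group]
        exact S₀.mul_mem (hx' s hs) (mem_conj_normalizer (hN hx) (hy' s hs))
      inv_mem' := by
        rintro x ⟨hx, hx'⟩
        refine ⟨N.inv_mem hx, fun s hs => ?_⟩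
        rw [show ⁅s, x⁻¹⁆ = x⁻¹ * ⁅s, x⁆⁻¹ * x by simp only [commutatorElement_def]; group]
        exact mem_conj_normalizer' (hN hx) (S₀.inv_mem (hx' s hs)) }
  suffices hK : ∀ g ∈ N, g ∈ K by
    rw [Subgroup.commutator_le]
    exact fun s hs g hg => (hK g hg).2 s hs
  intro g hg
  refine Transfer.prime_parts g K fun q hq y ⟨k, hk⟩ hyz => ?_
  have hyN : y ∈ N := (Subgroup.zpowers_le.2 hg) hyz
  haveI := Fact.mk hq
  by_cases hq2 : q = 2
  · subst hq2
    have hyp : IsPGroup 2 (Subgroup.zpowers y) :=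
      IsPGroup.of_card (n := k) (by rw [Nat.card_zpowers, hk])
    have hinf : Subgroup.zpowers y ⊓ N = Subgroup.zpowers y ⊓ (S : Subgroup G) :=
      hyp.inf_normalizer_sylow S
    have hyS : y ∈ (S : Subgroup G) :=
      ((hinf ▸ ⟨Subgroup.mem_zpowers y, hyN⟩ : y ∈ Subgroup.zpowers y ⊓ (S : Subgroup G))).2
    refine ⟨hyN, fun s hs => ?_⟩
    rw [commutatorElement_eq_one_iff_mul_comm.2 (show s * y = y * s from congrArg Subtype.val
      ((h.two_group_comm S.isPGroup').is_comm.comm ⟨s, hs⟩ ⟨y, hyS⟩))]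
    exact S₀.one_mem
  by_contra hyK
  have hyK' : ¬ ∀ s ∈ (S : Subgroup G), ⁅s, y⁆ ∈ S₀ := fun e => hyK ⟨hyN, e⟩
  push Not at hyK'
  obtain ⟨s, hs, hsy⟩ := hyK'
  rcases k with _ | k
  · rw [pow_zero, orderOf_eq_one_iff] at hk
    exact hsy (by simp [hk])
  set z := y ^ (q ^ k) with hz
  have hzo : orderOf z = q := by
    rw [hz, orderOf_pow, hk, Nat.gcd_eq_right (pow_dvd_pow q (Nat.le_succ k)),
      Nat.pow_div (Nat.le_succ k) hq.pos]
    simp
  have hzN : z ∈ N := N.pow_mem hyN _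
  have hzS := hcon z hzN (hzo ▸ hq) (hzo ▸ hq2)
  by_cases hqr : q = r
  · have hk0 : k = 0 := by
      by_contra hk0
      obtain ⟨j, rfl⟩ : ∃ j, k = j + 1 := ⟨k - 1, by omega⟩
      exact (h.not_sq_dvd y).2 (hk ▸ hqr ▸ ⟨q ^ j, by ring⟩)
    rw [hk0, pow_zero, pow_one] at hz
    exact hsy (hzS (Subgroup.commutator_mem_commutator hs (hz ▸ Subgroup.mem_zpowers z)))
  · have hcop : (Nat.card (S : Subgroup G)).Coprime (orderOf z) := by
      obtain ⟨j, hj⟩ := S.isPGroup'.exists_card_eq
      rw [hj, hzo]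
      exact ((Nat.coprime_primes Nat.prime_two hq).2 (Ne.symm hq2)).pow_left j
    rw [free_commutator_eq hzN hcop fun a ha hc => by
      by_contra ha1
      rcases h.primes_of_commute (Or.inl (h.orderOf_eq_two S.isPGroup' ha ha1)) hc.symm hq
        (by rw [hzo]) with e | e
      · exact hq2 e
      · exact hqr e] at hzS
    exact hsy (hzS (commutator_le_left_zpowers hyN
      (Subgroup.commutator_mem_commutator hs (Subgroup.mem_zpowers y))))

theorem eq_bot_of_cores {H : Type u} [Group H] [Finite H] (h2 : Cfsg.pCore 2 H = ⊥)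
    (hO : Cfsg.pPrimeCore 2 H = ⊥) (N : Subgroup H) [N.Normal] (hN : Group.IsSolvable N) :
    N = ⊥ := by
  by_contra hN1
  obtain ⟨A, hAn, hA, hAN, hAmin⟩ := Grp.exists_minimal_normal_le hN1
  haveI := hAn
  obtain ⟨p, hp, hAp⟩ :=
    Grp.minimal_normal_solvable_isPGroup (Grp.isSolvable_of_le hAN hN) hA hAmin
  haveI := Fact.mk hp
  by_cases hp2 : p = 2
  · subst hp2
    exact hA (le_bot_iff.1 (h2 ▸ le_pCore hAn hAp))
  · obtain ⟨k, hk⟩ := hAp.exists_card_eq
    exact hA (le_bot_iff.1 (hO ▸ le_pPrimeCore hAn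
      (hk ▸ ((Nat.coprime_primes hp Nat.prime_two).2 hp2).pow_left k)))

theorem TwoR.pPrimeCore_eq_bot (h : TwoR G r) (hns : ¬ Group.IsSolvable G) :
    Cfsg.pPrimeCore 2 G = ⊥ := by
  haveI := Fact.mk Nat.prime_two
  haveI := Fact.mk h.prime
  set R := Cfsg.pPrimeCore 2 G with hR
  haveI : R.Normal := pPrimeCore_isNormal
  by_contra hR1
  obtain ⟨S⟩ : Nonempty (Sylow 2 G) := inferInstance
  haveI hSc := h.two_group_comm S.isPGroup'
  have hnc := h.not_cyclic hns S
  have hSR : ∀ (A : Subgroup G), A ≤ Subgroup.normalizer (R : Set G) := fun A => by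
    rw [Subgroup.normalizer_eq_top]; exact le_top
  have hodd : ¬ 2 ∣ Nat.card R := pPrimeCore_not_dvd
  obtain ⟨j, hj⟩ := S.isPGroup'.exists_card_eq
  have hcop : (Nat.card (S : Subgroup G)).Coprime (Nat.card R) := by
    rw [hj]; exact (Nat.prime_two.coprime_iff_not_dvd.2 hodd).pow_left j
  -- an `r`-group
  have hRr : IsPGroup r R := by
    refine IsPGroup.of_card (n := (Nat.card R).primeFactorsList.length)
      (Nat.eq_prime_pow_of_unique_prime_dvd Nat.card_pos.ne' fun {ℓ} hℓ hd => ?_)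
    haveI := Fact.mk hℓ
    obtain ⟨L, hL, hLS⟩ := exists_invariant_sylow (S : Subgroup G) R (hSR _) hcop
      (Or.inr (odd_solvable hodd)) ℓ
    have hcopL : (Nat.card (S : Subgroup G)).Coprime (Nat.card L) :=
      hcop.coprime_dvd_right (Subgroup.card_dvd_of_le hL.1)
    have hL1 : L ≠ ⊥ := fun e => hL.2.2 (by rw [e, Subgroup.relIndex_bot_left]; exact hd)
    have hex : ∃ a ∈ (S : Subgroup G), a ≠ 1 ∧ L ⊓ Subgroup.centralizer {a} ≠ ⊥ := by
      by_contra hc
      push Not at hc
      apply hL1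
      rw [← generated_by_centralizers (S : Subgroup G) L hnc hLS hcopL, eq_bot_iff]
      exact iSup₂_le fun a ha => (hc a ha.1 ha.2).le
    obtain ⟨a, ha, ha1, hne⟩ := hex
    obtain ⟨x, hx, hxp⟩ := exists_prime_order_mem hne
    obtain ⟨i, hi⟩ := IsPGroup.iff_orderOf.1 hL.2.1 ⟨x, hx.1⟩
    rw [orderOf_mk] at hi
    have hxl : orderOf x = ℓ :=
      (Nat.prime_dvd_prime_iff_eq hxp hℓ).1 (hxp.dvd_of_dvd_pow (n := i) (by rw [← hi]))
    rcases h.primes_of_commute (Or.inl (h.orderOf_eq_two S.isPGroup' ha ha1))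
      (Subgroup.mem_centralizer_singleton_iff.1 hx.2) hℓ (by rw [hxl]) with e | e
    · exact absurd (e ▸ hd) hodd
    · exact e
  -- the centraliser of `R` lies in `R`
  obtain ⟨x, hxR, hxp⟩ := exists_prime_order_mem hR1
  have hxr : orderOf x = r := by
    obtain ⟨i, hi⟩ := IsPGroup.iff_orderOf.1 hRr ⟨x, hxR⟩
    rw [orderOf_mk] at hi
    exact (Nat.prime_dvd_prime_iff_eq hxp h.prime).1 (hxp.dvd_of_dvd_pow (n := i) (by rw [← hi]))
  set C := Subgroup.centralizer (R : Set G) with hC
  have hCs : Group.IsSolvable C := h.solvable_of_le_centralizer (Or.inr hxr)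
    (Subgroup.centralizer_le (Set.singleton_subset_iff.2 hxR))
  haveI : C.Normal := inferInstance
  have hns' : ¬ Group.IsSolvable (G ⧸ R) := fun e => hns (solvable_ext R (odd_solvable hodd) e)
  have hCR : C ≤ R := by
    have hO : Cfsg.pPrimeCore 2 (G ⧸ R) = ⊥ := pPrimeCore_quotient_eq_bot
    haveI : (C.map (QuotientGroup.mk' R)).Normal :=
      (inferInstance : C.Normal).map _ (QuotientGroup.mk'_surjective R)
    have hbot : C.map (QuotientGroup.mk' R) = ⊥ :=
      eq_bot_of_cores ((h.quotient R).pCore_eq_bot hns') hO _ (Grp.isSolvable_map hCs _)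
    intro c hc
    have hm : QuotientGroup.mk' R c ∈ C.map (QuotientGroup.mk' R) := ⟨c, hc, rfl⟩
    rw [hbot, Subgroup.mem_bot, QuotientGroup.mk'_apply, QuotientGroup.eq_one_iff] at hm
    exact hm
  have hSC : (S : Subgroup G) ⊓ C = ⊥ :=
    le_bot_iff.1 ((inf_le_inf_left _ hCR).trans (inf_eq_bot_of_coprime hcop).le)
  -- an element of odd prime order
  obtain ⟨q, _, _, g, hg, _, hgC⟩ := exists_noncentral_prime_power hns S hSc
  have hne : ¬ ⁅(S : Subgroup G), Subgroup.normalizer ((S : Subgroup G) : Set G)⁆ ≤ ⊥ := fun e =>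
    hgC (Subgroup.mem_centralizer_iff.2 fun s hs => commutatorElement_eq_one_iff_mul_comm.1
      (Subgroup.mem_bot.1 (e (Subgroup.commutator_mem_commutator hs hg))))
  obtain ⟨y, hy, hyp, hy2, hyne⟩ := h.exists_prime_elt S ⊥ (fun z _ => by rw [Subgroup.mem_normalizer_iff]; simp) hne
  refine hyne ?_
  rw [← hSC, le_inf_iff]
  exact ⟨commutator_le_left_zpowers hy, h.lift_two (S : Subgroup G) R S.isPGroup' hRr (hSR _)
    (by rw [Subgroup.normalizer_eq_top]; exact Subgroup.mem_top y) hy hyp hy2 rfl⟩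

theorem TwoR.solvable_normal_eq_bot (h : TwoR G r) (hns : ¬ Group.IsSolvable G) (N : Subgroup G)
    [N.Normal] (hN : Group.IsSolvable N) : N = ⊥ :=
  eq_bot_of_cores (h.pCore_eq_bot hns) (h.pPrimeCore_eq_bot hns) N hN

/-- Two commuting subgroups are not both nonsolvable. -/
theorem TwoR.commuting_absurd (h : TwoR G r) {A B : Subgroup G} (hA : ¬ Group.IsSolvable A)
    (hB : ¬ Group.IsSolvable B) (hc : A ≤ Subgroup.centralizer (B : Set G)) : False := by
  haveI := Fact.mk Nat.prime_two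
  have h2 : 2 ∣ Nat.card B := by
    by_contra hd
    exact hB (odd_solvable hd)
  obtain ⟨t, ht⟩ := exists_prime_orderOf_dvd_card' 2 h2
  rw [← Subgroup.orderOf_coe] at ht
  exact hA (h.solvable_of_le_centralizer (Or.inl ht)
    (hc.trans (Subgroup.centralizer_le (Set.singleton_subset_iff.2 t.2))))

theorem TwoR.exists_socle (h : TwoR G r) (hns : ¬ Group.IsSolvable G) :
    ∃ M : Subgroup G, M.Normal ∧ IsSimpleGroup M ∧ ¬ Group.IsSolvable M ∧
      Subgroup.centralizer (M : Set G) = ⊥ := by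
  classical
  have htop : (⊤ : Subgroup G) ≠ ⊥ := fun e => hns (Group.isSolvable_of_top_eq_bot G e)
  obtain ⟨M, hMn, hM1, -, hMmin⟩ := Grp.exists_minimal_normal_le htop
  haveI := hMn
  have hMs : ¬ Group.IsSolvable M := fun e => hM1 (h.solvable_normal_eq_bot hns M e)
  refine ⟨M, hMn, ?_, hMs, ?_⟩
  · haveI : Nontrivial M := (Subgroup.nontrivial_iff_ne_bot M).2 hM1
    refine ⟨fun K hK => ?_⟩
    by_contra hcon
    push Not at hcon
    obtain ⟨N, hNn, hN1, hNK, hNmin⟩ := Grp.exists_minimal_normal_le (hN := hK) hcon.1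
    have hNs : ¬ Group.IsSolvable N := fun e =>
      hN1 (@TwoR.solvable_normal_eq_bot M _ _ r (h.subgroup M) hMs N hNn e)
    -- conjugates of `N`
    set N' := N.map M.subtype with hN'
    have hN'M : N' ≤ M := Subgroup.map_subtype_le N
    have hN's : ¬ Group.IsSolvable N' := fun e => hNs <| by
      exact isSolvable_of_injective
        (N.equivMapOfInjective M.subtype M.subtype_injective).toMonoidHom (MulEquiv.injective _) e
    have key : ∀ g : G, g ∈ Subgroup.normalizer (N' : Set G) := by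
      intro g
      set e : M ≃* M := MulAut.conjNormal g
      set N2 := N.map e.toMonoidHom with hN2
      haveI hN2n : N2.Normal := hNn.map _ e.surjective
      haveI := hNn
      rcases hNmin (N ⊓ N2) inferInstance inf_le_left with e0 | e0
      · exfalso
        have hN2s : ¬ Group.IsSolvable (N2.map M.subtype) := fun e1 => hNs <| by
          exact isSolvable_of_injective
            ((N.equivMapOfInjective e.toMonoidHom e.injective).trans
              (N2.equivMapOfInjective M.subtype M.subtype_injective)).toMonoidHom (MulEquiv.injective _) e1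
        refine h.commuting_absurd hN's hN2s ?_
        rintro _ ⟨a, ha, rfl⟩
        rw [Subgroup.mem_centralizer_iff]
        rintro _ ⟨b, hb, rfl⟩
        rw [← map_mul, ← map_mul]
        exact congrArg _ (Subgroup.commute_of_normal_of_disjoint N2 N hN2n hNn
          (disjoint_iff.2 (by rw [inf_comm]; exact e0)) b a hb ha).eq
      · have hle : N ≤ N2 := inf_eq_left.1 e0
        have heq : N = N2 := Subgroup.eq_of_le_of_card_ge hle
          (Nat.card_congr (N.equivMapOfInjective e.toMonoidHom e.injective).toEquiv).ge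
        rw [mem_normalizer_iff_smul, ← map_conj_eq_smul, hN', Subgroup.map_map]
        conv_rhs => rw [heq, hN2, Subgroup.map_map]
        congr 1
    haveI : N'.Normal := Subgroup.normalizer_eq_top_iff.1 (Subgroup.eq_top_iff' _ |>.2 key)
    rcases hMmin N' inferInstance hN'M with e | e
    · exact hN1 ((Subgroup.map_eq_bot_iff_of_injective N M.subtype_injective).1 e)
    · refine hcon.2 (eq_top_iff.2 fun x _ => hNK ?_)
      obtain ⟨y, hy, hyx⟩ := (e.ge x.2 : (x : G) ∈ N')
      rwa [show x = y from Subtype.ext hyx.symm]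
  · haveI : (Subgroup.centralizer (M : Set G)).Normal := inferInstance
    by_contra hC
    exact h.commuting_absurd (A := Subgroup.centralizer (M : Set G)) (B := M)
      (fun e => hC (h.solvable_normal_eq_bot hns _ e)) hMs le_rfl

end Cfsg.Agent.Grp.ThreeOrders
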