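import Mathlib
import Cfsg.Prelude
import Cfsg.Agent.Lib.Grp.ThreeOrders.Radical
import Cfsg.Agent.Lib.Grp.PrimeGraphCIT.Index
import Cfsg.Agent.Lib.Grp.InvolTransitive
import Cfsg.Agent.Lib.Grp.Baer
import Cfsg.Agent.Lib.Invol.Sylow

/-!
Tools for groups with involution centralisers 2-groups and a normal simple subgroup.
-/

set_option autoImplicit false
set_option linter.style.haveILetI false
set_option linter.unusedSectionVars false

universe u

namespace Cfsg.Agent.Grp.ThreeOrders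

open Subgroup Cfsg.Agent
open Cfsg.Agent.Transfer.CIT (IsCIT)

variable {X : Type u} [Group X] [Finite X]

/-- An element of even order commuting with nothing of odd order: no element of order `2 q`. -/
theorem cit_no_double (h : IsCIT X) {q : ℕ} (hq : q.Prime) (hq2 : q ≠ 2) {m : ℕ} (hm : 2 ∣ m)
    (hqm : q ∣ m) (g : X) : ¬ m ∣ orderOf g := by
  intro hg
  obtain ⟨k, hk⟩ := PGCIT.even_order h (hm.trans hg)
  exact hq2 ((Nat.prime_dvd_prime_iff_eq hq Nat.prime_two).1
    (hq.dvd_of_dvd_pow (hk ▸ hqm.trans hg)))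

theorem NoThree.two_mixed (h : NoThree X) {s p q : ℕ} (hs : s.Prime) (hp : p.Prime) (hq : q.Prime)
    (hpq : p ≠ q) {a b : X} (ha : orderOf a = s * p) (hb : orderOf b = s * q) : False := by
  rcases h.pair hs hp ha (g := b) (hb ▸ dvd_mul_right s q) with e | e <;> rw [hb] at e
  · exact hq.one_lt.ne' (Nat.eq_of_mul_eq_mul_left hs.pos (by rw [mul_one]; exact e))
  · exact hpq (Nat.eq_of_mul_eq_mul_left hs.pos e).symm

theorem sylow_card_of {q a b : ℕ} [Fact q.Prime] (hG : Nat.card X = q ^ a * b) (hb : ¬ q ∣ b)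
    (S : Sylow q X) : Nat.card S = q ^ a := by
  have hq : q.Prime := Fact.out
  have hb0 : b ≠ 0 := fun e => hb (e ▸ dvd_zero q)
  rw [S.card_eq_multiplicity, hG, Nat.factorization_mul (pow_ne_zero _ hq.ne_zero) hb0,
    Finsupp.add_apply, Nat.Prime.factorization_pow hq, Finsupp.single_eq_same,
    Nat.factorization_eq_zero_of_not_dvd hb, add_zero]

section Normal

variable (M : Subgroup X) [M.Normal]

theorem frattini_index {q : ℕ} [Fact q.Prime] (Q : Sylow q M) :
    M.relIndex (normalizer (((Q : Subgroup M).map M.subtype : Subgroup X) : Set X)) = M.index := by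
  have hfr := Sylow.normalizer_sup_eq_top Q
  rw [← relIndex_top_right, ← hfr]
  exact (relIndex_sup_right _ M).symm

theorem card_inner_normalizer {q : ℕ} [Fact q.Prime] (Q : Sylow q M) :
    Nat.card (normalizer (((Q : Subgroup M).map M.subtype : Subgroup X) : Set X)) =
      Nat.card (normalizer ((Q : Subgroup M) : Set M)) * M.index := by
  set P := (Q : Subgroup M).map M.subtype with hP
  set N := normalizer (P : Set X) with hN
  rw [← (M.subgroupOf N).card_mul_index, show (M.subgroupOf N).index = M.index from frattini_index M Q]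
  congr 1
  have e1 : N ⊓ M = (normalizer ((Q : Subgroup M) : Set M)).map M.subtype := by
    ext x
    constructor
    · rintro ⟨hxN, hxM⟩
      refine ⟨⟨x, hxM⟩, mem_normalizer_fintype fun y hy => ?_, rfl⟩
      exact (mem_map_iff_mem M.subtype_injective).1 (mem_conj_normalizer hxN ⟨y, hy, rfl⟩)
    · rintro ⟨y, hy, rfl⟩
      refine ⟨mem_normalizer_fintype fun b hb => ?_, y.2⟩
      obtain ⟨c, hc, rfl⟩ := hb
      exact ⟨y * c * y⁻¹, mem_conj_normalizer hy hc, rfl⟩
  rw [← card_map_of_injective N.subtype_injective (K := M.subgroupOf N), subgroupOf_map_subtype,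
    inf_comm, e1, card_map_of_injective M.subtype_injective]

/-- A prime of the index gives an element of mixed order. -/
theorem exists_mul {s q : ℕ} [Fact q.Prime] (hs : s.Prime) (hsq : s ≠ q) (hsd : s ∣ M.index)
    (Q : Sylow q M) (hQ : ¬ s ∣ Nat.card Q - 1) : ∃ g : X, orderOf g = s * q := by
  haveI := Fact.mk hs
  set P := (Q : Subgroup M).map M.subtype with hP
  obtain ⟨x, hx⟩ := exists_prime_orderOf_dvd_card' (G := normalizer (P : Set X)) s
    (card_inner_normalizer M Q ▸ hsd.mul_left _)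
  rw [← orderOf_coe] at hx
  have hd : ¬ s ∣ Nat.card ((P : Set X) \ {1} : Set X) := by
    rw [Nat.card_coe_set_eq, Set.ncard_sdiff_singleton_of_mem P.one_mem, ← Nat.card_coe_set_eq,
      SetLike.coe_sort_coe, hP, card_map_of_injective M.subtype_injective]
    exact hQ
  obtain ⟨t, ⟨htP, ht1⟩, ht⟩ := InvTrans.exists_fixed (P := zpowers (x : X))
    (IsPGroup.of_card (n := 1) (by rw [Nat.card_zpowers, hx, pow_one])) ((P : Set X) \ {1})
    (fun g hg t ht => ⟨mem_conj_normalizer (zpowers_le.2 x.2 hg) ht.1,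
      fun e => ht.2 (conj_eq_one_iff.1 e)⟩) hd
  obtain ⟨k, hk⟩ := IsPGroup.iff_orderOf.1 (Q.isPGroup'.map M.subtype) ⟨t, htP⟩
  rw [orderOf_mk] at hk
  rcases k with _ | k
  · exact absurd (orderOf_eq_one_iff.1 (by rw [hk, pow_zero])) ht1
  obtain ⟨u, hu⟩ := exists_orderOf_eq_of_dvd t (hk ▸ dvd_pow_self q k.succ_ne_zero : q ∣ orderOf t)
  have hu' : orderOf (t ^ (orderOf t / q)) = q :=
    orderOf_pow_orderOf_div (orderOf_pos t).ne' (hk ▸ dvd_pow_self q k.succ_ne_zero)
  refine ⟨(x : X) * t ^ (orderOf t / q), ?_⟩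
  rw [((ht x (mem_zpowers _)).pow_right _).orderOf_mul_eq_mul_orderOf_of_coprime (by
    rw [hx, hu']; exact (Nat.coprime_primes hs Fact.out).2 hsq), hx, hu']

/-- The normaliser of a Sylow subgroup of prime order. -/
theorem normalizer_data {q n : ℕ} [hqf : Fact q.Prime] (hcard : Nat.card M = q * n) (hqn : ¬ q ∣ n) :
    ∃ e K r : ℕ, e ∣ n ∧ e ≡ n [MOD q] ∧ q * e * M.index = K * r ∧ r ∣ q - 1 ∧
      (∀ ℓ : ℕ, ℓ.Prime → ℓ ≠ q → ℓ ∣ K → ∃ g : X, orderOf g = ℓ * q) ∧
      (∀ a b : ℕ, a.Prime → b.Prime → a ≠ b → a ∣ r → b ∣ r → ∃ g : X, a * b ∣ orderOf g) := by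
  classical
  obtain ⟨P0⟩ : Nonempty (Sylow q M) := inferInstance
  have hP0 : Nat.card P0 = q := by
    rw [sylow_card_of (a := 1) (by rw [hcard, pow_one]) hqn P0, pow_one]
  set P := (P0 : Subgroup M).map M.subtype with hPdef
  have hP : Nat.card P = q := by rw [hPdef, card_map_of_injective M.subtype_injective, hP0]
  set N := normalizer (P : Set X) with hNdef
  haveI : IsCyclic P := isCyclic_of_prime_card hP
  let φ : N →* MulAut P := normalizerMonoidHom P
  set NM := normalizer ((P0 : Subgroup M) : Set M) with hNM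
  obtain ⟨e, he⟩ := card_dvd_of_le (le_normalizer (H := (P0 : Subgroup M)))
  rw [hP0] at he
  have hne : n = NM.index * e := by
    have h1 := NM.card_mul_index
    rw [hcard, show Nat.card NM = q * e from he] at h1
    exact Nat.eq_of_mul_eq_mul_left hqf.out.pos (by rw [← h1]; ring)
  have hsyl : Nat.card (Sylow q M) ≡ 1 [MOD q] := card_sylow_modEq_one q M
  rw [P0.card_eq_index_normalizer] at hsyl
  refine ⟨e, Nat.card φ.ker, Nat.card φ.range, Dvd.intro_left _ hne.symm, ?_, ?_, ?_, ?_, ?_⟩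
  · have h2 := hsyl.mul_right e
    rw [one_mul] at h2
    exact (show n ≡ e [MOD q] by rw [hne]; exact h2).symm
  · rw [← index_ker, card_mul_index, hNdef, hPdef, card_inner_normalizer M P0, ← hNM,
      show Nat.card NM = q * e from he]
  · refine (card_subgroup_dvd_card _).trans ?_
    rw [Nat.card_congr (IsCyclic.mulAutMulEquiv P).toEquiv, hP, Nat.card_eq_fintype_card,
      ZMod.card_units_eq_totient, Nat.totient_prime hqf.out]
  · intro ℓ hℓ hℓq hd
    haveI := Fact.mk hℓ
    obtain ⟨x, hx⟩ := exists_prime_orderOf_dvd_card' ℓ hd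
    obtain ⟨a, ha⟩ := exists_prime_orderOf_dvd_card' (G := P) q hP.symm.dvd
    have hc : Commute ((x : N) : X) (a : X) := mul_inv_eq_iff_eq_mul.mp (congrArg
      (fun e : MulAut P => ((e a : P) : X)) (MonoidHom.mem_ker.mp x.2))
    refine ⟨((x : N) : X) * a, ?_⟩
    rw [hc.orderOf_mul_eq_mul_orderOf_of_coprime (by
      rw [orderOf_coe, orderOf_coe, orderOf_coe, hx, ha]
      exact (Nat.coprime_primes hℓ hqf.out).2 hℓq), orderOf_coe, orderOf_coe, orderOf_coe, hx, ha]
  · intro a b ha hb hab hda hdb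
    haveI : IsCyclic (MulAut P) := by
      haveI : IsCyclic (ZMod (Nat.card P))ˣ := by rw [hP]; infer_instance
      exact isCyclic_of_surjective (IsCyclic.mulAutMulEquiv P).symm.toMonoidHom (MulEquiv.surjective _)
    obtain ⟨y, hy⟩ := IsCyclic.exists_ofOrder_eq_natCard (α := φ.range)
    obtain ⟨x, hx⟩ := y.2
    refine ⟨(x : X), ?_⟩
    have h1 : orderOf (φ x) ∣ orderOf (x : X) := by rw [orderOf_coe]; exact orderOf_map_dvd φ x
    rw [hx, orderOf_coe, hy] at h1
    exact (((Nat.coprime_primes ha hb).2 hab).mul_dvd_of_dvd_of_dvd hda hdb).trans h1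

/-- A nonsolvable simple group: no Sylow subgroup is central in its normaliser. -/
theorem not_normalizer_le_centralizer {G : Type u} [Group G] [Finite G] [IsSimpleGroup G]
    (hns : ¬ Group.IsSolvable G) {q : ℕ} [Fact q.Prime] (hq : q ∣ Nat.card G) (P : Sylow q G) :
    ¬ normalizer ((P : Subgroup G) : Set G) ≤ centralizer ((P : Subgroup G) : Set G) := by
  intro hle
  set f := MonoidHom.transferSylow P hle
  have hc := MonoidHom.ker_transferSylow_isComplement' P hle
  rcases IsSimpleGroup.eq_bot_or_eq_top_of_normal f.ker inferInstance with e | e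
  · rw [show (MonoidHom.transferSylow P hle).ker = ⊥ from e, isComplement'_bot_left] at hc
    haveI : Group.IsNilpotent G := (P.isPGroup'.of_equiv
      ((MulEquiv.subgroupCongr hc).trans Subgroup.topEquiv)).isNilpotent
    exact hns inferInstance
  · have := MonoidHom.not_dvd_card_ker_transferSylow P hle
    rw [show (MonoidHom.transferSylow P hle).ker = ⊤ from e, card_top] at this
    exact this hq

theorem mem_of_odd (hidx : ∀ s : ℕ, s.Prime → s ∣ M.index → s = 2) {g : X} (hg : ¬ 2 ∣ orderOf g) :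
    g ∈ M := by
  refine (QuotientGroup.eq_one_iff g).1 (orderOf_eq_one_iff.1 (Nat.eq_one_iff_not_exists_prime_dvd.2
    fun s hs hsd => ?_))
  have h1 : s = 2 := hidx s hs (M.index_eq_card ▸ hsd.trans (_root_.orderOf_dvd_natCard _))
  exact hg (h1 ▸ hsd.trans (orderOf_map_dvd (QuotientGroup.mk' M) g))

/-- No involution lies outside `M` of index two if the odd elements of `M` are real. -/
theorem no_outer_involution_of_real (h : IsCIT X) (h2 : M.index = 2) (hO : Cfsg.pCore 2 X = ⊥)
    (hreal : ∀ y ∈ M, (orderOf y).Prime → orderOf y ≠ 2 → ∃ g ∈ M, g * y * g⁻¹ = y⁻¹)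
    {v : X} (hv : orderOf v = 2) : v ∈ M := by
  classical
  haveI := Fact.mk Nat.prime_two
  by_contra hvM
  have hidx : ∀ s : ℕ, s.Prime → s ∣ M.index → s = 2 := fun s hs hd =>
    (Nat.prime_dvd_prime_iff_eq hs Nat.prime_two).1 (h2 ▸ hd)
  suffices hall : ∀ g : X, IsPGroup 2 (closure ({v, g * v * g⁻¹} : Set X)) by
    have hmem := Grp.baer_suzuki v hall
    rw [hO, mem_bot] at hmem
    exact hvM (hmem ▸ M.one_mem)
  intro g
  have hv' : orderOf (g * v * g⁻¹) = 2 := by
    rw [← SemiconjBy.orderOf_eq (x := v) (y := g * v * g⁻¹) g (by simp [SemiconjBy]), hv]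
  have hvv : v * v = 1 := Invol.mul_self_of_orderOf_two hv
  have hvv' : (g * v * g⁻¹) * (g * v * g⁻¹) = 1 := Invol.mul_self_of_orderOf_two hv'
  set w := v * (g * v * g⁻¹) with hw
  have hwM : w ∈ M := by
    rw [hw, Subgroup.mul_mem_iff_of_index_two h2]
    refine iff_of_false hvM fun e => hvM ?_
    have := (inferInstance : M.Normal).conj_mem _ e g⁻¹
    rwa [show g⁻¹ * (g * v * g⁻¹) * g⁻¹⁻¹ = v by group] at this
  by_cases hpow : ∀ ℓ : ℕ, ℓ.Prime → ℓ ∣ orderOf w → ℓ = 2
  · exact Invol.isPGroup_closure_pair hv hv'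
      (Nat.eq_prime_pow_of_unique_prime_dvd (orderOf_pos w).ne' fun {ℓ} hℓ hd => hpow ℓ hℓ hd)
  exfalso
  push Not at hpow
  obtain ⟨ℓ, hℓ, hℓd, hℓ2⟩ := hpow
  set y := w ^ (orderOf w / ℓ) with hy
  have hyo : orderOf y = ℓ := orderOf_pow_orderOf_div (orderOf_pos w).ne' hℓd
  obtain ⟨j, hj, hjy⟩ := hreal y (M.pow_mem hwM _) (hyo.symm ▸ hℓ) (hyo.symm ▸ hℓ2)
  have hvy : v * y * v⁻¹ = y⁻¹ := by
    have hvw : MulAut.conj v w = w⁻¹ := by
      rw [MulAut.conj_apply, hw]
      have e1 : v⁻¹ = v := inv_eq_of_mul_eq_one_right hvv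
      have e2 : (g * v * g⁻¹)⁻¹ = g * v * g⁻¹ := inv_eq_of_mul_eq_one_right hvv'
      rw [mul_inv_rev, e2, e1, ← mul_assoc v v, hvv, one_mul]
    rw [hy, ← MulAut.conj_apply, map_pow, hvw, inv_pow]
  have hc : Commute (v * j) y := by
    rw [Commute, SemiconjBy, ← mul_inv_eq_iff_eq_mul]
    calc v * j * y * (v * j)⁻¹ = v * (j * y * j⁻¹) * v⁻¹ := by group
      _ = v * y⁻¹ * v⁻¹ := by rw [hjy]
      _ = (v * y * v⁻¹)⁻¹ := by group
      _ = y := by rw [hvy, inv_inv]
  have hvjM : v * j ∉ M := fun e => hvM (by simpa using M.mul_mem e (M.inv_mem hj))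
  refine hvjM (mem_of_odd M hidx fun he => ?_)
  have hy1 : y = 1 := PGCIT.not_commute_odd h
    (orderOf_pow_orderOf_div (orderOf_pos _).ne' he) (hc.pow_left _).symm
    (by rw [hyo]; exact fun e => hℓ2 ((Nat.prime_dvd_prime_iff_eq Nat.prime_two hℓ).1 e).symm)
  rw [hy1, orderOf_one] at hyo
  exact hℓ.ne_one hyo.symm

end Normal

end Cfsg.Agent.Grp.ThreeOrders
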