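import Mathlib
import Cfsg.Prelude
import Cfsg.Agent.Lib.Grp.ThreeOrders.CitTools

/-!
Extensions of the four small simple CIT groups by outer automorphisms in the case `NoThree`.
-/

set_option autoImplicit false
set_option linter.style.haveILetI false
set_option linter.unusedSectionVars false

universe u

namespace Cfsg.Agent.Grp.ThreeOrders

open Subgroup Cfsg.Agent
open Cfsg.Agent.Transfer.CIT (IsCIT)

variable {X : Type u} [Group X] [Finite X]

theorem NoThree.no_eight (h : NoThree X) (g : X) : ¬ 8 ∣ orderOf g := by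
  intro h8
  obtain ⟨b, hb⟩ := exists_orderOf_eq_of_dvd g h8
  have h1 := h.length_le b
  rw [hb, show (8 : ℕ) = 2 ^ 3 by norm_num, Nat.Prime.primeFactorsList_pow Nat.prime_two,
    List.length_replicate] at h1
  omega

theorem two_part {K r m j : ℕ} (hK : ¬ 2 ∣ K) (hd : 2 ^ j ∣ m) (hm : m = K * r) : 2 ^ j ∣ r :=
  ((Nat.prime_two.coprime_iff_not_dvd.2 hK).pow_left j).dvd_of_dvd_mul_left (hm ▸ hd)

theorem top_of_index {M : Subgroup X} (h : ∀ s : ℕ, s.Prime → ¬ s ∣ M.index) : M = ⊤ := by
  by_contra hne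
  obtain ⟨s, hs, hsd⟩ := Nat.exists_prime_and_dvd (fun e => hne (index_eq_one.mp e))
  exact h s hs hsd

variable (M : Subgroup X) [M.Normal]

theorem two_mul_absurd (h : IsCIT X) {s q : ℕ} (hs : s.Prime) (hs2 : s ≠ 2) (hq : q = 2)
    {g : X} (hg : orderOf g = s * q) : False :=
  cit_no_double h hs hs2 (m := s * q) (hq ▸ dvd_mul_left 2 s) (dvd_mul_right _ _) g (hg ▸ dvd_rfl)

/-- An odd element normalising a group of order eight containing an element of order four. -/
theorem eight_normalizer (h : IsCIT X) (h3 : NoThree X) {S : Subgroup X} (hS : Nat.card S = 8)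
    {c : X} (hc : c ∈ S) (hc4 : orderOf c = 4) {x : X} (hx : x ∈ normalizer (S : Set X))
    (hxs : (orderOf x).Prime) : orderOf x = 2 := by
  classical
  haveI := Fact.mk Nat.prime_two
  by_contra hx2
  set i := c ^ 2 with hi
  have hio : orderOf i = 2 := by rw [hi, orderOf_pow, hc4]; rfl
  have hi1 : i ≠ 1 := fun e => by rw [e, orderOf_one] at hio; omega
  have hidx : ((zpowers c).subgroupOf S).index = 2 := by
    have h1 := ((zpowers c).subgroupOf S).card_mul_index
    rw [Nat.card_congr (subgroupOfEquivOfLe (zpowers_le.2 hc)).toEquiv, Nat.card_zpowers, hc4, hS] at h1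
    omega
  have hsq : ∀ t ∈ S, t * t = 1 ∨ t * t = i := by
    intro t ht
    have hm := Subgroup.mul_self_mem_of_index_two hidx ⟨t, ht⟩
    rw [mem_subgroupOf] at hm
    change t * t ∈ zpowers c at hm
    obtain ⟨k, hk⟩ := (isOfFinOrder_of_finite c).mem_zpowers_iff_mem_range_orderOf.1 hm |>
      Finset.mem_image.1
    rw [hc4, Finset.mem_range] at hk
    have hodd : ∀ {j : ℕ}, c ^ j = t * t → j % 2 = 0 := by
      intro j hj
      by_contra hj2
      refine h3.no_eight t ?_
      have h4 : orderOf (t ^ 2) = 4 := by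
        rw [sq, ← hj, orderOf_pow, hc4, show Nat.gcd 4 j = 1 from
          Nat.Coprime.gcd_eq_one ((Nat.prime_two.coprime_iff_not_dvd.2 (by omega)).pow_left 2)]
      rcases Nat.even_or_odd (orderOf t) with ⟨m, hm⟩ | ⟨m, hm⟩
      · rw [orderOf_pow, hm, show Nat.gcd (m + m) 2 = 2 from Nat.gcd_eq_right (by omega)] at h4
        rw [hm]; omega
      · rw [orderOf_pow, hm, show Nat.gcd (2 * m + 1) 2 = 1 from
          Nat.Coprime.gcd_eq_one (Nat.prime_two.coprime_iff_not_dvd.2 (by omega)).symm] at h4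
        omega
    have hk2 := hodd hk.2
    rcases (by omega : k = 0 ∨ k = 2) with rfl | rfl
    · left; rw [← hk.2, pow_zero]
    · right; rw [← hk.2]
  have hfix : x * i * x⁻¹ = i := by
    have h1 : (x * c * x⁻¹) * (x * c * x⁻¹) = x * i * x⁻¹ := by rw [hi, sq]; group
    rcases hsq _ (mem_conj_normalizer hx hc) with e | e <;> rw [h1] at e
    · exact absurd (conj_eq_one_iff.1 e) hi1
    · exact e
  have := PGCIT.not_commute_odd h hio (x := x) (mul_inv_eq_iff_eq_mul.1 hfix)
    (fun hd => hx2 ((Nat.prime_dvd_prime_iff_eq Nat.prime_two hxs).1 hd).symm)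
  rw [this, orderOf_one] at hxs
  exact Nat.not_prime_one hxs

theorem odd_index_absurd_eight (h : IsCIT X) (h3 : NoThree X) (S : Sylow 2 M)
    (hS : Nat.card S = 8) {c : M} (hc : c ∈ (S : Subgroup M)) (hc4 : orderOf c = 4) {s : ℕ}
    (hs : s.Prime) (hs2 : s ≠ 2) : ¬ s ∣ M.index := by
  haveI := Fact.mk Nat.prime_two
  haveI := Fact.mk hs
  intro hd
  obtain ⟨x, hx⟩ := exists_prime_orderOf_dvd_card'
    (G := normalizer (((S : Subgroup M).map M.subtype : Subgroup X) : Set X)) s
    (card_inner_normalizer M S ▸ hd.mul_left _)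
  rw [← orderOf_coe] at hx
  exact hs2 (hx ▸ eight_normalizer h h3 (S := (S : Subgroup M).map M.subtype)
    (by rw [card_map_of_injective M.subtype_injective]; exact hS) (c := (c : X)) ⟨c, hc, rfl⟩
    (by rw [orderOf_coe]; exact hc4) x.2 (hx.symm ▸ hs))

theorem exists_four_sylow {c : M} (hc4 : orderOf c = 4) :
    ∃ S : Sylow 2 M, c ∈ (S : Subgroup M) := by
  obtain ⟨S, hS⟩ := (IsPGroup.of_card (p := 2) (n := 2) (G := zpowers c)
    (by rw [Nat.card_zpowers, hc4]; norm_num)).exists_le_sylow
  exact ⟨S, hS (mem_zpowers c)⟩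

theorem top_168 (h : IsCIT X) (h3 : NoThree X) (hc : Nat.card M = 168)
    (h4 : ∃ c : M, orderOf c = 4) (h21 : ∀ g : M, orderOf g ≠ 21) : M = ⊤ := by
  haveI := Fact.mk Nat.prime_two
  haveI := Fact.mk (show Nat.Prime 7 by norm_num)
  obtain ⟨c, hc4⟩ := h4
  obtain ⟨S, hcS⟩ := exists_four_sylow M hc4
  have hS : Nat.card S = 8 := by
    rw [sylow_card_of (a := 3) (b := 21) (by rw [hc]; norm_num) (by norm_num) S]; norm_num
  have hidx : ∀ s : ℕ, s.Prime → s ∣ M.index → s = 2 := fun s hs hd => by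
    by_contra hs2
    exact odd_index_absurd_eight M h h3 S hS hcS hc4 hs hs2 hd
  refine top_of_index fun s hs hd => ?_
  obtain rfl := hidx s hs hd
  obtain ⟨e, K, r, he, hmod, heq, hr, hK, hcyc⟩ := normalizer_data M (q := 7) (n := 24)
    (by rw [hc]) (by norm_num)
  have hKodd : ¬ 2 ∣ K := fun hd2 => by
    obtain ⟨g, hg⟩ := hK 2 Nat.prime_two (by norm_num) hd2
    exact cit_no_double h (q := 7) (by norm_num) (by norm_num) (m := 2 * 7) (dvd_mul_right _ _)
      (dvd_mul_left _ _) g (hg ▸ dvd_rfl)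
  obtain ⟨i, hi⟩ := hd
  have h2r : 2 ∣ r := two_part (j := 1) hKodd ⟨7 * e * i, by rw [hi]; ring⟩ heq
  have h4r : ¬ 4 ∣ r := fun h4 => by have := h4.trans hr; norm_num at this
  have heo : ¬ 2 ∣ e := by
    rintro ⟨e', rfl⟩
    exact h4r (two_part (j := 2) hKodd ⟨7 * e' * i, by rw [hi]; ring⟩ heq)
  have he3 : e = 3 := by
    unfold Nat.ModEq at hmod
    have := Nat.le_of_dvd (by norm_num) he
    interval_cases e <;> omega
  have h3r : 3 ∣ r := by
    by_contra h3r
    have h3K : 3 ∣ K := (Nat.prime_three.dvd_mul.1 (heq ▸ ((by rw [he3]; exact (dvd_mul_left 3 7).mul_right _) :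
      3 ∣ 7 * e * M.index))).resolve_right h3r
    obtain ⟨g, hg⟩ := hK 3 Nat.prime_three (by norm_num) h3K
    have hgM := mem_of_odd M hidx (g := g) (by rw [hg]; norm_num)
    exact h21 ⟨g, hgM⟩ (by rw [← orderOf_coe]; exact hg.trans (by norm_num))
  obtain ⟨g, hg⟩ := hcyc 2 3 Nat.prime_two Nat.prime_three (by norm_num) h2r h3r
  exact cit_no_double h Nat.prime_three (by norm_num) (dvd_mul_right 2 3) (dvd_mul_left 3 2) g hg

theorem top_20160 (h : IsCIT X) (h3 : NoThree X) (hc : Nat.card M = 20160)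
    (h21 : ∀ g : M, orderOf g ≠ 21) : M = ⊤ := by
  haveI := Fact.mk Nat.prime_two
  haveI := Fact.mk Nat.prime_three
  have p5 : Nat.Prime 5 := by norm_num
  have p7 : Nat.Prime 7 := by norm_num
  haveI := Fact.mk p5
  haveI := Fact.mk p7
  obtain ⟨Q2⟩ : Nonempty (Sylow 2 M) := inferInstance
  obtain ⟨Q3⟩ : Nonempty (Sylow 3 M) := inferInstance
  obtain ⟨Q5⟩ : Nonempty (Sylow 5 M) := inferInstance
  obtain ⟨Q7⟩ : Nonempty (Sylow 7 M) := inferInstance
  have c2 : Nat.card Q2 = 64 := by
    rw [sylow_card_of (a := 6) (b := 315) (by rw [hc]; norm_num) (by norm_num) Q2]; norm_num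
  have c3 : Nat.card Q3 = 9 := by
    rw [sylow_card_of (a := 2) (b := 2240) (by rw [hc]; norm_num) (by norm_num) Q3]; norm_num
  have c5 : Nat.card Q5 = 5 := by
    rw [sylow_card_of (a := 1) (b := 4032) (by rw [hc]; norm_num) (by norm_num) Q5]; norm_num
  have c7 : Nat.card Q7 = 7 := by
    rw [sylow_card_of (a := 1) (b := 2880) (by rw [hc]; norm_num) (by norm_num) Q7]; norm_num
  obtain ⟨e, K, r, he, hmod, heq, hr, hK, hcyc⟩ := normalizer_data M (q := 7) (n := 2880)
    (by rw [hc]) (by norm_num)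
  have hKodd : ¬ 2 ∣ K := fun hd2 => by
    obtain ⟨g, hg⟩ := hK 2 Nat.prime_two (by norm_num) hd2
    exact cit_no_double h (q := 7) p7 (by norm_num) (m := 2 * 7) (dvd_mul_right _ _)
      (dvd_mul_left _ _) g (hg ▸ dvd_rfl)
  have hidx : ∀ s : ℕ, s.Prime → s ∣ M.index → s = 2 := fun s hs hd => by
    by_contra hs2
    have h63 : s ∣ 63 := by
      by_contra h63
      obtain ⟨g, hg⟩ := exists_mul M hs hs2 hd Q2 (by rw [c2]; exact h63)
      exact two_mul_absurd h hs hs2 rfl hg
    have hs37 : s = 3 ∨ s = 7 := by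
      have := Nat.le_of_dvd (by norm_num) h63
      interval_cases s <;> first | omega | exact absurd hs (by norm_num)
    rcases hs37 with rfl | rfl
    · obtain ⟨g, hg⟩ := exists_mul M hs (q := 5) (by norm_num) hd Q5 (by rw [c5]; norm_num)
      suffices h3K : 3 ∣ K by
        obtain ⟨g', hg'⟩ := hK 3 Nat.prime_three (by norm_num) h3K
        exact h3.two_mixed Nat.prime_three p5 p7 (by norm_num) hg hg'
      by_contra h3K
      obtain ⟨i, hi⟩ := hd
      have h9r : ∀ e', e = 3 * e' → False := by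
        intro e' he'
        have h9 : 9 ∣ K * r := heq ▸ ⟨7 * e' * i, by rw [hi, he']; ring⟩
        have h9r : 9 ∣ r := ((Nat.prime_three.coprime_iff_not_dvd.2 h3K).pow_left 2).dvd_of_dvd_mul_left h9
        have := h9r.trans hr
        norm_num at this
      have he3 : ¬ 3 ∣ e := fun ⟨e', he'⟩ => h9r e' he'
      have he5 : ¬ 5 ∣ e := fun h5 => by
        have h5K : 5 ∣ K := (p5.dvd_mul.1 (heq ▸ ((h5.mul_left 7).mul_right _ :
          5 ∣ 7 * e * M.index))).resolve_right fun h5r => by
            have := h5r.trans hr; norm_num at this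
        obtain ⟨g', hg'⟩ := hK 5 p5 (by norm_num) h5K
        exact h3.two_mixed p5 Nat.prime_three p7 (by norm_num) (hg.trans (by norm_num)) hg'
      have he64 : e ∣ 2 ^ 6 := by
        have hco : Nat.Coprime e 45 := by
          rw [show (45 : ℕ) = 3 ^ 2 * 5 by norm_num]
          exact ((Nat.prime_three.coprime_iff_not_dvd.2 he3).symm.pow_right 2).mul_right
            (p5.coprime_iff_not_dvd.2 he5).symm
        exact hco.dvd_of_dvd_mul_right (he.trans (by norm_num))
      have h4e : ¬ 4 ∣ e := fun ⟨e', he'⟩ => by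
        have h4r : 2 ^ 2 ∣ r := two_part hKodd ⟨7 * e' * M.index, by rw [he']; ring⟩ heq
        have := h4r.trans hr
        norm_num at this
      obtain ⟨a, ha, rfl⟩ := (Nat.dvd_prime_pow Nat.prime_two).1 he64
      rcases a with _ | _ | a
      · norm_num [Nat.ModEq] at hmod
      · norm_num [Nat.ModEq] at hmod
      · exact h4e ⟨2 ^ a, by ring⟩
    · obtain ⟨g, hg⟩ := exists_mul M hs (q := 3) (by norm_num) hd Q3 (by rw [c3]; norm_num)
      obtain ⟨g', hg'⟩ := exists_mul M hs (q := 5) (by norm_num) hd Q5 (by rw [c5]; norm_num)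
      exact h3.two_mixed p7 Nat.prime_three p5 (by norm_num) hg hg'
  refine top_of_index fun s hs hd => ?_
  obtain rfl := hidx s hs hd
  obtain ⟨i, hi⟩ := hd
  have h2r : 2 ∣ r := two_part (j := 1) hKodd ⟨7 * e * i, by rw [hi]; ring⟩ heq
  have h4r : ¬ 4 ∣ r := fun h4 => by have := h4.trans hr; norm_num at this
  have heo : ¬ 2 ∣ e := by
    rintro ⟨e', rfl⟩
    exact h4r (two_part (j := 2) hKodd ⟨7 * e' * i, by rw [hi]; ring⟩ heq)
  have h3r : 3 ∣ r := by
    by_contra h3r
    have he3 : ¬ 3 ∣ e := fun he3 => by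
      have h3K : 3 ∣ K := (Nat.prime_three.dvd_mul.1 (heq ▸ ((he3.mul_left 7).mul_right _ :
        3 ∣ 7 * e * M.index))).resolve_right h3r
      obtain ⟨g, hg⟩ := hK 3 Nat.prime_three (by norm_num) h3K
      have hgM := mem_of_odd M hidx (g := g) (by rw [hg]; norm_num)
      exact h21 ⟨g, hgM⟩ (by rw [← orderOf_coe]; exact hg.trans (by norm_num))
    have he5 : e ∣ 5 := by
      have hco : Nat.Coprime e 576 := by
        rw [show (576 : ℕ) = 2 ^ 6 * 3 ^ 2 by norm_num]
        exact ((Nat.prime_two.coprime_iff_not_dvd.2 heo).symm.pow_right 6).mul_right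
          ((Nat.prime_three.coprime_iff_not_dvd.2 he3).symm.pow_right 2)
      exact hco.dvd_of_dvd_mul_left (he.trans (by norm_num))
    rcases p5.eq_one_or_self_of_dvd e he5 with rfl | rfl <;> norm_num [Nat.ModEq] at hmod
  obtain ⟨g, hg⟩ := hcyc 2 3 Nat.prime_two Nat.prime_three (by norm_num) h2r h3r
  exact cit_no_double h Nat.prime_three (by norm_num) (dvd_mul_right 2 3) (dvd_mul_left 3 2) g hg

theorem top_60 [IsSimpleGroup M] (hns : ¬ Group.IsSolvable M) (h : IsCIT X) (hc : Nat.card M = 60)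
    (h15 : ∀ g : M, orderOf g ≠ 15) : M = ⊤ := by
  classical
  haveI := Fact.mk Nat.prime_two
  haveI := Fact.mk Nat.prime_three
  have p5 : Nat.Prime 5 := by norm_num
  haveI := Fact.mk p5
  obtain ⟨S⟩ : Nonempty (Sylow 2 M) := inferInstance
  have cS : Nat.card S = 4 := by
    rw [sylow_card_of (a := 2) (b := 15) (by rw [hc]; norm_num) (by norm_num) S]; norm_num
  haveI : IsMulCommutative (S : Subgroup M) :=
    IsPGroup.isMulCommutative_of_card_eq_prime_sq (p := 2) (by rw [cS]; norm_num)
  set S' := (S : Subgroup M).map M.subtype with hS'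
  have cS' : Nat.card S' = 4 := by rw [hS', card_map_of_injective M.subtype_injective]; exact cS
  set N := normalizer (S' : Set X) with hN
  -- odd subgroups of the normaliser act freely on the three involutions
  have hfree : ∀ H : Subgroup X, H ≤ N → ¬ 2 ∣ Nat.card H → Nat.card H ∣ 3 := by
    intro H hHN hH
    letI : MulAction H {u : S' // u ≠ 1} :=
      { smul := fun y u => ⟨⟨(y : X) * ((u.1 : S') : X) * (y : X)⁻¹,
          mem_conj_normalizer (hHN y.2) u.1.2⟩, fun e =>
            u.2 (Subtype.ext (conj_eq_one_iff.mp (congrArg Subtype.val e)))⟩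
        one_smul := fun u => Subtype.ext (Subtype.ext (by
          show ((1 : H) : X) * _ * ((1 : H) : X)⁻¹ = _; simp))
        mul_smul := fun y z u => Subtype.ext (Subtype.ext (by
          show ((y * z : H) : X) * _ * ((y * z : H) : X)⁻¹ =
            (y : X) * ((z : X) * _ * (z : X)⁻¹) * (y : X)⁻¹
          simp only [Subgroup.coe_mul]; group)) }
    have hf := Block.Zas.card_of_free (H := H) (X := {u : S' // u ≠ 1}) fun y u hy => by
      have hcm : Commute (y : X) ((u.1 : S') : X) :=
        mul_inv_eq_iff_eq_mul.1 (congrArg (fun v : {u : S' // u ≠ 1} => ((v.1 : S') : X)) hy)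
      refine Subtype.ext (PGCIT.eq_one_of_commute_two h (S.isPGroup'.map M.subtype) u.1.2
        (fun e => u.2 (Subtype.ext e)) hcm fun h2 => hH ?_)
      exact h2.trans (orderOf_dvd_natCard H y.2)
    have h1 := Nat.card_congr (Equiv.optionSubtypeNe (1 : S'))
    rw [Finite.card_option, cS'] at h1
    exact Dvd.intro_left _ (hf.symm.trans (by omega))
  have h3N : 3 ∣ Nat.card (normalizer ((S : Subgroup M) : Set M)) := by
    by_contra hn3
    set NM := normalizer ((S : Subgroup M) : Set M) with hNM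
    have hd : Nat.card NM ∣ 60 := hc ▸ card_subgroup_dvd_card NM
    have h20 : Nat.card NM ∣ 20 :=
      ((Nat.prime_three.coprime_iff_not_dvd.2 hn3).symm).dvd_of_dvd_mul_left (by norm_num; exact hd)
    have hn5 : ¬ 5 ∣ Nat.card NM := fun h5 => by
      obtain ⟨x, hx⟩ := exists_prime_orderOf_dvd_card' (G := NM) 5 h5
      have hxN : ((x : M) : X) ∈ N := by
        refine mem_normalizer_fintype ?_
        rintro _ ⟨y, hy, rfl⟩
        exact ⟨_, mem_conj_normalizer x.2 hy, by simp⟩
      have := hfree (zpowers ((x : M) : X)) (zpowers_le.2 hxN)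
        (by rw [Nat.card_zpowers, orderOf_coe, orderOf_coe, hx]; norm_num)
      rw [Nat.card_zpowers, orderOf_coe, orderOf_coe, hx] at this
      norm_num at this
    have h4 : Nat.card NM ∣ 4 :=
      ((p5.coprime_iff_not_dvd.2 hn5).symm).dvd_of_dvd_mul_left (by norm_num; exact h20)
    have hle : (S : Subgroup M) = NM := eq_of_le_of_card_ge le_normalizer
      (le_of_le_of_eq (Nat.le_of_dvd (by norm_num) h4) cS.symm)
    refine not_normalizer_le_centralizer hns (q := 2) (by rw [hc]; norm_num) S ?_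
    rw [← hNM, ← hle]
    exact fun g hg => mem_centralizer_iff.2 fun t ht =>
      congrArg Subtype.val (IsMulCommutative.is_comm.comm (⟨t, ht⟩ : (S : Subgroup M)) ⟨g, hg⟩)
  refine top_of_index fun s hs hd => ?_
  by_cases hs2 : s = 2
  · subst hs2
    have hidx : ∀ s : ℕ, s.Prime → s ∣ M.index → s = 2 := by
      intro s hs hd
      by_contra hs2
      by_cases hs3 : s = 3
      · subst hs3
        obtain ⟨H, hH⟩ := Sylow.exists_subgroup_card_pow_prime (G := N) 3 (n := 2) (by
          rw [hN, hS', card_inner_normalizer M S, show 3 ^ 2 = 3 * 3 by norm_num]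
          exact mul_dvd_mul h3N hd)
        have := hfree (H.map N.subtype) (map_subtype_le _)
          (by rw [card_map_of_injective N.subtype_injective, hH]; norm_num)
        rw [card_map_of_injective N.subtype_injective, hH] at this
        norm_num at this
      · obtain ⟨g, hg⟩ := exists_mul M hs (q := 2) hs2 hd S (by
          rw [cS]
          exact fun e => hs3 ((Nat.prime_dvd_prime_iff_eq hs Nat.prime_three).1 e))
        exact two_mul_absurd h hs hs2 rfl hg
    obtain ⟨e, K, r, he, hmod, heq, hr, hK, -⟩ := normalizer_data M (q := 3) (n := 20)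
      (by rw [hc]) (by norm_num)
    have hKodd : ¬ 2 ∣ K := fun hd2 => by
      obtain ⟨g, hg⟩ := hK 2 Nat.prime_two (by norm_num) hd2
      exact cit_no_double h Nat.prime_three (by norm_num) (m := 2 * 3) (dvd_mul_right _ _)
        (dvd_mul_left _ _) g (hg ▸ dvd_rfl)
    obtain ⟨i, hi⟩ := hd
    have heo : ¬ 2 ∣ e := by
      rintro ⟨e', rfl⟩
      have := (two_part (j := 2) hKodd ⟨3 * e' * i, by rw [hi]; ring⟩ heq).trans hr
      norm_num at this
    have he5 : e = 5 := by
      unfold Nat.ModEq at hmod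
      have := Nat.le_of_dvd (by norm_num) he
      interval_cases e <;> omega
    have h5K : 5 ∣ K := (p5.dvd_mul.1 (heq ▸ ((by rw [he5]; exact (dvd_mul_left 5 3).mul_right _) :
      5 ∣ 3 * e * M.index))).resolve_right fun h5r => by
        have := h5r.trans hr; norm_num at this
    obtain ⟨g, hg⟩ := hK 5 p5 (by norm_num) h5K
    have hgM := mem_of_odd M hidx (g := g) (by rw [hg]; norm_num)
    exact h15 ⟨g, hgM⟩ (by rw [← orderOf_coe]; exact hg.trans (by norm_num))
  · by_cases hs3 : s = 3
    · subst hs3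
      obtain ⟨H, hH⟩ := Sylow.exists_subgroup_card_pow_prime (G := N) 3 (n := 2) (by
        rw [hN, hS', card_inner_normalizer M S, show 3 ^ 2 = 3 * 3 by norm_num]
        exact mul_dvd_mul h3N hd)
      have := hfree (H.map N.subtype) (map_subtype_le _)
        (by rw [card_map_of_injective N.subtype_injective, hH]; norm_num)
      rw [card_map_of_injective N.subtype_injective, hH] at this
      norm_num at this
    · obtain ⟨g, hg⟩ := exists_mul M hs (q := 2) hs2 hd S (by
        rw [cS]
        exact fun e => hs3 ((Nat.prime_dvd_prime_iff_eq hs Nat.prime_three).1 e))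
      exact two_mul_absurd h hs hs2 rfl hg

end Cfsg.Agent.Grp.ThreeOrders
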