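import Mathlib
import Cfsg.Prelude
import Cfsg.Agent.Lib.Grp.ThreeOrders.Radical
import Cfsg.Agent.Lib.Grp.Solvable

/-!
Cores of solvable subgroups in the case `TwoR`, and odd subgroups normalised by a four group.
-/

set_option autoImplicit false
set_option linter.style.haveILetI false
set_option linter.unusedSectionVars false

universe u

namespace Cfsg.Agent.Grp.ThreeOrders

open Subgroup
open scoped commutatorElement

variable {G : Type u} [Group G] [Finite G] {r : ℕ}

/-- An odd subgroup normalised by a noncyclic elementary abelian 2-group is an `r`-group. -/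
theorem TwoR.invariant_isPGroup (h : TwoR G r) (A K : Subgroup G) (hA : IsPGroup 2 A)
    (hnc : ¬ IsCyclic A) (hAK : A ≤ Subgroup.normalizer (K : Set G)) (hodd : ¬ 2 ∣ Nat.card K) :
    IsPGroup r K := by
  haveI := h.two_group_comm hA
  haveI := Fact.mk Nat.prime_two
  obtain ⟨j, hj⟩ := hA.exists_card_eq
  have hcop : (Nat.card A).Coprime (Nat.card K) := by
    rw [hj]; exact (Nat.prime_two.coprime_iff_not_dvd.2 hodd).pow_left j
  refine IsPGroup.of_card (n := (Nat.card K).primeFactorsList.length)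
    (Nat.eq_prime_pow_of_unique_prime_dvd Nat.card_pos.ne' fun {ℓ} hℓ hd => ?_)
  haveI := Fact.mk hℓ
  obtain ⟨L, hL, hLA⟩ := exists_invariant_sylow A K hAK hcop (Or.inr (odd_solvable hodd)) ℓ
  have hL1 : L ≠ ⊥ := fun e => hL.2.2 (by rw [e, Subgroup.relIndex_bot_left]; exact hd)
  have hex : ∃ a ∈ A, a ≠ 1 ∧ L ⊓ Subgroup.centralizer {a} ≠ ⊥ := by
    by_contra hc
    push Not at hc
    apply hL1
    rw [← generated_by_centralizers A L hnc hLA
      (hcop.coprime_dvd_right (Subgroup.card_dvd_of_le hL.1)), eq_bot_iff]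
    exact iSup₂_le fun a ha => (hc a ha.1 ha.2).le
  obtain ⟨a, ha, ha1, hne⟩ := hex
  obtain ⟨x, hx, hxp⟩ := exists_prime_order_mem hne
  obtain ⟨i, hi⟩ := IsPGroup.iff_orderOf.1 hL.2.1 ⟨x, hx.1⟩
  rw [orderOf_mk] at hi
  have hxl : orderOf x = ℓ :=
    (Nat.prime_dvd_prime_iff_eq hxp hℓ).1 (hxp.dvd_of_dvd_pow (n := i) (by rw [← hi]))
  rcases h.primes_of_commute (Or.inl (h.orderOf_eq_two hA ha ha1))
    (Subgroup.mem_centralizer_singleton_iff.1 hx.2) hℓ (by rw [hxl]) with e | e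
  · exact absurd (e ▸ hd) hodd
  · exact e

/-- A Sylow 2-subgroup of a solvable group is normal and self-centralising modulo the odd core. -/
theorem TwoR.core_quotient (h : TwoR G r) [Group.IsSolvable G] (S : Sylow 2 G)
    [(Cfsg.pPrimeCore 2 G).Normal] :
    ((S : Subgroup G).map (QuotientGroup.mk' (Cfsg.pPrimeCore 2 G))).Normal ∧
      Subgroup.centralizer (((S : Subgroup G).map (QuotientGroup.mk' (Cfsg.pPrimeCore 2 G)) :
        Subgroup (G ⧸ Cfsg.pPrimeCore 2 G)) : Set (G ⧸ Cfsg.pPrimeCore 2 G)) ≤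
        (S : Subgroup G).map (QuotientGroup.mk' (Cfsg.pPrimeCore 2 G)) := by
  haveI := Fact.mk Nat.prime_two
  set T := Cfsg.pPrimeCore 2 G
  have hO : Cfsg.pPrimeCore 2 (G ⧸ T) = ⊥ := pPrimeCore_quotient_eq_bot
  let S' : Sylow 2 (G ⧸ T) := S.mapSurjective (QuotientGroup.mk'_surjective T)
  have hS' : (S' : Subgroup (G ⧸ T)) = (S : Subgroup G).map (QuotientGroup.mk' T) :=
    Sylow.coe_mapSurjective _ S
  rw [← hS']
  have hc := (h.quotient T).two_group_comm S'.isPGroup'
  have h1 : Cfsg.pCore 2 (G ⧸ T) ≤ (S' : Subgroup (G ⧸ T)) := pCore_le_sylow S'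
  have h2 : (S' : Subgroup (G ⧸ T)) ≤ Cfsg.pCore 2 (G ⧸ T) := by
    refine le_trans (fun s hs => ?_) (centralizer_pCore_le hO)
    exact Subgroup.mem_centralizer_iff.2 fun x hx =>
      congrArg Subtype.val (hc.is_comm.comm ⟨x, h1 hx⟩ ⟨s, hs⟩)
  have he : Cfsg.pCore 2 (G ⧸ T) = (S' : Subgroup (G ⧸ T)) := le_antisymm h1 h2
  exact ⟨he ▸ pCore_isNormal, he ▸ centralizer_pCore_le hO⟩

theorem TwoR.conj_mem_core_sup (h : TwoR G r) [Group.IsSolvable G] (S : Sylow 2 G) {x s : G}
    (hs : s ∈ (S : Subgroup G)) :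
    x * s * x⁻¹ ∈ Cfsg.pPrimeCore 2 G ⊔ (S : Subgroup G) := by
  haveI : (Cfsg.pPrimeCore 2 G).Normal := pPrimeCore_isNormal
  have h1 := (h.core_quotient S).1.conj_mem _ ⟨s, hs, rfl⟩ (x : G ⧸ Cfsg.pPrimeCore 2 G)
  have h2 : x * s * x⁻¹ ∈
      ((S : Subgroup G).map (QuotientGroup.mk' (Cfsg.pPrimeCore 2 G))).comap
        (QuotientGroup.mk' (Cfsg.pPrimeCore 2 G)) := by
    rw [Subgroup.mem_comap]; simpa using h1
  rw [QuotientGroup.comap_map_mk'] at h2
  exact h2

/-- An odd subgroup normalised by a Sylow 2-subgroup lies in the odd core. -/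
theorem TwoR.invariant_le_core (h : TwoR G r) [Group.IsSolvable G] (S : Sylow 2 G) (K : Subgroup G)
    (hK : ¬ 2 ∣ Nat.card K) (hSK : (S : Subgroup G) ≤ Subgroup.normalizer (K : Set G)) :
    K ≤ Cfsg.pPrimeCore 2 G := by
  haveI := Fact.mk Nat.prime_two
  haveI : (Cfsg.pPrimeCore 2 G).Normal := pPrimeCore_isNormal
  set q := QuotientGroup.mk' (Cfsg.pPrimeCore 2 G) with hq
  obtain ⟨hn, hc⟩ := h.core_quotient S
  set S' := (S : Subgroup G).map q with hS'
  have hS'p : IsPGroup 2 S' := S.isPGroup'.map q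
  have hK' : ¬ 2 ∣ Nat.card (K.map q) := fun hd => hK (hd.trans (Subgroup.card_map_dvd K q))
  have hinf : K.map q ⊓ S' = ⊥ := by
    obtain ⟨j, hj⟩ := hS'p.exists_card_eq
    exact inf_eq_bot_of_coprime (by
      rw [hj]; exact ((Nat.prime_two.coprime_iff_not_dvd.2 hK').symm).pow_right j)
  intro k hk
  have hcen : q k ∈ Subgroup.centralizer (S' : Set _) := by
    rw [Subgroup.mem_centralizer_iff]
    rintro _ ⟨s, hs, rfl⟩
    refine (commutatorElement_eq_one_iff_mul_comm.1 (?_ : ⁅q s, q k⁆ = 1))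
    refine Subgroup.mem_bot.1 (hinf ▸ Subgroup.mem_inf.2 ⟨?_, ?_⟩)
    · rw [← map_commutatorElement]
      refine Subgroup.mem_map_of_mem q ?_
      rw [commutatorElement_def]
      exact K.mul_mem (mem_conj_normalizer (hSK hs) hk) (K.inv_mem hk)
    · rw [commutatorElement_def, mul_assoc, mul_assoc, ← mul_assoc (q k)]
      exact S'.mul_mem ⟨s, hs, rfl⟩ (hn.conj_mem _ (S'.inv_mem ⟨s, hs, rfl⟩) (q k))
  have : q k ∈ K.map q ⊓ S' := ⟨Subgroup.mem_map_of_mem q hk, hc hcen⟩
  rw [hinf, Subgroup.mem_bot, hq, QuotientGroup.mk'_apply, QuotientGroup.eq_one_iff] at this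
  exact this

/-- The odd core of an element centraliser, as a subgroup of the whole group. -/
def coreAt (a : G) : Subgroup G :=
  (Cfsg.pPrimeCore 2 (Subgroup.centralizer ({a} : Set G))).map
    (Subgroup.centralizer ({a} : Set G)).subtype

theorem coreAt_le (a : G) : coreAt a ≤ Subgroup.centralizer ({a} : Set G) :=
  Subgroup.map_subtype_le _

theorem coreAt_odd (a : G) : ¬ 2 ∣ Nat.card (coreAt a) := by
  haveI := Fact.mk Nat.prime_two
  rw [coreAt, Subgroup.card_map_of_injective (Subgroup.subtype_injective _)]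
  exact pPrimeCore_not_dvd

theorem coreAt_normalized (a : G) :
    Subgroup.centralizer ({a} : Set G) ≤ Subgroup.normalizer (coreAt a : Set G) := by
  intro c hc
  refine mem_normalizer_fintype ?_
  rintro _ ⟨x, hx, rfl⟩
  haveI : (Cfsg.pPrimeCore 2 (Subgroup.centralizer ({a} : Set G))).Normal := pPrimeCore_isNormal
  exact ⟨_, Subgroup.Normal.conj_mem inferInstance x hx ⟨c, hc⟩, rfl⟩

theorem le_coreAt {a : G} {K : Subgroup G} (hK : K ≤ Subgroup.centralizer ({a} : Set G))
    (hodd : ¬ 2 ∣ Nat.card K)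
    (hn : Subgroup.centralizer ({a} : Set G) ≤ Subgroup.normalizer (K : Set G)) : K ≤ coreAt a := by
  haveI : (K.subgroupOf (Subgroup.centralizer ({a} : Set G))).Normal :=
    Subgroup.normal_subgroupOf_of_le_normalizer hn
  have h1 := le_pPrimeCore (p := 2) (N := K.subgroupOf (Subgroup.centralizer ({a} : Set G)))
    inferInstance (by
      rw [Nat.card_congr (Subgroup.subgroupOfEquivOfLe hK).toEquiv]
      exact (Nat.prime_two.coprime_iff_not_dvd.2 hodd).symm)
  exact fun k hk => ⟨⟨k, hK hk⟩, h1 hk, rfl⟩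

theorem coreAt_conj_le (a g : G) :
    (coreAt a).map (MulAut.conj g).toMonoidHom ≤ coreAt (g * a * g⁻¹) := by
  refine le_coreAt ?_ ?_ ?_
  · rintro _ ⟨x, hx, rfl⟩
    rw [Subgroup.mem_centralizer_singleton_iff]
    have := Subgroup.mem_centralizer_singleton_iff.1 (coreAt_le a hx)
    show g * x * g⁻¹ * (g * a * g⁻¹) = g * a * g⁻¹ * (g * x * g⁻¹)
    calc g * x * g⁻¹ * (g * a * g⁻¹) = g * (x * a) * g⁻¹ := by group
      _ = g * (a * x) * g⁻¹ := by rw [this]
      _ = _ := by group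
  · rw [Subgroup.card_map_of_injective (MulAut.conj g).injective]; exact coreAt_odd a
  · intro c hc
    refine mem_normalizer_fintype ?_
    rintro _ ⟨x, hx, rfl⟩
    refine ⟨(g⁻¹ * c * g) * x * (g⁻¹ * c * g)⁻¹, ?_, by simp [mul_assoc]⟩
    refine mem_conj_normalizer (coreAt_normalized a ?_) hx
    rw [Subgroup.mem_centralizer_singleton_iff] at hc ⊢
    calc g⁻¹ * c * g * a = g⁻¹ * (c * (g * a * g⁻¹)) * g := by group
      _ = g⁻¹ * (g * a * g⁻¹ * c) * g := by rw [hc]
      _ = _ := by group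

theorem TwoR.invariant_le_coreAt (h : TwoR G r) (S : Sylow 2 G) {a : G}
    (hsol : Group.IsSolvable (Subgroup.centralizer ({a} : Set G)))
    (hSC : (S : Subgroup G) ≤ Subgroup.centralizer ({a} : Set G)) (K : Subgroup G)
    (hKa : K ≤ Subgroup.centralizer ({a} : Set G))
    (hodd : ¬ 2 ∣ Nat.card K) (hSK : (S : Subgroup G) ≤ Subgroup.normalizer (K : Set G)) :
    K ≤ coreAt a := by
  haveI := hsol
  set C := Subgroup.centralizer ({a} : Set G)
  have h1 := (h.subgroup C).invariant_le_core (S.subtype hSC) (K.subgroupOf C)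
    (by rw [Nat.card_congr (Subgroup.subgroupOfEquivOfLe hKa).toEquiv]; exact hodd)
    (by
      intro s hs
      rw [Sylow.coe_subtype, Subgroup.mem_subgroupOf] at hs
      refine Subgroup.mem_normalizer_iff.2 fun k => ?_
      simp only [Subgroup.mem_subgroupOf, Subgroup.coe_mul, InvMemClass.coe_inv]
      exact Subgroup.mem_normalizer_iff.1 (hSK hs) k)
  exact fun k hk => ⟨⟨k, hKa hk⟩, h1 hk, rfl⟩

theorem TwoR.conj_mem_coreAt_sup (h : TwoR G r) (S : Sylow 2 G) {a : G}
    (hsol : Group.IsSolvable (Subgroup.centralizer ({a} : Set G)))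
    (hSC : (S : Subgroup G) ≤ Subgroup.centralizer ({a} : Set G))
    {c s : G} (hc : c ∈ Subgroup.centralizer ({a} : Set G))
    (hs : s ∈ (S : Subgroup G)) : c * s * c⁻¹ ∈ coreAt a ⊔ (S : Subgroup G) := by
  haveI := hsol
  set C := Subgroup.centralizer ({a} : Set G)
  have h1 := (h.subgroup C).conj_mem_core_sup (S.subtype hSC) (x := ⟨c, hc⟩) (s := ⟨s, hSC hs⟩)
    (by rw [Sylow.coe_subtype]; exact hs)
  have h2 := Subgroup.mem_map_of_mem C.subtype h1
  rw [Sylow.coe_subtype, Subgroup.map_sup, Subgroup.map_subgroupOf_eq_of_le hSC] at h2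
  exact h2

theorem TwoR.sylow_le_centralizer (h : TwoR G r) (S : Sylow 2 G) {a : G}
    (haS : a ∈ (S : Subgroup G)) : (S : Subgroup G) ≤ Subgroup.centralizer ({a} : Set G) := fun s hs =>
  Subgroup.mem_centralizer_singleton_iff.2
    (congrArg Subtype.val ((h.two_group_comm S.isPGroup').is_comm.comm ⟨s, hs⟩ ⟨a, haS⟩))

end Cfsg.Agent.Grp.ThreeOrders
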