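import Mathlib
import Cfsg.Prelude
import Cfsg.Agent.S0217
import Cfsg.Agent.Lib.Grp.ThreeOrders.CoreTool
import Cfsg.Agent.Lib.Transfer.Burnside

/-!
Rank at least three: the involution centralisers lie in the Sylow 2-normaliser.
-/

set_option autoImplicit false
set_option linter.style.haveILetI false
set_option linter.unusedSectionVars false

universe u

namespace Cfsg.Agent.Grp.ThreeOrders

open Subgroup
open scoped commutatorElement

variable {G : Type u} [Group G] [Finite G] {r : ℕ}

theorem perfect_of_simple [IsSimpleGroup G] (hns : ¬ Group.IsSolvable G) : commutator G = ⊤ := by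
  rcases IsSimpleGroup.eq_bot_or_eq_top_of_normal (commutator G) inferInstance with e | e
  · refine absurd (Group.isSolvable_of_comm fun a b => ?_) hns
    rw [← commutatorElement_eq_one_iff_mul_comm, ← Subgroup.mem_bot, ← e, commutator_def]
    exact Subgroup.commutator_mem_commutator (Subgroup.mem_top a) (Subgroup.mem_top b)
  · exact e

theorem TwoR.sylow_le_focal [IsSimpleGroup G] (h : TwoR G r) (hns : ¬ Group.IsSolvable G)
    (S : Sylow 2 G) :
    (S : Subgroup G) ≤ ⁅(S : Subgroup G), Subgroup.normalizer ((S : Subgroup G) : Set G)⁆ := by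
  haveI := Fact.mk Nat.prime_two
  have := (Transfer.abelian_sylow_inf_commutator S (h.two_group_comm S.isPGroup')).1
  rwa [perfect_of_simple hns, top_inf_eq] at this

theorem TwoR.centralizer_le_normalizer_of_core (h : TwoR G r) (S : Sylow 2 G) {a : G}
    (hsol : Group.IsSolvable (Subgroup.centralizer ({a} : Set G)))
    (hSC : (S : Subgroup G) ≤ Subgroup.centralizer ({a} : Set G))
    (hcent : (S : Subgroup G) ≤ Subgroup.centralizer (coreAt a : Set G)) :
    Subgroup.centralizer ({a} : Set G) ≤ Subgroup.normalizer ((S : Subgroup G) : Set G) := by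
  intro c hc
  refine mem_normalizer_fintype fun s hs => ?_
  have hle : coreAt a ≤ Subgroup.normalizer ((S : Subgroup G) : Set G) := by
    intro w hw
    refine mem_normalizer_fintype fun x hx => ?_
    have hwx : x * w = w * x := (Subgroup.mem_centralizer_iff.1 (hcent hx) w hw).symm
    rw [← hwx, mul_inv_cancel_right]
    exact hx
  have hm := h.conj_mem_coreAt_sup S hsol hSC hc hs
  rw [← SetLike.mem_coe, Subgroup.coe_mul_of_left_le_normalizer_right _ _ hle] at hm
  obtain ⟨w, hw, x, hx, hwx⟩ := hm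
  have hwx' : c * s * c⁻¹ = w * x := hwx.symm
  have hcm : Commute w x := Subgroup.mem_centralizer_iff.1 (hcent hx) w hw
  have h1 : (w * x) * (w * x) = 1 := by
    rw [← hwx']
    calc c * s * c⁻¹ * (c * s * c⁻¹) = c * (s * s) * c⁻¹ := by group
      _ = 1 := by rw [h.two_group_sq S.isPGroup' hs]; group
  have h2 : w ^ 2 = 1 := by
    have e : (w * x) * (w * x) = (w * w) * (x * x) := hcm.symm.mul_mul_mul_comm w x
    rw [h1, h.two_group_sq S.isPGroup' hx, mul_one] at e
    rw [sq]; exact e.symm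
  have h3 : orderOf w = 1 := by
    by_contra hne
    have h4 : orderOf w = 2 := (Nat.prime_two.eq_one_or_self_of_dvd _
      (orderOf_dvd_of_pow_eq_one h2)).resolve_left hne
    exact coreAt_odd a (h4 ▸ Subgroup.orderOf_dvd_natCard _ hw)
  rw [hwx', orderOf_eq_one_iff.1 h3, one_mul]
  exact hx

theorem TwoR.coreAt_balance (h : TwoR G r) (S : Sylow 2 G) {a b : G}
    (hb : orderOf b = 2) (haS : a ∈ (S : Subgroup G)) (hbS : b ∈ (S : Subgroup G)) :
    coreAt a ⊓ Subgroup.centralizer ({b} : Set G) ≤ coreAt b := by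
  refine h.invariant_le_coreAt S (h.solvable_of_le_centralizer (Or.inl hb) le_rfl) (h.sylow_le_centralizer S hbS) _ inf_le_right
    (fun hd => coreAt_odd a (hd.trans (Subgroup.card_dvd_of_le inf_le_left))) ?_
  intro s hs
  have hsc : ∀ {z : G}, z ∈ (S : Subgroup G) → s ∈ Subgroup.centralizer ({z} : Set G) := fun {z} hz =>
    Subgroup.mem_centralizer_singleton_iff.2
      (congrArg Subtype.val ((h.two_group_comm S.isPGroup').is_comm.comm ⟨s, hs⟩ ⟨z, hz⟩))
  rw [mem_normalizer_iff_smul, Subgroup.smul_inf, mem_normalizer_iff_smul.1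
    (coreAt_normalized a (hsc haS)), Subgroup.conj_smul_eq_self_of_mem (hsc hbS)]

/-- Rank at least three: `C(a) ≤ N(S)`. -/
theorem TwoR.signal [IsSimpleGroup G] (h : TwoR G r) (hns : ¬ Group.IsSolvable G) (S : Sylow 2 G)
    (h8 : 2 ^ 3 ≤ Nat.card (S : Subgroup G)) {a : G} (haS : a ∈ (S : Subgroup G)) (ha1 : a ≠ 1) :
    Subgroup.centralizer ({a} : Set G) ≤ Subgroup.normalizer ((S : Subgroup G) : Set G) := by
  haveI := Fact.mk Nat.prime_two
  haveI hSc := h.two_group_comm S.isPGroup'
  have hinv : ∀ {b : G}, b ∈ (S : Subgroup G) → b ≠ 1 → orderOf b = 2 :=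
    fun hb hb1 => h.orderOf_eq_two S.isPGroup' hb hb1
  have hcomm : ∀ b ∈ (S : Subgroup G), ∀ c ∈ (S : Subgroup G), b * c = c * b := fun b hb c hc =>
    congrArg Subtype.val (hSc.is_comm.comm ⟨b, hb⟩ ⟨c, hc⟩)
  obtain ⟨hW2, hWC⟩ := Cfsg.Agent.S0217.result (p := 2) (S : Subgroup G) hcomm
    (fun b hb => by rw [sq]; exact h.two_group_sq S.isPGroup' hb) h8 coreAt
    (fun b _ _ => coreAt_le b) (fun b _ _ => coreAt_odd b)
    (fun b hb _ c hc x hx => mem_conj_normalizer
      (coreAt_normalized b (Subgroup.mem_centralizer_singleton_iff.2 (hcomm c hc b hb))) hx)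
    (fun b _ _ => odd_solvable (coreAt_odd b))
    (fun b hb hb1 c hc hc1 => h.coreAt_balance S (hinv hc hc1) hb hc)
  set W := ⨆ b : {b : G // b ∈ (S : Subgroup G) ∧ b ≠ 1}, coreAt (b : G) with hW
  -- `N(S)` normalises `W`
  have hNW : Subgroup.normalizer ((S : Subgroup G) : Set G) ≤ Subgroup.normalizer (W : Set G) := by
    intro g hg
    have key : ∀ g ∈ Subgroup.normalizer ((S : Subgroup G) : Set G),
        W.map (MulAut.conj g).toMonoidHom ≤ W := by
      intro g hg
      rw [hW, Subgroup.map_iSup]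
      refine iSup_le fun b => (coreAt_conj_le (b : G) g).trans ?_
      exact le_iSup (fun c : {b : G // b ∈ (S : Subgroup G) ∧ b ≠ 1} => coreAt (c : G))
        ⟨g * b * g⁻¹, mem_conj_normalizer hg b.2.1, fun e => b.2.2 (conj_eq_one_iff.1 e)⟩
    exact mem_normalizer_fintype fun x hx => key g hg ⟨x, hx, rfl⟩
  have hSN : (S : Subgroup G) ≤ Subgroup.normalizer ((S : Subgroup G) : Set G) :=
    Subgroup.le_normalizer
  have hnc := h.not_cyclic hns S
  have hWr : IsPGroup r W := h.invariant_isPGroup _ W S.isPGroup' hnc (hSN.trans hNW) hW2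
  -- `S` centralises `W`
  set S₀ := (S : Subgroup G) ⊓ Subgroup.centralizer (W : Set G) with hS₀
  have hNS₀ : Subgroup.normalizer ((S : Subgroup G) : Set G) ≤ Subgroup.normalizer (S₀ : Set G) := by
    intro g hg
    refine mem_normalizer_fintype fun x hx => ⟨mem_conj_normalizer hg hx.1,
      Subgroup.mem_centralizer_iff.2 fun w hw => ?_⟩
    have := Subgroup.mem_centralizer_iff.1 hx.2 _ (mem_conj_normalizer' (hNW hg) hw)
    calc w * (g * x * g⁻¹) = g * ((g⁻¹ * w * g) * x) * g⁻¹ := by group
      _ = g * (x * (g⁻¹ * w * g)) * g⁻¹ := by rw [this]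
      _ = _ := by group
  have hle : ⁅(S : Subgroup G), Subgroup.normalizer ((S : Subgroup G) : Set G)⁆ ≤ S₀ := by
    by_contra hne
    obtain ⟨y, hy, hyp, hy2, hyne⟩ := h.exists_prime_elt S S₀ hNS₀ hne
    exact hyne (le_inf (commutator_le_left_zpowers hy)
      (h.lift_two (S : Subgroup G) W S.isPGroup' hWr (hSN.trans hNW) (hNW hy) hy hyp hy2 rfl))
  have hSW : (S : Subgroup G) ≤ Subgroup.centralizer (W : Set G) :=
    ((h.sylow_le_focal hns S).trans hle).trans inf_le_right
  refine h.centralizer_le_normalizer_of_core S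
    (h.solvable_of_le_centralizer (Or.inl (hinv haS ha1)) le_rfl) (h.sylow_le_centralizer S haS)
    (hSW.trans (Subgroup.centralizer_le ?_))
  rw [← hWC a haS ha1]
  exact SetLike.coe_subset_coe.2 inf_le_left

end Cfsg.Agent.Grp.ThreeOrders
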