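import Mathlib
import Cfsg.Prelude
import Cfsg.Agent.S1224
import Cfsg.Agent.S1225
import Cfsg.Agent.Lib.Invol.StronglyEmbeddedCount
import Cfsg.Agent.Lib.Grp.ThreeOrders.Signal

/-!
A simple group of type `TwoR` in which the involution centralisers lie in the Sylow 2-normaliser:
basic facts.
-/

set_option autoImplicit false
set_option linter.style.haveILetI false
set_option linter.unusedSectionVars false

universe u

namespace Cfsg.Agent.Grp.ThreeOrders

open Subgroup
open scoped commutatorElement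

variable {G : Type u} [Group G] [Finite G] {r : ℕ}

/-- The normaliser of a Sylow 2-subgroup. -/
abbrev nS (S : Sylow 2 G) : Subgroup G := Subgroup.normalizer ((S : Subgroup G) : Set G)

/-- The involution centralisers lie in the Sylow 2-normaliser. -/
structure SEHyp (G : Type u) [Group G] [Finite G] (r : ℕ) (S : Sylow 2 G) : Prop where
  twoR : TwoR G r
  nonsolvable : ¬ Group.IsSolvable G
  cent : ∀ a ∈ (S : Subgroup G), a ≠ 1 → Subgroup.centralizer ({a} : Set G) ≤ nS S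
  mixed : ∃ g : G, orderOf g = 2 * r

theorem mem_smul_sylow {p : ℕ} [Fact p.Prime] (g : G) (S : Sylow p G) {x : G} :
    x ∈ ((g • S : Sylow p G) : Subgroup G) ↔ g⁻¹ * x * g ∈ (S : Subgroup G) := by
  rw [Sylow.coe_subgroup_smul, Subgroup.mem_pointwise_smul_iff_inv_smul_mem]
  simp [mul_assoc]

/-- A fixed-point-free involutory action inverts. -/
theorem inverts_of_fpf (N : Subgroup G) {t : G} (ht2 : t * t = 1)
    (ht' : ∀ n ∈ N, t * n * t⁻¹ ∈ N) (hfpf : ∀ x ∈ N, Commute x t → x = 1) {n : G} (hn : n ∈ N) :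
    t * n * t⁻¹ = n⁻¹ := by
  have htinv : t⁻¹ = t := inv_eq_of_mul_eq_one_right ht2
  let ψ : N → N := fun v => v⁻¹ * ⟨t * v * t⁻¹, ht' v v.2⟩
  have hinj : Function.Injective ψ := by
    intro v w hvw
    have e : (v : G)⁻¹ * (t * v * t⁻¹) = (w : G)⁻¹ * (t * w * t⁻¹) := congrArg Subtype.val hvw
    have e2 : Commute ((w : G) * (v : G)⁻¹) t := by
      have e3 : t * v * t⁻¹ = (v : G) * ((w : G)⁻¹ * (t * w * t⁻¹)) := by rw [← e]; group
      have e4 : t * ((w : G) * (v : G)⁻¹) * t⁻¹ = (w : G) * (v : G)⁻¹ := by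
        calc t * ((w : G) * (v : G)⁻¹) * t⁻¹ = (t * w * t⁻¹) * (t * v * t⁻¹)⁻¹ := by group
          _ = _ := by rw [e3]; group
      exact ((mul_inv_eq_iff_eq_mul.1 e4).symm : _)
    exact (Subtype.ext (mul_inv_eq_one.1 (hfpf _ (N.mul_mem w.2 (N.inv_mem v.2)) e2))).symm
  obtain ⟨v, hv⟩ := (Finite.injective_iff_surjective.mp hinj) ⟨n, hn⟩
  have e : (v : G)⁻¹ * (t * v * t⁻¹) = n := congrArg Subtype.val hv
  rw [← e, htinv]
  simp only [mul_inv_rev, htinv, inv_inv, mul_assoc, ht2, mul_one]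

theorem comm_of_inverted (N : Subgroup G) {t : G} (h : ∀ n ∈ N, t * n * t⁻¹ = n⁻¹) {a b : G}
    (ha : a ∈ N) (hb : b ∈ N) : a * b = b * a := by
  have e := h _ (mul_mem ha hb)
  rw [show t * (a * b) * t⁻¹ = (t * a * t⁻¹) * (t * b * t⁻¹) by group, h a ha, h b hb,
    ← mul_inv_rev, inv_inj] at e
  exact e.symm

/-- Orbits of conjugation: the index of the centraliser. -/
theorem card_orbit_mul (K : Subgroup G) (a : G) :
    Nat.card {b : G // ∃ k ∈ K, k * a * k⁻¹ = b} *
      Nat.card (K ⊓ Subgroup.centralizer ({a} : Set G) : Subgroup G) = Nat.card K := by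
  classical
  set C := (Subgroup.centralizer ({a} : Set G)).subgroupOf K with hC
  have hbij : Function.Bijective (fun q : K ⧸ C =>
      (⟨(q.out : G) * a * (q.out : G)⁻¹, q.out, q.out.2, rfl⟩ :
        {b : G // ∃ k ∈ K, k * a * k⁻¹ = b})) := by
    constructor
    · intro q p e
      have e' : (q.out : G) * a * (q.out : G)⁻¹ = (p.out : G) * a * (p.out : G)⁻¹ :=
        congrArg Subtype.val e
      rw [← QuotientGroup.out_eq' q, ← QuotientGroup.out_eq' p, QuotientGroup.eq]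
      refine Subgroup.mem_subgroupOf.2 ?_
      rw [Subgroup.mem_centralizer_singleton_iff]
      simp only [Subgroup.coe_mul, InvMemClass.coe_inv]
      calc (q.out : G)⁻¹ * (p.out : G) * a
          = (q.out : G)⁻¹ * ((p.out : G) * a * (p.out : G)⁻¹) * (p.out : G) := by group
        _ = (q.out : G)⁻¹ * ((q.out : G) * a * (q.out : G)⁻¹) * (p.out : G) := by rw [e']
        _ = a * ((q.out : G)⁻¹ * (p.out : G)) := by group
    · rintro ⟨b, k, hk, rfl⟩
      obtain ⟨c, hc⟩ := QuotientGroup.mk_out_eq_mul C ⟨k, hk⟩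
      refine ⟨QuotientGroup.mk ⟨k, hk⟩, Subtype.ext ?_⟩
      show ((QuotientGroup.mk ⟨k, hk⟩ : K ⧸ C).out : G) * a * _⁻¹ = k * a * k⁻¹
      rw [hc]
      simp only [Subgroup.coe_mul]
      have hca : ((c : K) : G) * a = a * ((c : K) : G) :=
        Subgroup.mem_centralizer_singleton_iff.1 (Subgroup.mem_subgroupOf.1 c.2)
      calc k * ((c : K) : G) * a * (k * ((c : K) : G))⁻¹
          = k * (((c : K) : G) * a) * ((c : K) : G)⁻¹ * k⁻¹ := by group
        _ = k * (a * ((c : K) : G)) * ((c : K) : G)⁻¹ * k⁻¹ := by rw [hca]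
        _ = _ := by group
  rw [← Nat.card_congr (Equiv.ofBijective _ hbij), ← Subgroup.index_eq_card, hC,
    ← Nat.card_congr (Subgroup.subgroupOfEquivOfLe
      (inf_le_left (a := K) (b := Subgroup.centralizer ({a} : Set G)))).toEquiv,
    Subgroup.inf_subgroupOf_left, mul_comm, Subgroup.card_mul_index]

variable {S : Sylow 2 G}

namespace SEHyp

variable (c : SEHyp G r S)
include c

theorem mul_self {s : G} (hs : s ∈ (S : Subgroup G)) : s * s = 1 :=
  c.twoR.two_group_sq S.isPGroup' hs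

theorem orderOf_two {s : G} (hs : s ∈ (S : Subgroup G)) (hs1 : s ≠ 1) : orderOf s = 2 :=
  c.twoR.orderOf_eq_two S.isPGroup' hs hs1

theorem inv_self {s : G} (hs : s ∈ (S : Subgroup G)) : s⁻¹ = s :=
  inv_eq_of_mul_eq_one_right (c.mul_self hs)

theorem comm {a b : G} (ha : a ∈ (S : Subgroup G)) (hb : b ∈ (S : Subgroup G)) : a * b = b * a :=
  congrArg Subtype.val ((c.twoR.two_group_comm S.isPGroup').is_comm.comm ⟨a, ha⟩ ⟨b, hb⟩)

theorem sylow_le : (S : Subgroup G) ≤ nS S := Subgroup.le_normalizer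

theorem two_mem {t : G} (ht : t ∈ nS S) (h2 : t * t = 1) : t ∈ (S : Subgroup G) := by
  haveI := Fact.mk Nat.prime_two
  have hp : IsPGroup 2 (Subgroup.zpowers t) := by
    obtain ⟨k, -, hk⟩ := (Nat.dvd_prime_pow Nat.prime_two).1
      (show orderOf t ∣ 2 ^ 1 by rw [pow_one]; exact orderOf_dvd_of_pow_eq_one (by rw [sq, h2]))
    exact IsPGroup.of_card (n := k) (by rw [Nat.card_zpowers, hk])
  have hinf : Subgroup.zpowers t ⊓ nS S = Subgroup.zpowers t ⊓ (S : Subgroup G) :=
    hp.inf_normalizer_sylow S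
  exact ((hinf ▸ ⟨Subgroup.mem_zpowers t, ht⟩ :
    t ∈ Subgroup.zpowers t ⊓ (S : Subgroup G))).2

theorem inv_mem {t : G} (ht : t ∈ nS S) (h2 : orderOf t = 2) : t ∈ (S : Subgroup G) :=
  c.two_mem ht (Invol.mul_self_of_orderOf_two h2)

theorem exists_mem : ∃ a ∈ (S : Subgroup G), a ≠ 1 := by
  by_contra hc
  push Not at hc
  refine c.twoR.not_cyclic c.nonsolvable S ?_
  haveI : Subsingleton (S : Subgroup G) :=
    ⟨fun x y => Subtype.ext ((hc x x.2).trans (hc y y.2).symm)⟩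
  infer_instance

theorem four_le : 4 ≤ Nat.card (S : Subgroup G) := by
  haveI := Fact.mk Nat.prime_two
  obtain ⟨k, hk⟩ := S.isPGroup'.exists_card_eq
  rcases k with _ | _ | k
  · exfalso
    refine c.twoR.not_cyclic c.nonsolvable S ?_
    haveI : Subsingleton (S : Subgroup G) := (Nat.card_eq_one_iff_unique.1 (by rw [hk, pow_zero])).1
    infer_instance
  · exact absurd (isCyclic_of_prime_card (p := 2) (by rw [hk, pow_one])) (c.twoR.not_cyclic c.nonsolvable S)
  · rw [hk, pow_succ, pow_succ]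
    have : 1 ≤ 2 ^ k := Nat.one_le_two_pow
    omega

theorem even_nS : Even (Nat.card (nS S)) := by
  obtain ⟨a, ha, ha1⟩ := c.exists_mem
  exact Invol.even_card_of_mem (c.orderOf_two ha ha1) (c.sylow_le ha)

theorem ne_top [IsSimpleGroup G] : nS S ≠ ⊤ := by
  intro e
  haveI : (S : Subgroup G).Normal := Subgroup.normalizer_eq_top_iff.1 e
  rcases IsSimpleGroup.eq_bot_or_eq_top_of_normal (S : Subgroup G) inferInstance with h | h
  · obtain ⟨a, ha, ha1⟩ := c.exists_mem
    exact ha1 (Subgroup.mem_bot.1 (h ▸ ha))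
  · haveI := Fact.mk Nat.prime_two
    haveI := ((S.isPGroup'.of_equiv ((MulEquiv.subgroupCongr h).trans Subgroup.topEquiv)) :
      IsPGroup 2 G).isNilpotent
    exact c.nonsolvable inferInstance

theorem se [IsSimpleGroup G] : Cfsg.IsStronglyEmbedded (nS S) := by
  haveI := Fact.mk Nat.prime_two
  rw [Invol.isStronglyEmbedded_iff c.ne_top c.even_nS]
  intro t ht ht2 g hg
  have htS := c.inv_mem ht ht2
  have ho : orderOf (g⁻¹ * t * g) = 2 := by
    rw [← ht2, ← Invol.orderOf_conj_eq g⁻¹ t, inv_inv]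
  have hgS := c.inv_mem hg ho
  obtain ⟨n, hn, he⟩ := Transfer.exists_normalizer_conj_of_abelian S
    (c.twoR.two_group_comm S.isPGroup') (g := g⁻¹) htS (by rw [inv_inv]; exact hgS)
  rw [inv_inv] at he
  have hgn : g * n ∈ Subgroup.centralizer ({t} : Set G) := by
    rw [Subgroup.mem_centralizer_singleton_iff]
    calc g * n * t = g * (n * t * n⁻¹) * n := by group
      _ = g * (g⁻¹ * t * g) * n := by rw [he]
      _ = t * (g * n) := by group
  have := (nS S).mul_mem (c.cent t htS (Invol.ne_one_of_orderOf_two ht2) hgn) ((nS S).inv_mem hn)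
  simpa using this

theorem conj (g : G) : SEHyp G r (g • S) := by
  haveI := Fact.mk Nat.prime_two
  refine ⟨c.twoR, c.nonsolvable, fun a ha ha1 x hx => ?_, c.mixed⟩
  rw [mem_smul_sylow] at ha
  have hx' : g⁻¹ * x * g ∈ nS S := by
    refine c.cent _ ha (fun e => ha1 ?_) ?_
    · calc a = g * (g⁻¹ * a * g) * g⁻¹ := by group
        _ = 1 := by rw [e]; group
    · rw [Subgroup.mem_centralizer_singleton_iff] at hx ⊢
      calc g⁻¹ * x * g * (g⁻¹ * a * g) = g⁻¹ * (x * a) * g := by group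
        _ = g⁻¹ * (a * x) * g := by rw [hx]
        _ = _ := by group
  refine Subgroup.mem_normalizer_iff.2 fun y => ?_
  rw [mem_smul_sylow, mem_smul_sylow, Subgroup.mem_normalizer_iff.1 hx' (g⁻¹ * y * g)]
  rw [show g⁻¹ * x * g * (g⁻¹ * y * g) * (g⁻¹ * x * g)⁻¹ = g⁻¹ * (x * y * x⁻¹) * g by group]

theorem exists_outside [IsSimpleGroup G] : ∃ v : G, orderOf v = 2 ∧ v ∉ nS S := by
  by_contra hcon
  push Not at hcon
  obtain ⟨a, ha, ha1⟩ := c.exists_mem
  refine c.ne_top (eq_top_iff.2 fun g _ => ?_)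
  refine (Invol.isStronglyEmbedded_iff c.ne_top c.even_nS).1 c.se a (c.sylow_le ha)
    (c.orderOf_two ha ha1) g (hcon _ ?_)
  rw [← c.orderOf_two ha ha1, ← Invol.orderOf_conj_eq g⁻¹ a, inv_inv]

theorem trans [IsSimpleGroup G] {v : G} (hv : orderOf v = 2) (hvN : v ∉ nS S) {a b : G}
    (ha : a ∈ (S : Subgroup G)) (ha1 : a ≠ 1) (hb : b ∈ (S : Subgroup G)) (hb1 : b ≠ 1) :
    ∃ d ∈ nS S ⊓ (nS S).map (MulAut.conj v).toMonoidHom, d * a * d⁻¹ = b :=
  Invol.exists_conj_inf c.se hv hvN (c.orderOf_two ha ha1) (c.sylow_le ha) (c.orderOf_two hb hb1)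
    (c.sylow_le hb)

theorem card_invol :
    Nat.card {t : G // orderOf t = 2 ∧ t ∈ nS S} = Nat.card (S : Subgroup G) - 1 := by
  classical
  haveI := Fintype.ofFinite G
  rw [Nat.card_congr (Equiv.subtypeEquivRight (q := fun t => t ∈ (S : Subgroup G) ∧ ¬ t = 1)
    fun t => ⟨fun h => ⟨c.inv_mem h.2 h.1, Invol.ne_one_of_orderOf_two h.1⟩,
      fun h => ⟨c.orderOf_two h.1 h.2, c.sylow_le h.1⟩⟩)]
  rw [Nat.card_eq_fintype_card, Fintype.card_subtype, Nat.card_eq_fintype_card,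
    Fintype.card_subtype, ← Finset.card_erase_of_mem (a := (1 : G)) (by simp)]
  congr 1
  ext t
  simp [and_comm]

/-- Orbit of `S#`: transitive subgroups of `N(S)`. -/
theorem card_trans {K : Subgroup G} (hK : K ≤ nS S) {a : G} (ha : a ∈ (S : Subgroup G)) (ha1 : a ≠ 1)
    (htr : ∀ b ∈ (S : Subgroup G), b ≠ 1 → ∃ k ∈ K, k * a * k⁻¹ = b) :
    (Nat.card (S : Subgroup G) - 1) *
      Nat.card (K ⊓ Subgroup.centralizer ({a} : Set G) : Subgroup G) = Nat.card K := by
  rw [← card_orbit_mul K a, ← c.card_invol]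
  congr 1
  refine Nat.card_congr (Equiv.subtypeEquivRight fun b => ⟨fun hb => ?_, fun hb => ?_⟩)
  · exact htr b (c.inv_mem hb.2 hb.1) (Invol.ne_one_of_orderOf_two hb.1)
  · obtain ⟨k, hk, rfl⟩ := hb
    exact ⟨by rw [Invol.orderOf_conj_eq, c.orderOf_two ha ha1],
      c.sylow_le (mem_conj_normalizer (hK hk) ha)⟩

theorem trans_nS [IsSimpleGroup G] {a b : G} (ha : a ∈ (S : Subgroup G)) (ha1 : a ≠ 1)
    (hb : b ∈ (S : Subgroup G)) (hb1 : b ≠ 1) : ∃ n ∈ nS S, n * a * n⁻¹ = b := by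
  obtain ⟨v, hv, hvN⟩ := c.exists_outside
  obtain ⟨d, hd, he⟩ := c.trans hv hvN ha ha1 hb hb1
  exact ⟨d, hd.1, he⟩

theorem pow_r {t x : G} (ht : orderOf t = 2) (hx : Commute x t) (ho : ¬ 2 ∣ orderOf x) :
    x ^ r = 1 := by
  have hcop : (orderOf x).Coprime (orderOf t) := by
    rw [ht]; exact (Nat.prime_two.coprime_iff_not_dvd.2 ho).symm
  have hd : orderOf (x * t) = orderOf x * orderOf t := hx.orderOf_mul_eq_mul_orderOf_of_coprime hcop
  have h1 := c.twoR.dvd (g := x * t) (Or.inl (by rw [hd, ht]; exact dvd_mul_left 2 _))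
  rw [hd, ht, mul_comm 2 r] at h1
  exact orderOf_dvd_iff_pow_eq_one.1 (Nat.dvd_of_mul_dvd_mul_right Nat.two_pos h1)

/-- An element centralised by `S` has its centraliser in `N(S)`. -/
theorem cent_le {x : G} (hx : orderOf x = 2 ∨ orderOf x = r)
    (hS : (S : Subgroup G) ≤ Subgroup.centralizer ({x} : Set G)) :
    Subgroup.centralizer ({x} : Set G) ≤ nS S := by
  haveI := Fact.mk Nat.prime_two
  haveI := c.twoR.two_group_comm S.isPGroup'
  set T := coreAt x with hT
  have hST : (S : Subgroup G) ≤ Subgroup.normalizer (T : Set G) := hS.trans (coreAt_normalized x)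
  have hcop : (Nat.card (S : Subgroup G)).Coprime (Nat.card T) := by
    obtain ⟨j, hj⟩ := S.isPGroup'.exists_card_eq
    rw [hj]; exact (Nat.prime_two.coprime_iff_not_dvd.2 (coreAt_odd x)).pow_left j
  have hTN : T ≤ nS S := by
    rw [← generated_by_centralizers (S : Subgroup G) T (c.twoR.not_cyclic c.nonsolvable S) hST hcop]
    exact iSup₂_le fun a ha => inf_le_right.trans (c.cent a ha.1 ha.2)
  refine c.twoR.centralizer_le_normalizer_of_core S (c.twoR.solvable_of_le_centralizer hx le_rfl) hS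
    fun s hs => ?_
  rw [Subgroup.mem_centralizer_iff]
  intro w hw
  refine commutatorElement_eq_one_iff_mul_comm.1 (Subgroup.mem_bot.1 ?_)
  rw [← inf_eq_bot_of_coprime hcop]
  refine ⟨?_, ?_⟩
  · rw [commutatorElement_def]
    exact Subgroup.mul_mem _ (mem_conj_normalizer (hTN hw) hs) (Subgroup.inv_mem _ hs)
  · rw [commutatorElement_def, mul_assoc, mul_assoc, ← mul_assoc s]
    exact T.mul_mem hw (mem_conj_normalizer (hST hs) (T.inv_mem hw))

/-- An element of order `r` centralised by `S` is inverted by no element outside `N(S)` of order two. -/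
theorem not_inverted {v e : G} (he : orderOf e = r)
    (hS : (S : Subgroup G) ≤ Subgroup.centralizer ({e} : Set G)) (hinv : v * e * v⁻¹ = e⁻¹) :
    v ∈ nS S := by
  have hC := c.cent_le (Or.inr he) hS
  refine mem_normalizer_fintype fun s hs => c.two_mem (hC ?_) ?_
  · have hse : s * e = e * s := Subgroup.mem_centralizer_singleton_iff.1 (hS hs)
    have hse' : s * e⁻¹ = e⁻¹ * s := (Commute.inv_right hse : Commute s e⁻¹)
    have he' : e = v * e⁻¹ * v⁻¹ := by
      calc e = (e⁻¹)⁻¹ := (inv_inv e).symm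
        _ = (v * e * v⁻¹)⁻¹ := by rw [hinv]
        _ = v * e⁻¹ * v⁻¹ := by group
    rw [Subgroup.mem_centralizer_singleton_iff]
    calc v * s * v⁻¹ * e = v * s * v⁻¹ * (v * e⁻¹ * v⁻¹) := by rw [← he']
      _ = v * (s * e⁻¹) * v⁻¹ := by group
      _ = v * (e⁻¹ * s) * v⁻¹ := by rw [hse']
      _ = (v * e⁻¹ * v⁻¹) * (v * s * v⁻¹) := by group
      _ = e * (v * s * v⁻¹) := by rw [← he']
  · calc v * s * v⁻¹ * (v * s * v⁻¹) = v * (s * s) * v⁻¹ := by group
      _ = 1 := by rw [c.mul_self hs]; group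

/-- The product of two involutions exchanging the same two points. -/
theorem swap_mem {v i : G} (hv : orderOf v = 2) (hi : orderOf i = 2)
    (he : (v : G)⁻¹ * i ∈ nS S) :
    v * i ∈ nS S ∧ v * (v * i) * v⁻¹ = (v * i)⁻¹ := by
  have hvi := Invol.inv_of_orderOf_two hv
  refine ⟨hvi ▸ he, ?_⟩
  rw [mul_inv_rev, Invol.inv_of_orderOf_two hi, ← mul_assoc v v, Invol.mul_self_of_orderOf_two hv,
    one_mul]

/-- For each involution outside `N(S)` there are as many inverted elements as involutions of `S`. -/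
theorem le_inverted [IsSimpleGroup G] {v : G} (hv : orderOf v = 2) (hvN : v ∉ nS S) :
    Nat.card (S : Subgroup G) - 1 ≤
      Nat.card {d : G // d ∈ nS S ∧ v * d * v⁻¹ = d⁻¹ ∧ ¬ 2 ∣ orderOf d} := by
  have hxy : (QuotientGroup.mk 1 : G ⧸ nS S) ≠ QuotientGroup.mk v := fun e => hvN (by
    simpa using QuotientGroup.eq.1 e)
  rw [← c.card_invol, ← Cfsg.Agent.S1224.result (nS S) c.se _ _ hxy]
  have hmem : ∀ i : G, i • (QuotientGroup.mk 1 : G ⧸ nS S) = QuotientGroup.mk v → i⁻¹ * v ∈ nS S := by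
    intro i hi
    rw [MulAction.Quotient.smul_mk, smul_eq_mul, mul_one] at hi
    exact QuotientGroup.eq.1 hi
  refine Nat.card_le_card_of_injective (fun i => ⟨v * i.1, ?_⟩) (fun i j e => Subtype.ext
    (mul_left_cancel (congrArg Subtype.val e)))
  have h1 := c.swap_mem hv i.2.1 (by simpa using (nS S).inv_mem (hmem i.1 i.2.2))
  refine ⟨h1.1, h1.2, fun hd => ?_⟩
  set w := (v * i.1) ^ (orderOf (v * i.1) / 2) with hw
  have hwo : orderOf w = 2 := orderOf_pow_orderOf_div (orderOf_pos _).ne' hd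
  have hwS := c.inv_mem ((nS S).pow_mem h1.1 _) hwo
  have hcomm : v * w * v⁻¹ = w := by
    have h2 : v * w * v⁻¹ = w⁻¹ := by
      rw [hw, ← MulAut.conj_apply, map_pow, MulAut.conj_apply, h1.2, inv_pow]
    rw [h2, c.inv_self hwS]
  exact hvN (c.cent w hwS (Invol.ne_one_of_orderOf_two hwo)
    (Subgroup.mem_centralizer_singleton_iff.2 (mul_inv_eq_iff_eq_mul.1 hcomm)))

theorem exists_inverted [IsSimpleGroup G] {v : G} (hv : orderOf v = 2) (hvN : v ∉ nS S) :
    ∃ d ∈ nS S, d ≠ 1 ∧ v * d * v⁻¹ = d⁻¹ ∧ ¬ 2 ∣ orderOf d := by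
  by_contra hcon
  push Not at hcon
  have h1 := c.le_inverted hv hvN
  have : Subsingleton {d : G // d ∈ nS S ∧ v * d * v⁻¹ = d⁻¹ ∧ ¬ 2 ∣ orderOf d} := by
    refine ⟨fun x y => Subtype.ext ?_⟩
    have key : ∀ z : {d : G // d ∈ nS S ∧ v * d * v⁻¹ = d⁻¹ ∧ ¬ 2 ∣ orderOf d}, z.1 = 1 :=
      fun z => by
        by_contra hz
        exact z.2.2.2 (hcon z.1 z.2.1 hz z.2.2.1)
    rw [key x, key y]
  have h2 := Finite.card_le_one_iff_subsingleton.2 this
  have := c.four_le
  omega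

end SEHyp

end Cfsg.Agent.Grp.ThreeOrders
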