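import Mathlib
import Cfsg.Prelude
import Cfsg.Agent.Lib.Grp.ThreeOrders.CitSmall
import Cfsg.Agent.Lib.Grp.ThreeOrders.SEBasic

/-!
No extension of the simple group of order 360 has all involution centralisers 2-groups and no element
of order eight.
-/

set_option autoImplicit false
set_option linter.style.haveILetI false
set_option linter.unusedSectionVars false

universe u

namespace Cfsg.Agent.Grp.ThreeOrders

open Subgroup Cfsg.Agent
open Cfsg.Agent.Transfer.CIT (IsCIT)

variable {X : Type u} [Group X] [Finite X] (M : Subgroup X) [M.Normal]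

/-- An involution of the normaliser makes the elements of a Sylow subgroup real. -/
theorem real_of_normalizer (h : IsCIT X) {ℓ : ℕ} [Fact ℓ.Prime] (hℓ : ℓ ≠ 2) (Q : Sylow ℓ M)
    (hN : 2 ∣ Nat.card (normalizer ((Q : Subgroup M) : Set M))) {y : X} (hy : y ∈ M)
    (hyo : orderOf y = ℓ) : ∃ g ∈ M, g * y * g⁻¹ = y⁻¹ := by
  haveI := Fact.mk Nat.prime_two
  obtain ⟨R, hR⟩ := (IsPGroup.of_card (p := ℓ) (n := 1) (G := zpowers (⟨y, hy⟩ : M))
    (by rw [Nat.card_zpowers, ← orderOf_coe, pow_one]; exact hyo)).exists_le_sylow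
  obtain ⟨d, hd⟩ := MulAction.exists_smul_eq M Q R
  have hyQ : d⁻¹ * ⟨y, hy⟩ * d ∈ (Q : Subgroup M) :=
    (mem_smul_sylow d Q).1 (hd ▸ hR (mem_zpowers _))
  obtain ⟨t, ht⟩ := exists_prime_orderOf_dvd_card' (G := normalizer ((Q : Subgroup M) : Set M)) 2 hN
  rw [← orderOf_coe] at ht
  have hQodd : ¬ 2 ∣ Nat.card (Q : Subgroup M) := by
    obtain ⟨k, hk⟩ := Q.isPGroup'.exists_card_eq
    exact fun h2 => hℓ ((Nat.prime_dvd_prime_iff_eq Nat.prime_two Fact.out).1
      (Nat.prime_two.dvd_of_dvd_pow (hk ▸ h2))).symm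
  have e := PGCIT.inverts_odd (h.of_injective M.subtype M.subtype_injective) ht (Q : Subgroup M)
    hQodd (fun n hn => mem_conj_normalizer t.2 hn) hyQ
  refine ⟨((d * t * d⁻¹ : M) : X), (d * t * d⁻¹ : M).2, ?_⟩
  have e2 : (d * t * d⁻¹) * (⟨y, hy⟩ : M) * (d * t * d⁻¹)⁻¹ = (⟨y, hy⟩ : M)⁻¹ := by
    calc (d * t * d⁻¹) * (⟨y, hy⟩ : M) * (d * t * d⁻¹)⁻¹
        = d * ((t : M) * (d⁻¹ * ⟨y, hy⟩ * d) * (t : M)⁻¹) * d⁻¹ := by group
      _ = d * (d⁻¹ * ⟨y, hy⟩ * d)⁻¹ * d⁻¹ := by rw [e]
      _ = _ := by group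
  exact congrArg Subtype.val e2

theorem top_360 [IsSimpleGroup M] (hns : ¬ Group.IsSolvable M) (h : IsCIT X) (h3 : NoThree X)
    (hO : Cfsg.pCore 2 X = ⊥) (hc : Nat.card M = 360) (h4 : ∃ c : M, orderOf c = 4)
    (h15 : ∀ g : M, orderOf g ≠ 15) : M = ⊤ := by
  classical
  haveI := Fact.mk Nat.prime_two
  haveI := Fact.mk Nat.prime_three
  have p5 : Nat.Prime 5 := by norm_num
  haveI := Fact.mk p5
  obtain ⟨c₀, hc₀⟩ := h4
  obtain ⟨S₀, hcS₀⟩ := exists_four_sylow M hc₀
  have c2 : ∀ S : Sylow 2 M, Nat.card S = 8 := fun S => by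
    rw [sylow_card_of (a := 3) (b := 45) (by rw [hc]; norm_num) (by norm_num) S]; norm_num
  have hidx : ∀ s : ℕ, s.Prime → s ∣ M.index → s = 2 := fun s hs hd => by
    by_contra hs2
    exact odd_index_absurd_eight M h h3 S₀ (c2 S₀) hcS₀ hc₀ hs hs2 hd
  refine top_of_index fun s hs hd => ?_
  obtain rfl := hidx s hs hd
  -- the index is two
  obtain ⟨e, K, r, he, hmod, heq, hr, hK, -⟩ := normalizer_data M (q := 5) (n := 72)
    (by rw [hc]) (by norm_num)
  have hKodd : ¬ 2 ∣ K := fun hd2 => by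
    obtain ⟨g, hg⟩ := hK 2 Nat.prime_two (by norm_num) hd2
    exact cit_no_double h p5 (by norm_num) (m := 2 * 5) (dvd_mul_right _ _)
      (dvd_mul_left _ _) g (hg ▸ dvd_rfl)
  have he2 : 2 ∣ e := by
    by_contra he2
    have he9 : e ∣ 9 := (((Nat.prime_two.coprime_iff_not_dvd.2 he2).symm).pow_right 3).dvd_of_dvd_mul_left
      (by norm_num; exact he)
    have := Nat.le_of_dvd (by norm_num) he9
    unfold Nat.ModEq at hmod
    interval_cases e <;> omega
  have hi2 : M.index = 2 := by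
    obtain ⟨e', rfl⟩ := he2
    obtain ⟨k, hk⟩ : ∃ k, M.index = 2 ^ k := ⟨_, Nat.eq_prime_pow_of_unique_prime_dvd
      index_ne_zero_of_finite fun {s} hs hd' => hidx s hs hd'⟩
    rcases k with _ | _ | k
    · rw [hk, pow_zero] at hd; norm_num at hd
    · rw [hk, zero_add, pow_one]
    · exfalso
      have := (two_part (j := 3) hKodd ⟨5 * e' * 2 ^ k, by rw [hk]; ring⟩ heq).trans hr
      norm_num at this
  -- the normaliser of a Sylow 3-subgroup
  obtain ⟨Q⟩ : Nonempty (Sylow 3 M) := inferInstance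
  have cQ : Nat.card Q = 9 := by
    rw [sylow_card_of (a := 2) (b := 40) (by rw [hc]; norm_num) (by norm_num) Q]; norm_num
  set NQ := normalizer ((Q : Subgroup M) : Set M) with hNQ
  have h9 : 9 ∣ Nat.card NQ := cQ ▸ card_dvd_of_le (le_normalizer (H := (Q : Subgroup M)))
  obtain ⟨e3, he3⟩ := h9
  have h40 : e3 ∣ 40 := Nat.dvd_of_mul_dvd_mul_left (by norm_num : 0 < 9)
    (by rw [← he3, show 9 * 40 = 360 by norm_num, ← hc]; exact card_subgroup_dvd_card NQ)
  have hn3 : NQ.index % 3 = 1 := by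
    have h1 : Nat.card (Sylow 3 M) ≡ 1 [MOD 3] := card_sylow_modEq_one 3 M
    rwa [Q.card_eq_index_normalizer] at h1
  have hmul : e3 * NQ.index = 40 := Nat.eq_of_mul_eq_mul_left (by norm_num : 0 < 9) (by
    rw [← mul_assoc, ← he3, NQ.card_mul_index, hc])
  have h5e : ¬ 5 ∣ e3 := by
    intro h5
    obtain ⟨x, hx⟩ := exists_prime_orderOf_dvd_card' (G := NQ) 5 (he3 ▸ h5.mul_left 9)
    rw [← orderOf_coe] at hx
    obtain ⟨t, ⟨htQ, ht1⟩, ht⟩ := InvTrans.exists_fixed (p := 5) (P := zpowers (x : M))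
      (IsPGroup.of_card (n := 1) (by rw [Nat.card_zpowers, hx, pow_one]))
      (((Q : Subgroup M) : Set M) \ {1})
      (fun g hg t ht => ⟨mem_conj_normalizer (zpowers_le.2 x.2 hg) ht.1,
        fun e => ht.2 (conj_eq_one_iff.1 e)⟩)
      (by rw [Nat.card_coe_set_eq, Set.ncard_sdiff_singleton_of_mem (one_mem _), ← Nat.card_coe_set_eq,
            SetLike.coe_sort_coe, cQ]; norm_num)
    obtain ⟨k, hk⟩ := IsPGroup.iff_orderOf.1 Q.isPGroup' ⟨t, htQ⟩
    rw [orderOf_mk] at hk
    rcases k with _ | k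
    · exact ht1 (orderOf_eq_one_iff.1 (by rw [hk, pow_zero]))
    have hu : orderOf (t ^ (orderOf t / 3)) = 3 :=
      orderOf_pow_orderOf_div (orderOf_pos t).ne' (hk ▸ dvd_pow_self 3 k.succ_ne_zero)
    refine h15 ((x : M) * t ^ (orderOf t / 3)) ?_
    rw [((ht x (mem_zpowers _)).pow_right _).orderOf_mul_eq_mul_orderOf_of_coprime
      (by rw [hx, hu]; norm_num), hx, hu]
  haveI : IsMulCommutative (Q : Subgroup M) :=
    IsPGroup.isMulCommutative_of_card_eq_prime_sq (p := 3) (by rw [cQ]; norm_num)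
  have he34 : e3 = 4 := by
    have h8 : e3 ∣ 8 := ((p5.coprime_iff_not_dvd.2 h5e).symm).dvd_of_dvd_mul_left
      (by norm_num; exact h40)
    have := Nat.le_of_dvd (by norm_num) h8
    interval_cases e3 <;> try omega
    · exfalso
      have hle : (Q : Subgroup M) = NQ := eq_of_le_of_card_ge le_normalizer (by
        rw [he3, mul_one]; exact le_of_eq cQ.symm)
      refine not_normalizer_le_centralizer hns (q := 3) (by rw [hc]; norm_num) Q ?_
      rw [← hNQ, ← hle]
      exact fun g hg => mem_centralizer_iff.2 fun t ht =>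
        congrArg Subtype.val (IsMulCommutative.is_comm.comm (⟨t, ht⟩ : (Q : Subgroup M)) ⟨g, hg⟩)
  subst he34
  -- the odd elements are real
  have hreal : ∀ y ∈ M, (orderOf y).Prime → orderOf y ≠ 2 → ∃ g ∈ M, g * y * g⁻¹ = y⁻¹ := by
    intro y hy hyp hy2
    have hd' : orderOf y ∣ 2 ^ 3 * (3 ^ 2 * 5) := by
      have h1 := _root_.orderOf_dvd_natCard (⟨y, hy⟩ : M)
      rw [orderOf_mk, hc] at h1
      norm_num
      exact h1
    rcases hyp.dvd_mul.1 hd' with e1 | e1
    · exact absurd ((Nat.prime_dvd_prime_iff_eq hyp Nat.prime_two).1 (hyp.dvd_of_dvd_pow e1)) hy2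
    rcases hyp.dvd_mul.1 e1 with e2 | e2
    · exact real_of_normalizer M h (ℓ := 3) (by norm_num) Q (he3 ▸ ⟨18, by norm_num⟩) hy
        ((Nat.prime_dvd_prime_iff_eq hyp Nat.prime_three).1 (hyp.dvd_of_dvd_pow e2))
    · obtain ⟨P5⟩ : Nonempty (Sylow 5 M) := inferInstance
      refine real_of_normalizer M h (ℓ := 5) (by norm_num) P5 ?_ hy
        ((Nat.prime_dvd_prime_iff_eq hyp p5).1 e2)
      by_contra hodd
      have h1 : Nat.card (Sylow 5 M) ≡ 1 [MOD 5] := card_sylow_modEq_one 5 M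
      rw [P5.card_eq_index_normalizer] at h1
      set N5 := normalizer ((P5 : Subgroup M) : Set M)
      have h2 := N5.card_mul_index
      rw [hc] at h2
      have h8 : 8 ∣ N5.index :=
        ((Nat.prime_two.coprime_iff_not_dvd.2 hodd).pow_left 3).dvd_of_dvd_mul_left
          (h2 ▸ by norm_num)
      obtain ⟨w, hw⟩ := h8
      have hw45 : w ∣ 45 := Nat.dvd_of_mul_dvd_mul_left (by norm_num : 0 < 8)
        (by rw [← hw, show 8 * 45 = 360 by norm_num, ← h2]; exact dvd_mul_left _ _)
      have hP5 : 5 ∣ Nat.card N5 := by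
        refine dvd_trans ?_ (card_dvd_of_le (le_normalizer (H := (P5 : Subgroup M))))
        rw [sylow_card_of (a := 1) (b := 72) (by rw [hc]; norm_num) (by norm_num) P5]
        norm_num
      have hw9 : w ∣ 9 := by
        obtain ⟨n5, hn5⟩ := hP5
        refine ((p5.coprime_iff_not_dvd.2 fun h5w => ?_).symm).dvd_of_dvd_mul_left (by norm_num; exact hw45)
        obtain ⟨w', rfl⟩ := h5w
        rw [hn5, hw] at h2
        have h25 : 25 ∣ 360 := ⟨n5 * 8 * w', by rw [← h2]; ring⟩
        norm_num at h25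
      have := Nat.le_of_dvd (by norm_num) hw9
      unfold Nat.ModEq at h1
      have h1' : (8 * w) % 5 = 1 % 5 := by rw [← hw]; exact h1
      interval_cases w <;> omega
  have hnoinv := fun {v : X} => no_outer_involution_of_real M h hi2 hO hreal (v := v)
  -- a Sylow 2-subgroup of the normaliser of `Q`
  set Q' := (Q : Subgroup M).map M.subtype with hQ'
  set NX := normalizer (Q' : Set X) with hNX
  have cNX : Nat.card NX = 2 ^ 3 * 9 := by
    rw [hNX, hQ', card_inner_normalizer M Q, ← hNQ, he3, hi2]; norm_num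
  obtain ⟨T⟩ : Nonempty (Sylow 2 NX) := inferInstance
  have cT : Nat.card T = 8 := by rw [sylow_card_of cNX (by norm_num) T]; norm_num
  set T' := (T : Subgroup NX).map NX.subtype with hT'
  have cT' : Nat.card T' = 8 := by rw [hT', card_map_of_injective NX.subtype_injective]; exact cT
  have hTp : IsPGroup 2 T' := T.isPGroup'.map _
  have hTN : T' ≤ NX := map_subtype_le _
  have hQodd : ¬ 2 ∣ Nat.card Q' := by
    rw [hQ', card_map_of_injective M.subtype_injective, cQ]; norm_num
  obtain ⟨q, hq, hq1⟩ := (bot_or_exists_ne_one Q').resolve_left fun e => by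
    have h1 : Nat.card Q' = 1 := by rw [e, card_bot]
    rw [hQ', card_map_of_injective M.subtype_injective, cQ] at h1
    norm_num at h1
  have huniq : ∀ s ∈ T', ∀ t ∈ T', orderOf s = 2 → orderOf t = 2 → s = t := by
    intro s hs t ht hs2 ht2
    by_contra hne
    have e1 := PGCIT.inverts_odd h hs2 Q' hQodd (fun n hn => mem_conj_normalizer (hTN hs) hn) hq
    have e2 := PGCIT.inverts_odd h ht2 Q' hQodd (fun n hn => mem_conj_normalizer (hTN ht) hn) hq
    have hst1 : s * t ≠ 1 := fun e =>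
      hne (mul_eq_one_iff_eq_inv.1 e |>.trans (inv_eq_of_mul_eq_one_right (Invol.mul_self_of_orderOf_two ht2)))
    have hcm : Commute q (s * t) := by
      symm
      rw [Commute, SemiconjBy, ← mul_inv_eq_iff_eq_mul]
      calc s * t * q * (s * t)⁻¹ = s * (t * q * t⁻¹) * s⁻¹ := by group
        _ = (s * q * s⁻¹)⁻¹ := by rw [e2]; group
        _ = q := by rw [e1, inv_inv]
    refine hq1 (PGCIT.eq_one_of_commute_two h hTp (mul_mem hs ht) hst1 hcm fun h2 => hQodd ?_)
    exact h2.trans (orderOf_dvd_natCard Q' hq)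
  have hord : ∀ s ∈ T', s ≠ 1 → orderOf s = 2 ∨ orderOf s = 4 := by
    intro s hs hs1
    obtain ⟨k, hk⟩ := IsPGroup.iff_orderOf.1 hTp ⟨s, hs⟩
    rw [orderOf_mk] at hk
    rcases k with _ | _ | _ | k
    · exact absurd (orderOf_eq_one_iff.1 (by rw [hk, pow_zero])) hs1
    · exact Or.inl (by rw [hk]; norm_num)
    · exact Or.inr (by rw [hk]; norm_num)
    · exact absurd (hk ▸ ⟨2 ^ k, by ring⟩ : 8 ∣ orderOf s) (h3.no_eight s)
  -- elements of `T'` inside and outside `M`
  have hTMle : ¬ T' ≤ M := by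
    intro hle
    have h1 : T'.subgroupOf M ≤ NQ := fun x hx => by
      refine mem_normalizer_fintype fun y hy => ?_
      exact (mem_map_iff_mem M.subtype_injective).1 (mem_conj_normalizer (hTN hx) ⟨y, hy, rfl⟩)
    have h2 := card_dvd_of_le h1
    rw [Nat.card_congr (subgroupOfEquivOfLe hle).toEquiv, cT', he3] at h2
    norm_num at h2
  obtain ⟨u, huT, huM⟩ := Set.not_subset.1 hTMle
  set S1 := M.subgroupOf T' with hS1
  have hS1i : S1.index = 2 := by
    refine index_eq_two_iff.2 ⟨⟨u, huT⟩, fun b => ?_⟩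
    by_cases hb : (b : X) ∈ M
    · refine Or.inr ⟨hb, fun e => huM ?_⟩
      have : (b : X) * u ∈ M := e
      exact (mul_mem_cancel_left hb).1 this
    · refine Or.inl ⟨?_, hb⟩
      show (b : X) * u ∈ M
      exact (mul_mem_iff_of_index_two hi2).2 (iff_of_false hb huM)
  have cS1 : Nat.card S1 = 4 := by
    have := S1.card_mul_index
    rw [hS1i, cT'] at this
    omega
  obtain ⟨c, hcT, hcM, hc4⟩ : ∃ c, c ∈ T' ∧ c ∈ M ∧ orderOf c = 4 := by
    by_contra hcon
    push Not at hcon
    have hsub : ∀ a b : S1, a ≠ 1 → b ≠ 1 → a = b := by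
      intro a b ha hb
      have ha' : ((a : T') : X) ≠ 1 := fun e => ha (Subtype.ext (Subtype.ext e))
      have hb' : ((b : T') : X) ≠ 1 := fun e => hb (Subtype.ext (Subtype.ext e))
      refine Subtype.ext (Subtype.ext (huniq _ (a : T').2 _ (b : T').2
        ((hord _ (a : T').2 ha').resolve_right (hcon _ (a : T').2 a.2))
        ((hord _ (b : T').2 hb').resolve_right (hcon _ (b : T').2 b.2))))
    have h1 := Nat.card_congr (Equiv.optionSubtypeNe (1 : S1))
    rw [Finite.card_option, cS1] at h1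
    haveI : Subsingleton {x : S1 // x ≠ 1} := ⟨fun a b => Subtype.ext (hsub a b a.2 b.2)⟩
    have := Finite.card_le_one_iff_subsingleton.2 (inferInstance : Subsingleton {x : S1 // x ≠ 1})
    omega
  set i := c ^ 2 with hi
  have hio : orderOf i = 2 := by rw [hi, orderOf_pow, hc4]; rfl
  have houter : ∀ w ∈ T', w ∉ M → w * w = i := by
    intro w hw hwM
    rcases hord w hw (fun e => hwM (e ▸ M.one_mem)) with e | e
    · exact absurd (hnoinv e) hwM
    · rw [← sq]
      exact huniq _ (T'.pow_mem hw 2) i (T'.pow_mem hcT 2) (by rw [orderOf_pow, e]; rfl) hio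
  have hu2 := houter u huT huM
  have hcu := houter (c * u) (mul_mem hcT huT) fun e => huM ((mul_mem_cancel_left hcM).1 e)
  have hii : i * i = 1 := Invol.mul_self_of_orderOf_two hio
  have hucu : u * c * u⁻¹ = c⁻¹ := by
    have hui : u⁻¹ * i = u := by rw [← hu2, inv_mul_cancel_left]
    have e1 : c * (u * c * u⁻¹) * i = i := by
      calc c * (u * c * u⁻¹) * i = c * (u * c) * (u⁻¹ * i) := by group
        _ = c * u * (c * u) := by rw [hui]; group
        _ = i := hcu
    exact eq_inv_of_mul_eq_one_right (mul_eq_right.1 e1)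
  -- a Sylow subgroup of `M` containing `c`
  have hc4' : orderOf (⟨c, hcM⟩ : M) = 4 := by rw [← orderOf_coe]; exact hc4
  obtain ⟨S, hcS⟩ := exists_four_sylow M hc4'
  set cm : M := ⟨c, hcM⟩
  set C := (zpowers cm).subgroupOf (S : Subgroup M) with hC
  have hCi : C.index = 2 := by
    have h1 := C.card_mul_index
    rw [hC, Nat.card_congr (subgroupOfEquivOfLe (zpowers_le.2 hcS)).toEquiv, Nat.card_zpowers, hc4',
      show Nat.card (S : Subgroup M) = 8 from c2 S] at h1
    rw [hC]
    omega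
  obtain ⟨b, hbS, hbc⟩ : ∃ b ∈ (S : Subgroup M), ¬ Commute b cm := by
    by_contra hcon
    push Not at hcon
    have hab : ∀ x ∈ (S : Subgroup M), ∀ y ∈ (S : Subgroup M), Commute x y := by
      intro x hx y hy
      by_cases hxC : x ∈ zpowers cm
      · obtain ⟨k, rfl⟩ := mem_zpowers_iff.1 hxC
        exact ((hcon y hy).zpow_right k).symm
      by_cases hyC : y ∈ zpowers cm
      · obtain ⟨k, rfl⟩ := mem_zpowers_iff.1 hyC
        exact (hcon x hx).zpow_right k
      have hm : x⁻¹ * y ∈ zpowers cm := by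
        have := (mul_mem_iff_of_index_two hCi (a := (⟨x, hx⟩ : (S : Subgroup M))⁻¹) (b := ⟨y, hy⟩)).2
          (iff_of_false (fun e => hxC (inv_mem_iff.1 e)) hyC)
        exact this
      obtain ⟨k, hk⟩ := mem_zpowers_iff.1 hm
      rw [show y = x * cm ^ k by rw [hk, mul_inv_cancel_left]]
      exact (Commute.refl x).mul_right ((hcon x hx).zpow_right k)
    refine not_normalizer_le_centralizer hns (q := 2) (by rw [hc]; norm_num) S ?_
    have hNS : normalizer ((S : Subgroup M) : Set M) = (S : Subgroup M) := by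
      refine le_antisymm (fun g hg => ?_) le_normalizer
      set NS := normalizer ((S : Subgroup M) : Set M) with hNSdef
      have hp : IsPGroup 2 NS := IsPGroup.of_card (n := (Nat.card NS).primeFactorsList.length)
        (Nat.eq_prime_pow_of_unique_prime_dvd Nat.card_pos.ne' fun {ℓ} hℓ hdl => by
          haveI := Fact.mk hℓ
          obtain ⟨x, hx⟩ := exists_prime_orderOf_dvd_card' ℓ hdl
          rw [← hx]
          rw [← orderOf_coe, ← orderOf_coe] at hx ⊢
          refine eight_normalizer h h3 (S := (S : Subgroup M).map M.subtype)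
            (by rw [card_map_of_injective M.subtype_injective]; exact c2 S) ⟨cm, hcS, rfl⟩ hc4
            (mem_normalizer_fintype ?_) (hx.symm ▸ hℓ)
          rintro _ ⟨z, hz, rfl⟩
          exact ⟨_, mem_conj_normalizer x.2 hz, by simp⟩)
      exact (S.3 hp le_normalizer).le hg
    rw [hNS]
    exact fun x hx => mem_centralizer_iff.2 fun y hy => (hab y hy x hx).eq
  have hbcb : b * cm * b⁻¹ = cm⁻¹ := by
    haveI : C.Normal := normal_of_index_eq_two hCi
    have hm := (inferInstance : C.Normal).conj_mem ⟨cm, hcS⟩ (mem_zpowers cm) ⟨b, hbS⟩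
    rw [hC, mem_subgroupOf] at hm
    change b * cm * b⁻¹ ∈ zpowers cm at hm
    obtain ⟨k, hk⟩ := (isOfFinOrder_of_finite cm).mem_zpowers_iff_mem_range_orderOf.1 hm |>
      Finset.mem_image.1
    rw [hc4', Finset.mem_range] at hk
    have ho : orderOf (b * cm * b⁻¹) = 4 := by
      rw [← SemiconjBy.orderOf_eq (x := cm) (y := b * cm * b⁻¹) b (by simp [SemiconjBy]), hc4']
    rw [← hk.2, orderOf_pow, hc4'] at ho
    rcases (by omega : k = 0 ∨ k = 1 ∨ k = 2 ∨ k = 3) with rfl | rfl | rfl | rfl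
    · norm_num at ho
    · exact absurd (mul_inv_eq_iff_eq_mul.1 (hk.2.symm.trans (pow_one cm))) hbc
    · norm_num at ho
    · rw [← hk.2]
      exact eq_inv_of_mul_eq_one_left (by rw [← pow_succ, show 3 + 1 = orderOf cm from hc4'.symm, pow_orderOf_eq_one])
  set v := (b : X) * u with hv
  have hvM : v ∉ M := fun e => huM ((mul_mem_cancel_left b.2).1 e)
  have hvc : Commute v c := by
    rw [Commute, SemiconjBy, ← mul_inv_eq_iff_eq_mul]
    have e := congrArg Subtype.val hbcb
    simp only [coe_mul, InvMemClass.coe_inv] at e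
    calc v * c * v⁻¹ = (b : X) * (u * c * u⁻¹) * (b : X)⁻¹ := by rw [hv]; group
      _ = ((b : X) * c * (b : X)⁻¹)⁻¹ := by rw [hucu]; group
      _ = c := by
        rw [show (b : X) * c * (b : X)⁻¹ = c⁻¹ from e, inv_inv]
  have hvi : Commute v i := hvc.pow_right 2
  have hveven : 2 ∣ orderOf v := by
    by_contra ho
    exact hvM (mem_of_odd M hidx ho)
  obtain ⟨k, hk⟩ := PGCIT.even_order h hveven
  have hv4 : orderOf v = 2 ∨ orderOf v = 4 := by
    rcases k with _ | _ | _ | k
    · rw [hk, pow_zero] at hveven; norm_num at hveven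
    · exact Or.inl (by rw [hk]; norm_num)
    · exact Or.inr (by rw [hk]; norm_num)
    · exact absurd (hk ▸ ⟨2 ^ k, by ring⟩ : 8 ∣ orderOf v) (h3.no_eight v)
  rcases hv4 with hv2 | hv4
  · exact hvM (hnoinv hv2)
  set w : M := ⟨v * v, mul_self_mem_of_index_two hi2 v⟩ with hw
  have hwo : orderOf w = 2 := by
    rw [← orderOf_coe]
    show orderOf (v * v) = 2
    rw [← sq, orderOf_pow, hv4]; rfl
  have hwc : Commute w cm := Subtype.ext ((hvc.mul_left hvc).eq)
  have him : orderOf (cm ^ 2) = 2 := by rw [orderOf_pow, hc4']; rfl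
  have hcen : IsPGroup 2 (centralizer ({cm ^ 2} : Set M)) :=
    (h.of_injective M.subtype M.subtype_injective) _ him
  have hSle : (S : Subgroup M) ≤ centralizer ({cm ^ 2} : Set M) := by
    intro x hx
    rw [mem_centralizer_singleton_iff]
    by_cases hxC : x ∈ zpowers cm
    · obtain ⟨k, rfl⟩ := mem_zpowers_iff.1 hxC
      exact (((Commute.refl cm).pow_right 2).zpow_left k).eq
    have hm : b⁻¹ * x ∈ zpowers cm := by
      have hbC : b ∉ zpowers cm := fun e => hbc (by
        obtain ⟨k, rfl⟩ := mem_zpowers_iff.1 e; exact (Commute.refl cm).zpow_left k)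
      have := (mul_mem_iff_of_index_two hCi (a := (⟨b, hbS⟩ : (S : Subgroup M))⁻¹) (b := ⟨x, hx⟩)).2
        (iff_of_false (fun e => hbC (inv_mem_iff.1 e)) hxC)
      exact this
    obtain ⟨k, hk⟩ := mem_zpowers_iff.1 hm
    rw [show x = b * cm ^ k by rw [hk, mul_inv_cancel_left]]
    have hb2 : Commute b (cm ^ 2) := by
      rw [Commute, SemiconjBy, ← mul_inv_eq_iff_eq_mul]
      calc b * cm ^ 2 * b⁻¹ = (b * cm * b⁻¹) * (b * cm * b⁻¹) := by rw [sq]; group
        _ = cm⁻¹ * cm⁻¹ := by rw [hbcb]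
        _ = cm ^ 2 := by
          rw [sq, ← mul_inv_rev]
          refine inv_eq_of_mul_eq_one_right ?_
          have := pow_orderOf_eq_one cm
          rw [hc4', show (4 : ℕ) = 2 + 2 by norm_num, pow_add, sq] at this
          exact this
    exact (hb2.mul_left (((Commute.refl cm).pow_right 2).zpow_left k)).eq
  have hwS : w ∈ (S : Subgroup M) := by
    rw [← S.3 hcen hSle, mem_centralizer_singleton_iff]
    exact (hwc.pow_right 2).eq
  have hwC : w ∈ zpowers cm := by
    by_contra hwC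
    apply hbc
    have hbC : b ∉ zpowers cm := fun e => hbc (by
      obtain ⟨k, rfl⟩ := mem_zpowers_iff.1 e; exact (Commute.refl cm).zpow_left k)
    have hm : w⁻¹ * b ∈ zpowers cm := by
      have := (mul_mem_iff_of_index_two hCi (a := (⟨w, hwS⟩ : (S : Subgroup M))⁻¹) (b := ⟨b, hbS⟩)).2
        (iff_of_false (fun e => hwC (inv_mem_iff.1 e)) hbC)
      exact this
    obtain ⟨k, hk⟩ := mem_zpowers_iff.1 hm
    rw [show b = w * cm ^ k by rw [hk, mul_inv_cancel_left]]
    exact hwc.mul_left ((Commute.refl cm).zpow_left k)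
  obtain ⟨k, hk⟩ := (isOfFinOrder_of_finite cm).mem_zpowers_iff_mem_range_orderOf.1 hwC |>
    Finset.mem_image.1
  rw [hc4', Finset.mem_range] at hk
  have hvv : v * v = i := by
    have ho := hwo
    rw [← hk.2, orderOf_pow, hc4'] at ho
    rcases (by omega : k = 0 ∨ k = 1 ∨ k = 2 ∨ k = 3) with rfl | rfl | rfl | rfl
    · norm_num at ho
    · norm_num at ho
    · have := congrArg Subtype.val hk.2
      exact this.symm
    · norm_num at ho
  have hvcM : v * c ∉ M := fun e => hvM ((mul_mem_cancel_right hcM).1 e)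
  refine hvcM (hnoinv (orderOf_eq_prime ?_ fun e => hvcM (e ▸ M.one_mem)))
  rw [sq, hvc.symm.mul_mul_mul_comm, hvv, hi, ← sq, ← sq, ← pow_mul, show 2 * 2 = orderOf c from hc4.symm, pow_orderOf_eq_one]

end Cfsg.Agent.Grp.ThreeOrders
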