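import Mathlib
import Cfsg.Prelude
import Cfsg.Agent.Lib.Grp.ThreeOrders.Lift
import Cfsg.Agent.Lib.Grp.ThreeOrders.CitTools
import Cfsg.Agent.Lib.Grp.CoprimeAbelian
import Cfsg.Agent.Lib.Grp.ThreeOrders.SEBasic

/-!
The normal 2-subgroup is trivial above the small quotients.
-/

set_option autoImplicit false
set_option linter.style.haveILetI false
set_option linter.unusedSectionVars false

universe u

namespace Cfsg.Agent.Grp.ThreeOrders

open Subgroup Cfsg.Agent
open Cfsg.Agent.Transfer.CIT (IsCIT)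

variable {G : Type u} [Group G] [Finite G]

theorem bot_of_commute (h : IsCIT G) {R : Subgroup G} (hR : IsPGroup 2 R) {x : G} (hx1 : x ≠ 1)
    (hx : ¬ 2 ∣ orderOf x) (hc : ∀ v ∈ R, Commute x v) : R = ⊥ :=
  eq_bot_iff.2 fun v hv => mem_bot.2 (by
    by_contra hv1
    exact hx1 (PGCIT.eq_one_of_commute_two h hR hv hv1 (hc v hv) hx))

theorem bot_of_rank_two (h : IsCIT G) (R : Subgroup G) [R.Normal] (hR : IsPGroup 2 R) {w z : G ⧸ R}
    (hw : orderOf w = 3) (hz : orderOf z = 3) (hwz : Commute z w) (hne : w ∉ zpowers z) : R = ⊥ := by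
  classical
  haveI := Fact.mk Nat.prime_two
  haveI := Fact.mk Nat.prime_three
  set q := QuotientGroup.mk' R with hq
  set E := closure ({z, w} : Set (G ⧸ R)) with hE
  have hzE : z ∈ E := subset_closure (Or.inl rfl)
  have hwE : w ∈ E := subset_closure (Or.inr rfl)
  have hEc : ∀ a ∈ E, ∀ b ∈ E, a * b = b * a := by
    haveI := Subgroup.isMulCommutative_closure (k := ({z, w} : Set (G ⧸ R))) (fun a ha b hb => by
      rcases ha with rfl | rfl <;> rcases hb with rfl | rfl
      exacts [rfl, hwz.eq, hwz.eq.symm, rfl])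
    intro a ha b hb
    exact congrArg Subtype.val (IsMulCommutative.is_comm.comm (⟨a, ha⟩ : E) ⟨b, hb⟩)
  have hE3 : ∀ a ∈ E, a ^ 3 = 1 := by
    intro a ha
    induction ha using closure_induction with
    | mem a ha =>
      rcases ha with rfl | rfl
      · rw [← hz, pow_orderOf_eq_one]
      · rw [← hw, pow_orderOf_eq_one]
    | one => exact one_pow 3
    | mul a b ha hb ha' hb' => rw [(show Commute a b from hEc a ha b hb).mul_pow, ha', hb', one_mul]
    | inv a ha ha' => rw [inv_pow, ha', inv_one]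
  have hEp : IsPGroup 3 E := fun a => ⟨1, Subtype.ext (by simpa using hE3 a a.2)⟩
  set H := E.comap q with hH
  let f : H →* E := (q.comp H.subtype).codRestrict E fun x => x.2
  have hf : Function.Surjective f := by
    rintro ⟨a, ha⟩
    obtain ⟨g, rfl⟩ := QuotientGroup.mk'_surjective R a
    exact ⟨⟨g, ha⟩, rfl⟩
  obtain ⟨A0⟩ : Nonempty (Sylow 3 H) := inferInstance
  have htop : ((A0 : Subgroup H).map f) = ⊤ := by
    have h1 := (A0.mapSurjective hf).3 (hEp.of_injective (⊤ : Subgroup E).subtype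
      (subtype_injective _)) le_top
    exact h1.symm
  set A := (A0 : Subgroup H).map H.subtype with hA
  have hAp : IsPGroup 3 A := A0.isPGroup'.map _
  have hAR : A ⊓ R = ⊥ := inf_eq_bot_of_coprime (by
    obtain ⟨i, hi⟩ := hAp.exists_card_eq
    obtain ⟨j, hj⟩ := hR.exists_card_eq
    rw [hi, hj]
    exact ((Nat.coprime_primes Nat.prime_three Nat.prime_two).2 (by norm_num)).pow i j)
  have hinj : ∀ a ∈ A, q a = 1 → a = 1 := fun a ha e => by
    have : a ∈ A ⊓ R := ⟨ha, (QuotientGroup.eq_one_iff a).1 e⟩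
    rwa [hAR, mem_bot] at this
  have hAE : ∀ a ∈ A, q a ∈ E := by
    rintro _ ⟨x, hx, rfl⟩; exact x.2
  have hlift : ∀ e ∈ E, ∃ a ∈ A, q a = e := by
    intro e he
    obtain ⟨x, hx, hxe⟩ := (htop.symm.le (mem_top (⟨e, he⟩ : E)) : _)
    exact ⟨x, ⟨x, hx, rfl⟩, congrArg Subtype.val hxe⟩
  haveI : IsMulCommutative A := ⟨⟨fun a b => Subtype.ext (by
    have h1 := hEc _ (hAE a a.2) _ (hAE b b.2)
    rw [← map_mul, ← map_mul] at h1
    have h2 := hinj ((a : G) * b * ((b : G) * a)⁻¹)
      (A.mul_mem (A.mul_mem a.2 b.2) (A.inv_mem (A.mul_mem b.2 a.2)))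
      (by rw [map_mul, map_inv, h1, mul_inv_cancel])
    exact mul_inv_eq_one.1 h2)⟩⟩
  have hnc : ¬ IsCyclic A := by
    intro hcyc
    obtain ⟨g, hg⟩ := IsCyclic.exists_generator (α := A)
    have hgen : ∀ e ∈ E, e ∈ zpowers (q g) := by
      intro e he
      obtain ⟨a, ha, rfl⟩ := hlift e he
      obtain ⟨k, hk⟩ := mem_zpowers_iff.1 (hg ⟨a, ha⟩)
      exact mem_zpowers_iff.2 ⟨k, by rw [← map_zpow, ← coe_zpow, hk]⟩
    apply hne
    have hle : zpowers z ≤ zpowers (q (g : G)) := zpowers_le.2 (hgen z hzE)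
    have hcard : Nat.card (zpowers (q (g : G))) ≤ Nat.card (zpowers z) := by
      rw [Nat.card_zpowers, Nat.card_zpowers, hz]
      exact Nat.le_of_dvd (by norm_num) (orderOf_dvd_of_pow_eq_one (hE3 _ (hAE _ g.2)))
    rw [eq_of_le_of_card_ge hle hcard]
    exact hgen w hwE
  have hcop : (Nat.card A).Coprime (Nat.card R) := by
    obtain ⟨i, hi⟩ := hAp.exists_card_eq
    obtain ⟨j, hj⟩ := hR.exists_card_eq
    rw [hi, hj]
    exact ((Nat.coprime_primes Nat.prime_three Nat.prime_two).2 (by norm_num)).pow i j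
  have hAR' : A ≤ normalizer (R : Set G) := fun x _ =>
    mem_normalizer_fintype fun y hy => (inferInstance : R.Normal).conj_mem y hy x
  rw [eq_bot_iff, ← generated_by_centralizers A R hnc hAR' hcop]
  refine iSup₂_le fun a ha v hv => ?_
  obtain ⟨ha, ha1⟩ := ha
  rw [mem_bot]
  by_contra hv1
  refine ha1 (PGCIT.eq_one_of_commute_two h hR hv.1 hv1 (mem_centralizer_singleton_iff.1 hv.2).symm
    fun hd => ?_)
  obtain ⟨i, hi⟩ := hAp.exists_card_eq
  have h2 := Nat.prime_two.dvd_of_dvd_pow (hi ▸ hd.trans (orderOf_dvd_natCard A ha))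
  norm_num at h2

/-- A Frobenius group of order 21 above a normal 2-subgroup. -/
theorem bot_of_seven (h : IsCIT G) (R : Subgroup G) [R.Normal] (hR : IsPGroup 2 R) {a : ℕ}
    (hcard : Nat.card G = 7 * (3 * 2 ^ a)) (h21 : ∀ g : G, orderOf g ≠ 21) : R = ⊥ := by
  classical
  haveI := Fact.mk Nat.prime_two
  have p7 : Nat.Prime 7 := by norm_num
  haveI := Fact.mk p7
  haveI := Fact.mk Nat.prime_three
  obtain ⟨P⟩ : Nonempty (Sylow 7 G) := inferInstance
  have hn : ¬ 7 ∣ 3 * 2 ^ a := fun h7 => by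
    rcases p7.dvd_mul.1 h7 with e | e
    · norm_num at e
    · have := p7.dvd_of_dvd_pow e; norm_num at this
  have cP : Nat.card (P : Subgroup G) = 7 := by
    rw [sylow_card_of (a := 1) (by rw [hcard, pow_one]) hn P, pow_one]
  set N := normalizer ((P : Subgroup G) : Set G) with hN
  have h3N : 3 ∣ Nat.card N := by
    by_contra h3
    have h1 : Nat.card (Sylow 7 G) ≡ 1 [MOD 7] := card_sylow_modEq_one 7 G
    rw [P.card_eq_index_normalizer] at h1
    have h2 := N.card_mul_index
    rw [hcard] at h2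
    obtain ⟨j, hj⟩ : 3 ∣ N.index := (Nat.prime_three.dvd_mul.1
      (h2 ▸ (dvd_mul_right 3 (2 ^ a)).mul_left 7 : 3 ∣ Nat.card N * N.index)).resolve_left h3
    obtain ⟨k, hk⟩ := (show 7 ∣ Nat.card N from cP ▸ card_dvd_of_le le_normalizer)
    have hj2 : j ∣ 2 ^ a := ⟨k, Nat.eq_of_mul_eq_mul_left (by norm_num : 0 < 21) (by
      rw [← mul_assoc] at h2 ⊢
      rw [show (21 : ℕ) * 2 ^ a = 7 * 3 * 2 ^ a by norm_num, ← h2, hj, hk]; ring)⟩
    obtain ⟨b, -, rfl⟩ := (Nat.dvd_prime_pow Nat.prime_two).1 hj2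
    have h3b : (3 * 2 ^ b) % 7 = 1 := by
      have : N.index % 7 = 1 % 7 := h1
      rw [hj] at this
      simpa using this
    have hb : 2 ^ b % 7 = 1 ∨ 2 ^ b % 7 = 2 ∨ 2 ^ b % 7 = 4 := by
      clear h3b hj hj2
      induction b with
      | zero => simp
      | succ b ih => rw [pow_succ]; omega
    omega
  obtain ⟨y, hy⟩ := exists_prime_orderOf_dvd_card' (G := N) 3 h3N
  rw [← orderOf_coe] at hy
  by_contra hR1
  have hPodd : ¬ 2 ∣ Nat.card (P : Subgroup G) := by rw [cP]; norm_num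
  haveI : IsMulCommutative (P : Subgroup G) := by
    haveI : IsCyclic (P : Subgroup G) := isCyclic_of_prime_card cP
    exact IsCyclic.commutative
  have heq : ⁅(P : Subgroup G), zpowers (y : G)⁆ = (P : Subgroup G) :=
    free_commutator_eq y.2 (by rw [cP, hy]; norm_num) fun x hx hc => by
      by_contra hx1
      have hxo : orderOf x = 7 := by
        rw [← orderOf_mk x hx]
        rcases p7.eq_one_or_self_of_dvd _ (cP ▸ _root_.orderOf_dvd_natCard (⟨x, hx⟩ : (P : Subgroup G)))
          with e | e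
        · exact absurd (congrArg Subtype.val (orderOf_eq_one_iff.1 e)) hx1
        · exact e
      refine h21 (x * y) ?_
      rw [hc.orderOf_mul_eq_mul_orderOf_of_coprime (by rw [hxo, hy]; norm_num), hxo, hy]
  obtain ⟨g, hg⟩ := prime_lift (p := 2) (P : Subgroup G) R hR
    (fun x _ => mem_normalizer_fintype fun v hv => (inferInstance : R.Normal).conj_mem v hv x)
    hPodd (y := (y : G)) (mem_normalizer_fintype fun v hv => (inferInstance : R.Normal).conj_mem v hv y)
    y.2 Nat.prime_three hy (by rw [cP]; norm_num) (by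
      rw [heq]
      intro hle
      haveI : Nontrivial (P : Subgroup G) := Finite.one_lt_card_iff_nontrivial.1 (by rw [cP]; norm_num)
      obtain ⟨x, hx⟩ := exists_ne (1 : (P : Subgroup G))
      exact hR1 (bot_of_commute h hR (x := (x : G)) (fun e => hx (Subtype.ext e))
        (fun hd => hPodd (hd.trans (orderOf_dvd_natCard _ x.2)))
        fun v hv => (mem_centralizer_iff.1 (hle x.2) v hv).symm))
  exact cit_no_double h Nat.prime_three (by norm_num) (dvd_mul_left 2 3) (dvd_mul_right 3 2) g hg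

/-- An element of order four normalising an odd subgroup above a normal 2-subgroup. -/
theorem bot_of_four (h : IsCIT G) (h8 : ∀ g : G, ¬ 8 ∣ orderOf g) (R : Subgroup G) [R.Normal]
    (hR : IsPGroup 2 R) {x y : G ⧸ R} (hxp : (orderOf x).Prime) (hx2 : orderOf x ≠ 2)
    (hy : orderOf y = 4) (hyx : y * x * y⁻¹ ∈ zpowers x) : R = ⊥ := by
  classical
  haveI := Fact.mk Nat.prime_two
  haveI := Fact.mk hxp
  set q := QuotientGroup.mk' R with hq
  set H := (zpowers x).comap q with hH
  have hyN : y ∈ normalizer (zpowers x : Set (G ⧸ R)) := by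
    refine mem_normalizer_fintype fun v hv => ?_
    obtain ⟨k, rfl⟩ := mem_zpowers_iff.1 hv
    rw [← conj_zpow]
    exact zpow_mem hyx k
  obtain ⟨y0, hy0⟩ := QuotientGroup.mk'_surjective R y
  set K := normalizer (H : Set G) with hK
  have hy0K : y0 ∈ K := mem_normalizer_fintype fun v hv => by
    show q (y0 * v * y0⁻¹) ∈ zpowers x
    rw [map_mul, map_mul, map_inv, hy0]
    exact mem_conj_normalizer hyN hv
  obtain ⟨P⟩ : Nonempty (Sylow (orderOf x) H) := inferInstance
  set P' := (P : Subgroup H).map H.subtype with hP'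
  have hodd : ¬ 2 ∣ Nat.card P' := by
    rw [hP', card_map_of_injective H.subtype_injective]
    obtain ⟨i, hi⟩ := P.isPGroup'.exists_card_eq
    intro hd
    exact hx2 ((Nat.prime_dvd_prime_iff_eq Nat.prime_two hxp).1
      (Nat.prime_two.dvd_of_dvd_pow (hi ▸ hd))).symm
  obtain ⟨h0, hh0, hfix⟩ : ∃ h0 ∈ H, h0 * y0 ∈ normalizer (P' : Set G) := by
    let c : H ≃* H :=
      { toFun := fun v => ⟨y0 * v * y0⁻¹, mem_conj_normalizer hy0K v.2⟩
        invFun := fun v => ⟨y0⁻¹ * v * y0, mem_conj_normalizer' hy0K v.2⟩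
        left_inv := fun v => Subtype.ext (by simp [mul_assoc])
        right_inv := fun v => Subtype.ext (by simp [mul_assoc])
        map_mul' := fun v w => Subtype.ext (by simp [mul_assoc]) }
    obtain ⟨d, hd⟩ := MulAction.exists_smul_eq H (P.mapSurjective (f := c.toMonoidHom) c.surjective) P
    refine ⟨d, d.2, mem_normalizer_fintype ?_⟩
    rintro _ ⟨v, hv, rfl⟩
    refine ⟨d * c v * d⁻¹, ?_, by simp [c, mul_assoc]⟩
    rw [SetLike.mem_coe, ← hd, mem_smul_sylow]
    exact ⟨v, hv, by simp [mul_assoc]⟩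
  set y1 := h0 * y0 with hy1
  have hqy1 : ∃ k : ℤ, q y1 = x ^ k * y := by
    obtain ⟨k, hk⟩ := mem_zpowers_iff.1 hh0
    exact ⟨k, by rw [hy1, map_mul, hy0, hk]⟩
  obtain ⟨k, hk⟩ := hqy1
  -- the order of the image is four
  have ho4 : 4 ∣ orderOf (q y1) := by
    have hy4 : ∀ n : ℕ, (q y1) ^ n = 1 → y ^ n ∈ zpowers x := by
      intro n hn
      have : ∀ n : ℕ, ∃ j : ℤ, (x ^ k * y) ^ n = x ^ j * y ^ n := by
        intro n
        induction n with
        | zero => exact ⟨0, by simp⟩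
        | succ n ih =>
          obtain ⟨j, hj⟩ := ih
          obtain ⟨i, hi⟩ := mem_zpowers_iff.1
            (mem_conj_normalizer (pow_mem hyN n) (zpow_mem (mem_zpowers x) k))
          refine ⟨j + i, ?_⟩
          rw [pow_succ, hj, zpow_add, hi, pow_succ]
          group
      obtain ⟨j, hj⟩ := this n
      rw [← hk, hn] at hj
      exact mem_zpowers_iff.2 ⟨-j, by rw [zpow_neg]; exact inv_eq_of_mul_eq_one_right hj.symm⟩
    have h1 := hy4 _ (pow_orderOf_eq_one (q y1))
    have h2 : orderOf (y ^ orderOf (q y1)) ∣ Nat.gcd 4 (orderOf x) :=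
      Nat.dvd_gcd (hy ▸ orderOf_pow_dvd _) (orderOf_dvd_of_mem_zpowers h1)
    have hco : Nat.gcd 4 (orderOf x) = 1 := by
      rw [show (4 : ℕ) = 2 ^ 2 by norm_num]
      exact ((Nat.coprime_primes Nat.prime_two hxp).2 (Ne.symm hx2)).pow_left 2
    rw [hco, Nat.dvd_one, orderOf_eq_one_iff] at h2
    exact hy ▸ orderOf_dvd_of_pow_eq_one h2
  have h4 : 4 ∣ orderOf y1 := ho4.trans (orderOf_map_dvd q y1)
  obtain ⟨i, hi⟩ := PGCIT.even_order h ((by norm_num : 2 ∣ 4).trans h4)
  have hi2 : orderOf y1 = 4 := by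
    rcases i with _ | _ | _ | i
    · rw [hi, pow_zero] at h4; norm_num at h4
    · rw [hi] at h4; norm_num at h4
    · rw [hi]; norm_num
    · exact absurd (hi ▸ ⟨2 ^ i, by ring⟩ : 8 ∣ orderOf y1) (h8 y1)
  have hqy : orderOf (q y1) = 4 := Nat.dvd_antisymm (hi2 ▸ orderOf_map_dvd q y1) ho4
  have hP1 : P' ≠ ⊥ := by
    intro e
    rw [hP', map_eq_bot_iff_of_injective _ H.subtype_injective] at e
    refine P.ne_bot_of_dvd_card ?_ e
    let f : H →* zpowers x := (q.comp H.subtype).codRestrict (zpowers x) fun v => v.2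
    have hf : Function.Surjective f := by
      rintro ⟨v, hv⟩
      obtain ⟨g, rfl⟩ := QuotientGroup.mk'_surjective R v
      exact ⟨⟨g, hv⟩, rfl⟩
    exact (Nat.card_zpowers x).symm.dvd.trans (card_dvd_of_surjective f hf)
  set A := (center P').map P'.subtype with hA
  have hA1 : A ≠ ⊥ := fun e => by
    haveI : Nontrivial P' := (nontrivial_iff_ne_bot P').2 hP1
    haveI := (P.isPGroup'.map H.subtype).center_nontrivial
    rw [hA, map_eq_bot_iff_of_injective _ P'.subtype_injective] at e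
    exact (nontrivial_iff_ne_bot _).1 inferInstance e
  haveI : IsMulCommutative A := ⟨⟨by
    rintro ⟨_, a, ha, rfl⟩ ⟨_, b, hb, rfl⟩
    exact Subtype.ext (congrArg P'.subtype (mem_center_iff.1 hb a))⟩⟩
  have hyA : y1 ∈ normalizer (A : Set G) := by
    refine mem_normalizer_fintype ?_
    rintro _ ⟨a, ha, rfl⟩
    refine ⟨⟨y1 * a * y1⁻¹, mem_conj_normalizer hfix a.2⟩, ?_, rfl⟩
    refine mem_center_iff.2 fun v => Subtype.ext ?_
    have := congrArg Subtype.val (mem_center_iff.1 ha ⟨y1⁻¹ * v * y1, mem_conj_normalizer' hfix v.2⟩)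
    simp only [Subgroup.coe_mul] at this ⊢
    calc (v : G) * (y1 * a * y1⁻¹) = y1 * ((y1⁻¹ * v * y1) * a) * y1⁻¹ := by group
      _ = y1 * (a * (y1⁻¹ * v * y1)) * y1⁻¹ := by rw [this]
      _ = _ := by group
  have hAP : A ≤ P' := map_subtype_le _
  by_contra hR1
  haveI := hR.isNilpotent
  obtain ⟨w, hw, hwy⟩ := solvable_lift A R inferInstance
    (fun v _ => mem_normalizer_fintype fun z hz => (inferInstance : R.Normal).conj_mem z hz v) (by
      obtain ⟨j, hj⟩ := hR.exists_card_eq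
      rw [hj]
      exact ((Nat.prime_two.coprime_iff_not_dvd.2
        fun hd => hodd (hd.trans (card_dvd_of_le hAP))).symm).pow_right j)
    (y := y1) (mem_normalizer_fintype fun z hz => (inferInstance : R.Normal).conj_mem z hz y1) hyA
    (n := 4) (by norm_num) (hi2 ▸ pow_orderOf_eq_one y1) (fun i hi0 hi4 a ha hc => by
      by_contra ha1
      refine ha1 (PGCIT.eq_one_of_commute_two h (S := zpowers y1)
        (IsPGroup.of_card (n := 2) (by rw [Nat.card_zpowers, hi2]; norm_num))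
        (pow_mem (mem_zpowers y1) i) ?_ hc fun hd => hodd ?_)
      · exact pow_ne_one_of_lt_orderOf hi0.ne' (by omega)
      · exact hd.trans (orderOf_dvd_natCard P' (hAP ha)))
    (fun hle => by
      obtain ⟨a, ha, ha1⟩ := (bot_or_exists_ne_one A).resolve_left hA1
      exact hR1 (bot_of_commute h hR ha1 (fun hd => hodd (hd.trans (orderOf_dvd_natCard P' (hAP ha))))
        fun v hv => (mem_centralizer_iff.1 (hle ha) v hv).symm))
  refine h8 (w * y1) ?_
  have hqw : q (w * y1) = q y1 := by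
    rw [map_mul, show q w = 1 from (QuotientGroup.eq_one_iff w).2 hw, one_mul]
  have h4' : 4 ∣ orderOf (w * y1) := by
    rw [← hqy, ← hqw]; exact orderOf_map_dvd q (w * y1)
  obtain ⟨j, hj⟩ := PGCIT.even_order h ((by norm_num : 2 ∣ 4).trans h4')
  rcases j with _ | _ | _ | j
  · rw [hj, pow_zero] at h4'; norm_num at h4'
  · rw [hj] at h4'; norm_num at h4'
  · exact absurd (by rw [show 4 = orderOf (w * y1) by rw [hj]; norm_num, pow_orderOf_eq_one]) hwy
  · exact hj ▸ ⟨2 ^ j, by ring⟩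

end Cfsg.Agent.Grp.ThreeOrders
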