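import Mathlib
import Cfsg.Agent.Lib.Spor.PSLThreeFour

/-!
The centraliser of an element of order three of `PSL(3, 4)` has exponent three.
-/

set_option autoImplicit false
set_option linter.style.haveILetI false

namespace Cfsg.Agent.Grp.ThreeOrders

open Matrix Cfsg.Agent.Spor.SU32 Cfsg.Agent.Spor.L34Elem

local notation "M3" => Matrix (Fin 3) (Fin 3) F4
local notation "S" => Matrix.SpecialLinearGroup (Fin 3) F4
local notation "PS" => Matrix.ProjectiveSpecialLinearGroup (Fin 3) F4

theorem l34_cent_three {x y : PS} (hx : orderOf x = 3) (hc' : Commute y x) : y ^ 3 = 1 := by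
  obtain ⟨A, hA⟩ := QuotientGroup.mk'_surjective _ x
  obtain ⟨B, hB⟩ := QuotientGroup.mk'_surjective _ y
  have hA3 : A ^ 3 = 1 := lift_three (by have := pow_orderOf_eq_one x; rwa [hx, ← hA] at this)
  obtain ⟨h, hh⟩ := isConj_iff.1 (conj_three hA3 (fun e => by rw [hA] at e; rw [e, orderOf_one] at hx; norm_num at hx))
  set C : S := h⁻¹ * B * h
  have hcomm : π C * π dS = π dS * π C := by
    have hAB : π A * π B = π B * π A := by rw [hA, hB]; exact hc'.eq.symm
    have hd : dS = h⁻¹ * A * h := by rw [← hh]; group
    rw [hd]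
    simp only [C, map_mul, map_inv]
    calc (π h)⁻¹ * π B * π h * ((π h)⁻¹ * π A * π h) = (π h)⁻¹ * (π B * π A) * π h := by group
      _ = (π h)⁻¹ * (π A * π B) * π h := by rw [hAB]
      _ = _ := by group
  rw [← map_mul, ← map_mul] at hcomm
  have hz : (C * dS)⁻¹ * (dS * C) ∈ Subgroup.center S := by
    rw [← π_eq_one, map_mul, map_inv, hcomm, inv_mul_cancel]
  obtain ⟨c, hc, hcs⟩ := center_scalar hz
  have hmat : (dS : M3) * (C : M3) = c • ((C : M3) * (dS : M3)) := by
    have e : dS * C = (C * dS) * ((C * dS)⁻¹ * (dS * C)) := (mul_inv_cancel_left _ _).symm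
    have e' := congrArg (fun x : S => (x : M3)) e
    simp only [Matrix.SpecialLinearGroup.coe_mul] at e' hcs
    rw [e', hcs, Matrix.mul_smul, mul_one]
  have hd : ∀ i : Fin 3, (dS : M3) i i = ![1, F4.w, F4.v] i := fun i => by fin_cases i <;> rfl
  have hdd : (dS : M3) = Matrix.diagonal ![1, F4.w, F4.v] := by decide +kernel
  have hent : ∀ i j, ![1, F4.w, F4.v] i * (C : M3) i j = c * ((C : M3) i j * ![1, F4.w, F4.v] j) := fun i j => by
    have := congrFun (congrFun hmat i) j
    rw [hdd, Matrix.diagonal_mul, Matrix.smul_apply, Matrix.mul_diagonal, smul_eq_mul] at this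
    exact this
  have hzero : ∀ i j, (C : M3) i j ≠ 0 → ![1, F4.w, F4.v] i = c * ![1, F4.w, F4.v] j := fun i j hne => by
    have := hent i j
    rw [mul_comm ((C : M3) i j), ← mul_assoc] at this
    exact mul_right_cancel₀ hne this
  have hsupp : ∀ i j, (C : M3) i j = 0 ∨ c = ![1, F4.v, F4.w] (j - i) := fun i j => by
    by_cases hne : (C : M3) i j = 0
    · exact Or.inl hne
    · exact Or.inr (supp_key i j c (hzero i j hne))
  have h1 : π C ^ 3 = 1 := by
    rw [← map_pow, π_eq_one]
    rcases cube_root c hc with rfl | rfl | rfl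
    · have hoff : ∀ i j : Fin 3, i ≠ j → (C : M3) i j = 0 := fun i j hij =>
        (hsupp i j).resolve_right (by revert hij; revert i j; decide +kernel)
      have hD : (C : M3) = Matrix.diagonal fun i => (C : M3) i i := by
        ext i j
        by_cases hij : i = j
        · subst hij; simp
        · rw [Matrix.diagonal_apply_ne _ hij, hoff i j hij]
      have hdet : (C : M3).det = 1 := C.2
      rw [hD, Matrix.det_diagonal, Fin.prod_univ_three] at hdet
      obtain ⟨q0, q1, q2⟩ := diag_cube _ _ _ hdet
      refine center_mem (c := 1) ?_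
      rw [Matrix.SpecialLinearGroup.coe_pow, hD, Matrix.diagonal_pow, one_smul, ← Matrix.diagonal_one]
      refine congrArg Matrix.diagonal (funext fun i => ?_)
      rw [Pi.pow_apply, pow_succ, pow_two]
      fin_cases i
      exacts [q0, q1, q2]
    all_goals
      refine center_mem (c := ((C : M3) ^ 3) 0 0) ?_
      rw [Matrix.SpecialLinearGroup.coe_pow]
      ext i j
      rw [pow_succ, pow_two]
      have s00 := (hsupp 0 0).resolve_right (by decide); have s11 := (hsupp 1 1).resolve_right (by decide)
      have s22 := (hsupp 2 2).resolve_right (by decide)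
    · have s01 := (hsupp 0 1).resolve_right (by decide); have s12 := (hsupp 1 2).resolve_right (by decide)
      have s20 := (hsupp 2 0).resolve_right (by decide)
      fin_cases i <;> fin_cases j <;>
        simp [Matrix.mul_apply, Fin.sum_univ_three, s00, s11, s22, s01, s12, s20] <;> ring
    · have s02 := (hsupp 0 2).resolve_right (by decide); have s10 := (hsupp 1 0).resolve_right (by decide)
      have s21 := (hsupp 2 1).resolve_right (by decide)
      fin_cases i <;> fin_cases j <;>
        simp [Matrix.mul_apply, Fin.sum_univ_three, s00, s11, s22, s02, s10, s21] <;> ring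
  have hyC : y = π h * π C * (π h)⁻¹ := by
    rw [← hB]
    simp only [C, map_mul, map_inv]
    group
  rw [hyC, conj_pow, h1, mul_one, mul_inv_cancel]

/-- `PSL(3, 4)` has no element of order 21. -/
theorem l34_no_twentyone {F : Type} [Field F] [Fintype F] (hF : Fintype.card F = 4) {M : Type*}
    [Group M] (φ : M ≃* Matrix.ProjectiveSpecialLinearGroup (Fin 3) F) (g : M) : orderOf g ≠ 21 := by
  intro hg
  obtain ⟨e⟩ := model hF
  set h := (φ.trans e) g with hh
  have ho : orderOf h = 21 := by rw [hh, MulEquiv.orderOf_eq, hg]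
  have h3 := l34_cent_three (x := h ^ 7) (y := h) (by rw [orderOf_pow, ho]; rfl) (Commute.self_pow h 7)
  have := orderOf_dvd_of_pow_eq_one h3
  rw [ho] at this
  norm_num at this

end Cfsg.Agent.Grp.ThreeOrders
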