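import Mathlib
import Cfsg.Prelude
import Cfsg.Agent.Lib.Grp.ThreeOrders.Radical
import Cfsg.Agent.Lib.Grp.ThreeOrders.SEBasic
import Cfsg.Agent.Lib.Grp.SuzIdent.CIT
import Cfsg.Agent.Lib.Transfer.CIT.PSLTwo
import Cfsg.Agent.Lib.Grp.PrimeGraphCIT.Models
import Cfsg.Agent.Lib.Grp.PrimeGraphCIT.Main
import Cfsg.Agent.Lib.Spor.PSLThreeFour
import Cfsg.Agent.Lib.Block.SpecPSL.Even

/-!
A simple group of type `TwoR` without elements of order `2 r` is a `PSL(2, 2^n)`: the facts needed
about its Sylow 2-subgroups.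
-/

set_option autoImplicit false
set_option linter.style.haveILetI false
set_option linter.unusedSectionVars false

universe u

namespace Cfsg.Agent.Grp.ThreeOrders

open Subgroup Cfsg.Agent

variable {G : Type u} [Group G] [Finite G]

section L34

open Cfsg.Agent.Spor Cfsg.Agent.Spor.SU32

local notation "S34" => Matrix.SpecialLinearGroup (Fin 3) F4

/-- A regular unipotent matrix. -/
def regU : S34 := ⟨!![1, 1, 0; 0, 1, 1; 0, 0, 1], by decide +kernel⟩

/-- `PSL(3, 4)` has an element of order four. -/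
theorem psl34_order_four {F : Type} [Field F] [Fintype F] (hF : Fintype.card F = 4) {M : Type u}
    [Group M] (φ : M ≃* Matrix.ProjectiveSpecialLinearGroup (Fin 3) F) : ∃ w : M, orderOf w = 4 := by
  haveI := Fact.mk Nat.prime_two
  obtain ⟨e⟩ := L34Elem.model hF
  set θ := φ.trans e
  have h4 : regU ^ 4 = 1 := by decide +kernel
  have hscal : ∀ c : F4, ((regU ^ 2 : S34) : Matrix (Fin 3) (Fin 3) F4) ≠
      c • (1 : Matrix (Fin 3) (Fin 3) F4) := by decide +kernel
  refine ⟨θ.symm (L34Elem.π regU), ?_⟩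
  rw [MulEquiv.orderOf_eq]
  refine orderOf_eq_prime_pow (p := 2) (n := 1) ?_ ?_
  · rw [pow_one, ← map_pow]
    intro h
    obtain ⟨s, -, hs⟩ := L34Elem.center_scalar (L34Elem.π_eq_one.mp h)
    exact hscal s hs
  · rw [← map_pow, show (2 : ℕ) ^ (1 + 1) = 4 by norm_num, h4, map_one]

end L34

variable {r : ℕ}

/-- A simple group of type `TwoR` without element of order `2 r` is `PSL(2, 2^n)`. -/
theorem TwoR.psl_even [IsSimpleGroup G] (h : TwoR G r) (hns : ¬ Group.IsSolvable G)
    (hno : ∀ g : G, orderOf g ≠ 2 * r) :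
    ∃ (F : Type) (_ : Field F) (_ : Fintype F) (n : ℕ), 2 ≤ n ∧ Fintype.card F = 2 ^ n ∧
      Nonempty (G ≃* Matrix.ProjectiveSpecialLinearGroup (Fin 2) F) := by
  classical
  haveI := Fact.mk Nat.prime_two
  have heven : ∀ g : G, 2 ∣ orderOf g → orderOf g = 2 := by
    intro g hg
    have hd := h.dvd (Or.inl hg)
    obtain ⟨k, hk⟩ := hg
    rw [hk] at hd
    rcases h.prime.eq_one_or_self_of_dvd k (Nat.dvd_of_mul_dvd_mul_left Nat.two_pos hd) with rfl | rfl
    · rw [hk, mul_one]
    · exact absurd hk (hno g)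
  have hcit : Transfer.CIT.IsCIT G := PGCIT.isCIT_of_even fun g hg => ⟨1, by rw [heven g hg, pow_one]⟩
  have h4no : ∀ g : G, orderOf g ≠ 4 := fun g hg => by
    have := heven g (hg ▸ by norm_num)
    omega
  have hnc : ¬ IsMulCommutative G := fun hc =>
    hns (Group.isSolvable_of_comm fun a b => hc.is_comm.comm a b)
  rcases hcit.classification_iso hnc with ⟨F, i1, i2, hF, ⟨e⟩⟩ | ⟨F, i1, i2, hF, ⟨e⟩⟩ |
    ⟨F, i1, i2, m, hm, hF, ⟨e⟩⟩
  · have hF4 := Transfer.CIT.four_le_card_field hnc e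
    rcases hF with hq | ⟨n, hq⟩ | ⟨hp, k, hk⟩
    · obtain ⟨g, hg⟩ := Transfer.CIT.exists_orderOf_half e hF4 (m := 4) (Or.inl (by rw [hq]; norm_num))
      exact absurd hg (h4no g)
    · refine ⟨F, i1, i2, n, ?_, hq, ⟨e⟩⟩
      by_contra hn
      rw [hq] at hF4
      interval_cases n <;> simp at hF4
    · obtain ⟨q, hqq⟩ : ∃ q, Fintype.card F = q := ⟨_, rfl⟩
      rw [hqq] at hk hp hF4
      have hq2 : q % 2 = 1 := (hp.eq_two_or_odd).resolve_left (by omega)
      have hg : Nat.gcd 2 (q - 1) = 2 := Nat.gcd_eq_left (by omega)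
      by_cases hd : 4 ∣ (q - 1) / 2 ∨ 4 ∣ (q + 1) / 2
      · obtain ⟨g, hg'⟩ := Transfer.CIT.exists_orderOf_half e (by omega) (m := 4)
          (by rw [hqq, hg]; exact hd)
        exact absurd hg' (h4no g)
      · have hq5 : q = 5 := by
          rcases k with _ | _ | _ | k
          · simp only [pow_zero] at hk; omega
          · simp only [zero_add, pow_one] at hk; omega
          · norm_num at hk; omega
          · have : 8 ∣ 2 ^ (k + 1 + 1 + 1) := ⟨2 ^ k, by ring⟩
            omega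
        let K := GaloisField 2 2
        haveI : Fintype K := Fintype.ofFinite K
        have hK : Fintype.card K = 2 ^ 2 := by
          rw [← Nat.card_eq_fintype_card, GaloisField.card 2 2 two_ne_zero]
        obtain ⟨p, hp'⟩ := CharP.exists F
        haveI := hp'
        haveI : Fact p.Prime := ⟨CharP.char_is_prime F p⟩
        have hp5 : p = 5 := by
          obtain ⟨n, hpp, hn⟩ := FiniteField.card F p
          exact (Nat.prime_dvd_prime_iff_eq hpp (by norm_num : Nat.Prime 5)).1 (by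
            rw [← hq5, ← hqq, hn]; exact dvd_pow_self p n.ne_zero)
        have hc := Dickson.card_psl (F := F)
        rw [← Nat.card_congr e.toEquiv,
          show Dickson.del F = Nat.gcd 2 (Fintype.card F - 1) from rfl, hqq, hg, hq5] at hc
        obtain ⟨e'⟩ := Block.SpecPSL.iso_psl_even (G := G) (F := K) le_rfl hK
          (by norm_num at hc ⊢; omega) (fun x => by
            have hS := S2475.result (F := F) p (by omega : 4 ≤ Fintype.card F)
            have hmem : orderOf (e x) ∈ Set.range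
                (orderOf : Matrix.ProjectiveSpecialLinearGroup (Fin 2) F → ℕ) := ⟨e x, rfl⟩
            rw [hS, MulEquiv.orderOf_eq] at hmem
            simp only [Set.mem_setOf_eq, hqq, hg] at hmem
            rw [hq5, hp5, show (5 - 1) / 2 = 2 by norm_num, show (5 + 1) / 2 = 3 by norm_num] at hmem
            norm_num
            tauto)
        exact ⟨K, inferInstance, inferInstance, 2, le_rfl, hK, ⟨e'⟩⟩
  · obtain ⟨g, hg⟩ := psl34_order_four hF e
    exact absurd hg (h4no g)
  · exfalso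
    have hS : Suz.SzField F m := ⟨hm, hF⟩
    let e0 : (⊤ : Subgroup G) ≃* ↥(Cfsg.Sz F m) :=
      Subgroup.topEquiv.trans (e.trans (Suz.szEquiv hS).symm)
    obtain ⟨D, hD⟩ := PGCIT.exists_torus_suzuki (⊤ : Subgroup G) hS e0
    have hle : (D.S : Subgroup (⊤ : Subgroup G)) ≤ D.Z := fun s hs =>
      (D.inv s hs).1 ((h.subgroup ⊤).two_group_sq D.S.isPGroup' hs)
    have h2 := Subgroup.card_le_of_le hle
    rw [hD] at h2
    set q := 2 ^ (2 * m + 1) with hq
    have hqe : 2 ∣ q := dvd_pow_self 2 (by omega)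
    have hpos : 0 < q := by positivity
    have hc : Nat.card (⊤ : Subgroup G) = 2 ^ ((2 * m + 1) * 2) * ((q ^ 2 + 1) * (q - 1)) := by
      rw [Nat.card_congr e0.toEquiv, Suz.card_Sz hS, pow_mul, ← hq, mul_assoc]
    have hodd : ¬ 2 ∣ (q ^ 2 + 1) * (q - 1) := by
      have : 2 ∣ q ^ 2 := dvd_pow hqe two_ne_zero
      rw [Nat.prime_two.dvd_mul]; omega
    rw [PGCIT.card_sylow_eq hc hodd D.S, pow_mul, ← hq] at h2
    have h22 : 2 ≤ q := Nat.le_of_dvd hpos hqe
    nlinarith

/-- What is used about `PSL(2, 2^n)`. -/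
structure EvenPSLFacts (G : Type u) [Group G] [Finite G] : Prop where
  cent : ∀ (T : Sylow 2 G), ∀ a ∈ (T : Subgroup G), a ≠ 1 → ∀ x, Commute x a → x ∈ (T : Subgroup G)
  four_le : ∀ T : Sylow 2 G, 4 ≤ Nat.card (T : Subgroup G)
  num : ∀ T : Sylow 2 G, Nat.card (Sylow 2 G) = Nat.card (T : Subgroup G) + 1
  low : ∀ T : Sylow 2 G, ∃ g : G, orderOf g = Nat.card (T : Subgroup G) - 1
  high : ∀ T : Sylow 2 G, ∃ g : G, orderOf g = Nat.card (T : Subgroup G) + 1

theorem TwoR.even_facts [IsSimpleGroup G] (h : TwoR G r) (hns : ¬ Group.IsSolvable G)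
    (hno : ∀ g : G, orderOf g ≠ 2 * r) : EvenPSLFacts G := by
  classical
  haveI := Fact.mk Nat.prime_two
  obtain ⟨F, iF, iT, n, hn, hF, ⟨e⟩⟩ := h.psl_even hns hno
  set q := 2 ^ n with hq
  have hqe : 2 ∣ q := dvd_pow_self 2 (by omega)
  have hq4 : 4 ≤ q := by
    calc 4 = 2 ^ 2 := rfl
      _ ≤ q := Nat.pow_le_pow_right (by norm_num) hn
  have hgcd : Nat.gcd 2 (q - 1) = 1 := Nat.prime_two.coprime_iff_not_dvd.2 (by omega)
  have hcard : Nat.card G = q * ((q - 1) * (q + 1)) := by
    have hc := Dickson.card_psl (F := F)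
    rw [← Nat.card_congr e.toEquiv,
      show Dickson.del F = Nat.gcd 2 (Fintype.card F - 1) from rfl, hF, hgcd, mul_one] at hc
    exact hc
  have hT : ∀ T : Sylow 2 G, Nat.card (T : Subgroup G) = q := fun T =>
    PGCIT.card_sylow_eq hcard (by rw [Nat.prime_two.dvd_mul]; omega) T
  have hcit : ∀ (T : Sylow 2 G), ∀ a ∈ (T : Subgroup G), a ≠ 1 → ∀ x, Commute x a →
      x ∈ (T : Subgroup G) := by
    intro T a ha ha1 x hx
    have hp : IsPGroup 2 (Subgroup.centralizer ({a} : Set G)) := by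
      have hcit' : Transfer.CIT.IsCIT G := PGCIT.isCIT_of_even fun g hg => by
        have hd := h.dvd (Or.inl hg)
        obtain ⟨k, hk⟩ := hg
        rw [hk] at hd
        rcases h.prime.eq_one_or_self_of_dvd k (Nat.dvd_of_mul_dvd_mul_left Nat.two_pos hd) with rfl | rfl
        · exact ⟨1, by rw [hk, mul_one, pow_one]⟩
        · exact absurd hk (hno g)
      exact hcit' a (h.orderOf_eq_two T.isPGroup' ha ha1)
    rw [← T.3 hp (h.sylow_le_centralizer T ha)]
    exact Subgroup.mem_centralizer_singleton_iff.2 hx.eq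
  obtain ⟨M, hMtop⟩ : ∃ M : Subgroup G, M = ⊤ := ⟨⊤, rfl⟩
  have hmem : ∀ g : G, g ∈ M := fun g => hMtop ▸ Subgroup.mem_top g
  have eM : M ≃* G := (MulEquiv.subgroupCongr hMtop).trans Subgroup.topEquiv
  obtain ⟨D, hD⟩ := PGCIT.exists_torus_psl M (by omega : n ≠ 0) hF (eM.trans e)
  have hcTop : Nat.card M = q * ((q - 1) * (q + 1)) := by
    rw [Nat.card_congr eM.toEquiv, hcard]
  have hDS : Nat.card (D.S : Subgroup M) = q :=
    PGCIT.card_sylow_eq hcTop (by rw [Nat.prime_two.dvd_mul]; omega) D.S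
  have hZS : D.Z = (D.S : Subgroup M) :=
    Subgroup.eq_of_le_of_card_ge D.zS (by rw [hD, hDS])
  obtain ⟨a, haS, ha1⟩ : ∃ a ∈ (D.S : Subgroup M), a ≠ 1 := by
    haveI : Nontrivial (D.S : Subgroup M) :=
      Finite.one_lt_card_iff_nontrivial.1 (by rw [hDS]; omega)
    obtain ⟨a, ha⟩ := exists_ne (1 : (D.S : Subgroup M))
    exact ⟨a, a.2, fun e => ha (Subtype.ext e)⟩
  set N := Subgroup.normalizer ((D.S : Subgroup M) : Set M)
  have hN : Nat.card N = (q - 1) * q := by
    rw [← card_orbit_mul N a]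
    congr 1
    · rw [show q - 1 = Nat.card {x : (D.S : Subgroup M) // x ≠ 1} by
        have h1 := Nat.card_congr (Equiv.optionSubtypeNe (1 : (D.S : Subgroup M)))
        rw [Finite.card_option, hDS] at h1
        omega]
      refine Nat.card_congr
        { toFun := fun b => ⟨⟨b.1, ?_⟩, ?_⟩
          invFun := fun x => ⟨((x.1 : (D.S : Subgroup M)) : M), ?_⟩
          left_inv := fun b => rfl
          right_inv := fun x => rfl }
      · obtain ⟨k, hk, hb⟩ := b.2
        rw [← hb]
        exact mem_conj_normalizer hk haS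
      · obtain ⟨k, hk, hb⟩ := b.2
        intro e1
        exact ha1 (conj_eq_one_iff.1 (hb.trans (congrArg Subtype.val e1)))
      · obtain ⟨w, hw, hwa⟩ := D.trans a (hZS.ge haS) x.1 (hZS.ge x.1.2) ha1
          (fun e1 => x.2 (Subtype.ext e1))
        exact ⟨w, D.wS hw, hwa⟩
    · have hinf : N ⊓ Subgroup.centralizer ({a} : Set M) = (D.S : Subgroup M) := by
        refine le_antisymm (fun x hx => ?_) (le_inf Subgroup.le_normalizer
          ((h.subgroup M).sylow_le_centralizer D.S haS))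
        let T : Sylow 2 G := D.S.mapSurjective (f := M.subtype) (fun g => ⟨⟨g, hmem g⟩, rfl⟩)
        have hTS : ∀ m : M, (m : G) ∈ (T : Subgroup G) ↔ m ∈ (D.S : Subgroup M) := fun m => by
          exact Subgroup.mem_map_iff_mem M.subtype_injective
        exact (hTS x).1 (hcit T a ((hTS a).2 haS) (fun e1 => ha1 (Subtype.ext e1)) x
          (congrArg M.subtype (Subgroup.mem_centralizer_singleton_iff.1 hx.2)))
      rw [hinf, hDS]
  have hnum : Nat.card (Sylow 2 G) = q + 1 := by
    have h1 : Nat.card (Sylow 2 M) = q + 1 := by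
      have h2 := N.card_mul_index
      rw [hN, hcTop, show N.index = Nat.card (Sylow 2 M) from
        (Sylow.card_eq_index_normalizer D.S).symm] at h2
      rw [show q * ((q - 1) * (q + 1)) = (q - 1) * q * (q + 1) by ring] at h2
      exact Nat.eq_of_mul_eq_mul_left (Nat.mul_pos (by omega) (by omega)) h2
    obtain ⟨T⟩ : Nonempty (Sylow 2 G) := inferInstance
    rw [← h1]
    exact (Nat.card_congr (Equiv.ofBijective
      (fun P : Sylow 2 M => P.mapSurjective (f := M.subtype) (fun g => ⟨⟨g, hmem g⟩, rfl⟩))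
      ⟨fun P Q e1 => Sylow.ext (Subgroup.map_injective M.subtype_injective
        (congrArg Sylow.toSubgroup e1)),
       Sylow.mapSurjective_surjective _ _⟩)).symm
  exact ⟨hcit, fun T => by rw [hT T]; exact hq4, fun T => by rw [hT T, hnum], fun T => by
      rw [hT T]
      exact Transfer.CIT.exists_orderOf_half e (by omega)
        (Or.inl (by rw [hF, hgcd, Nat.div_one])), fun T => by
      rw [hT T]
      exact Transfer.CIT.exists_orderOf_half e (by omega)
        (Or.inr (by rw [hF, hgcd, Nat.div_one]))⟩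

end Cfsg.Agent.Grp.ThreeOrders
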