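import Mathlib
import Cfsg.Prelude
import Cfsg.Agent.Lib.Grp.ThreeOrders.CitA6
import Cfsg.Agent.Lib.Grp.ThreeOrders.CitLift
import Cfsg.Agent.Lib.Grp.ThreeOrders.PSLThreeFourFacts
import Cfsg.Agent.Lib.Grp.ThreeOrders.SocleFacts
import Cfsg.Agent.Lib.Grp.PrimeGraphCIT.Recog
import Cfsg.Agent.Lib.Grp.PrimeGraphCIT.Models
import Cfsg.Agent.Lib.Lie.Sz.Partition
import Cfsg.Agent.S2475

/-!
The case `NoThree` with all element orders divisible by two powers of two.
-/

set_option autoImplicit false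
set_option linter.style.haveILetI false
set_option linter.unusedSectionVars false

universe u

namespace Cfsg.Agent.Grp.ThreeOrders

open Subgroup Cfsg.Agent
open Cfsg.Agent.Transfer.CIT (IsCIT)

/-- The conclusion of the theorem. -/
def ThreeOrdersList (G : Type u) [Group G] : Prop :=
    (∃ (F : Type) (_ : Field F) (_ : Fintype F), CharP F 2 ∧ 4 ≤ Fintype.card F ∧
        (Fintype.card F + 1).primeFactorsList.length ≤ 2 ∧ (Fintype.card F - 1).primeFactorsList.length ≤ 2 ∧
        Nonempty (G ⧸ Cfsg.pCore 2 G ≃* Matrix.ProjectiveSpecialLinearGroup (Fin 2) F)) ∨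
    (∃ (F : Type) (_ : Field F) (_ : Fintype F), 5 < Fintype.card F ∧ (Fintype.card F % 8 = 3 ∨ Fintype.card F % 8 = 5) ∧
        ((Fintype.card F + 1) / 2).primeFactorsList.length ≤ 2 ∧ ((Fintype.card F - 1) / 2).primeFactorsList.length ≤ 2 ∧
        Nonempty (G ≃* Matrix.ProjectiveSpecialLinearGroup (Fin 2) F)) ∨
    (∃ (F : Type) (_ : Field F) (_ : Fintype F), (Fintype.card F = 7 ∨ Fintype.card F = 9) ∧
        Nonempty (G ≃* Matrix.ProjectiveSpecialLinearGroup (Fin 2) F)) ∨
    (∃ (F : Type) (_ : Field F) (_ : Fintype F), Fintype.card F = 4 ∧ Nonempty (G ≃* Matrix.ProjectiveSpecialLinearGroup (Fin 3) F)) ∨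
    (∃ n : ℕ, 1 ≤ n ∧ IsSimpleGroup G ∧ Nat.card G = (2 ^ (2 * n + 1)) ^ 2 * ((2 ^ (2 * n + 1)) ^ 2 + 1) * (2 ^ (2 * n + 1) - 1) ∧
        (2 ^ (2 * n + 1) - 1).primeFactorsList.length ≤ 2 ∧ (2 ^ (2 * n + 1) - 2 ^ (n + 1) + 1).primeFactorsList.length ≤ 2 ∧
        (2 ^ (2 * n + 1) + 2 ^ (n + 1) + 1).primeFactorsList.length ≤ 2)

variable {G : Type u} [Group G] [Finite G]

theorem NoThree.quotient (h : NoThree G) (N : Subgroup G) [N.Normal] : NoThree (G ⧸ N) := by
  have key : ∀ x : G ⧸ N, ∃ g : G, orderOf g = orderOf x := by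
    intro x
    obtain ⟨g, rfl⟩ := QuotientGroup.mk_surjective x
    exact exists_orderOf_eq_of_dvd g (orderOf_map_dvd (QuotientGroup.mk' N) g)
  intro p hp a b c hab hbc hac
  obtain ⟨a', ha⟩ := key a
  obtain ⟨b', hb⟩ := key b
  obtain ⟨c', hc⟩ := key c
  have h1 := h p hp a' b' c' (by rwa [ha, hb]) (by rwa [hb, hc]) (by rwa [ha, hc])
  rwa [ha, hb, hc] at h1

theorem psl_order {F : Type} [Field F] [Fintype F] {p : ℕ} [Fact p.Prime] [CharP F p] {H : Type*}
    [Group H] (h4 : 4 ≤ Fintype.card F) (e : H ≃* Matrix.ProjectiveSpecialLinearGroup (Fin 2) F)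
    (g : H) : orderOf g ∣ p ∨
      orderOf g ∣ (Fintype.card F - 1) / Nat.gcd 2 (Fintype.card F - 1) ∨
      orderOf g ∣ (Fintype.card F + 1) / Nat.gcd 2 (Fintype.card F - 1) := by
  have hS := S2475.result (F := F) p h4
  have hmem : orderOf (e g) ∈ Set.range
      (orderOf : Matrix.ProjectiveSpecialLinearGroup (Fin 2) F → ℕ) := ⟨e g, rfl⟩
  rw [hS, MulEquiv.orderOf_eq] at hmem
  simpa only [Set.mem_setOf_eq] using hmem

theorem charP_prime {F : Type} [Field F] [Fintype F] {p : ℕ} (hp : p.Prime) {n : ℕ}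
    (hF : Fintype.card F = p ^ n) : CharP F p := by
  haveI := Fact.mk hp
  exact charP_of_card_eq_prime_pow hF

theorem sz_four {X : Type u} [Group X] [Finite X] (h : IsCIT X) (h3 : NoThree X) {F : Type}
    [Field F] [Fintype F] {m : ℕ} (hS : Suz.SzField F m) (e : X ≃* ↥(Cfsg.Sz F m)) :
    ∃ x y : X, (orderOf x).Prime ∧ orderOf x ≠ 2 ∧ orderOf y = 4 ∧ y * x * y⁻¹ ∈ zpowers x := by
  classical
  haveI := Fact.mk Nat.prime_two
  set k := 2 ^ (2 * m + 1) + 2 ^ (m + 1) + 1 with hk
  obtain ⟨U0, hU0c, hU0k, -, hN0⟩ := Suz.exceptional_tori hS k (Or.inl rfl)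
  set f := e.symm.toMonoidHom
  have hfi : Function.Injective f := e.symm.injective
  set U := U0.map f with hU
  set N := (normalizer (U0 : Set ↥(Cfsg.Sz F m))).map f with hN
  haveI : IsCyclic U0 := hU0c
  obtain ⟨g0, hg0⟩ := IsCyclic.exists_generator (α := U0)
  have hkodd : ¬ 2 ∣ k := by
    have h1 : 2 ∣ 2 ^ (2 * m + 1) := dvd_pow_self 2 (by omega)
    have h2 : 2 ∣ 2 ^ (m + 1) := dvd_pow_self 2 (by omega)
    omega
  have hk1 : k ≠ 1 := by
    have h0 : 0 < 2 ^ (m + 1) := Nat.two_pow_pos _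
    intro e
    rw [hk, add_eq_right] at e
    exact h0.ne' (add_eq_zero.1 e).2
  obtain ⟨ℓ, hℓ, hℓd⟩ := Nat.exists_prime_and_dvd hk1
  have hgo : orderOf (f g0) = k := by
    rw [orderOf_injective f hfi, orderOf_coe, orderOf_eq_card_of_forall_mem_zpowers hg0, hU0k]
  set x := f g0 ^ (k / ℓ) with hx
  have hxo : orderOf x = ℓ := by
    rw [hx, ← hgo]; exact orderOf_pow_orderOf_div (orderOf_pos _).ne' (hgo.symm ▸ hℓd)
  have hℓ2 : ℓ ≠ 2 := fun e => hkodd (e ▸ hℓd)
  have hNconj : ∀ y ∈ N, y * x * y⁻¹ ∈ zpowers x := by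
    rintro _ ⟨y, hy, rfl⟩
    obtain ⟨i, hi⟩ := mem_zpowers_iff.1 (hg0 ⟨_, mem_conj_normalizer hy g0.2⟩)
    have hi' : f y * f g0 * (f y)⁻¹ = f g0 ^ i := by
      rw [← map_inv, ← map_mul, ← map_mul, ← map_zpow, ← coe_zpow, hi]
    refine mem_zpowers_iff.2 ⟨i, ?_⟩
    rw [hx, ← conj_pow, hi', ← zpow_natCast, ← zpow_natCast, ← zpow_mul, ← zpow_mul, mul_comm]
  have hNc : Nat.card N = 2 ^ 2 * k := by
    rw [hN, card_map_of_injective hfi, hN0]; norm_num
  obtain ⟨T⟩ : Nonempty (Sylow 2 N) := inferInstance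
  have cT : Nat.card T = 4 := by rw [sylow_card_of hNc hkodd T]; norm_num
  by_contra hcon
  push Not at hcon
  have hinv : ∀ t : T, t ≠ 1 → orderOf ((t : N) : X) = 2 := by
    intro t ht
    obtain ⟨i, hi⟩ := IsPGroup.iff_orderOf.1 T.isPGroup' t
    rw [orderOf_coe, orderOf_coe]
    rcases i with _ | _ | i
    · exact absurd (orderOf_eq_one_iff.1 (by rw [hi, pow_zero])) ht
    · rw [hi]; norm_num
    · exfalso
      have h4 : 4 ∣ orderOf ((t : N) : X) := by
        rw [orderOf_coe, orderOf_coe, hi]; exact ⟨2 ^ i, by ring⟩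
      obtain ⟨u, hu⟩ := exists_orderOf_eq_of_dvd ((t : N) : X) h4
      have hu' := orderOf_pow_orderOf_div (orderOf_pos ((t : N) : X)).ne' h4
      exact hcon x _ (hxo.symm ▸ hℓ) (hxo.symm ▸ hℓ2) hu' (hNconj _ (N.pow_mem (t : N).2 _))
  haveI : Nontrivial T := Finite.one_lt_card_iff_nontrivial.1 (by rw [cT]; norm_num)
  obtain ⟨s, hs⟩ := exists_ne (1 : T)
  obtain ⟨t, ht, hts⟩ : ∃ t : T, t ≠ 1 ∧ t ≠ s := by
    by_contra hc
    push Not at hc
    have hsub : (Set.univ : Set T) ⊆ {1, s} := fun t _ => by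
      by_cases h1 : t = 1
      · exact Or.inl h1
      · exact Or.inr (hc t h1)
    have h2 := Set.ncard_le_ncard hsub
    rw [Set.ncard_univ, cT, Set.ncard_pair (Ne.symm hs)] at h2
    omega
  set Zx := zpowers x
  have hZodd : ¬ 2 ∣ Nat.card Zx := by
    rw [Nat.card_zpowers, hxo]
    exact fun hd => hℓ2 ((Nat.prime_dvd_prime_iff_eq Nat.prime_two hℓ).1 hd).symm
  have hZ : ∀ y ∈ N, ∀ n ∈ Zx, y * n * y⁻¹ ∈ Zx := by
    intro y hy n hn
    obtain ⟨i, rfl⟩ := mem_zpowers_iff.1 hn
    rw [← conj_zpow]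
    exact zpow_mem (hNconj y hy) i
  have e1 := PGCIT.inverts_odd h (hinv s hs) Zx hZodd (hZ _ (s : N).2) (mem_zpowers x)
  have e2 := PGCIT.inverts_odd h (hinv t ht) Zx hZodd (hZ _ (t : N).2) (mem_zpowers x)
  set a := ((s : N) : X) with ha
  set b := ((t : N) : X) with hb
  have hc : Commute x (a * b) := by
    symm
    rw [Commute, SemiconjBy, ← mul_inv_eq_iff_eq_mul]
    calc a * b * x * (a * b)⁻¹ = a * (b * x * b⁻¹) * a⁻¹ := by group
      _ = (a * x * a⁻¹)⁻¹ := by rw [e2]; group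
      _ = x := by rw [e1, inv_inv]
  have hst : s * t ≠ 1 := fun e => hts (by
    have h2 : orderOf ((s : N) : X) = 2 := hinv s hs
    rw [eq_inv_of_mul_eq_one_right e]
    refine inv_eq_of_mul_eq_one_right (Subtype.ext (Subtype.ext ?_))
    exact Invol.mul_self_of_orderOf_two h2)
  have hx1 : x = 1 := PGCIT.eq_one_of_commute_two h (S := (T : Subgroup N).map N.subtype)
    (T.isPGroup'.map _) (u := a * b) ⟨((s * t : T) : N), (s * t).2, rfl⟩
    (fun e => hst (Subtype.ext (Subtype.ext e))) hc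
    (fun hd => hℓ2 ((Nat.prime_dvd_prime_iff_eq Nat.prime_two hℓ).1 (hxo ▸ hd)).symm)
  rw [hx1, orderOf_one] at hxo
  exact hℓ.ne_one hxo.symm

/-- All even element orders are powers of two. -/
theorem cit_case (hns : ¬ Group.IsSolvable G) (h3 : NoThree G)
    (heven : ∀ g : G, 2 ∣ orderOf g → ∃ k : ℕ, orderOf g = 2 ^ k) : ThreeOrdersList G := by
  classical
  haveI := Fact.mk Nat.prime_two
  have hcit : IsCIT G := PGCIT.isCIT_of_even heven
  have h2G : 2 ∣ Nat.card G := by
    by_contra h2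
    exact hns (odd_solvable h2)
  obtain ⟨hX, hXns, -, ⟨M, hMn, hMs, hMnc⟩, -, -⟩ := PGCIT.quotient_props hcit hns h2G
  set R := Cfsg.pCore 2 G with hR
  have hRp : IsPGroup 2 R := Cfsg.Agent.Grp.pCore_isPGroup
  have hX3 : NoThree (G ⧸ R) := h3.quotient R
  have hXO : Cfsg.pCore 2 (G ⧸ R) = ⊥ := Grp.TwoClassCore.pCore_quotient_eq_bot R hRp rfl
  haveI := hMn
  haveI := hMs
  have hMns : ¬ Group.IsSolvable M := fun hs => hMnc
    ⟨⟨fun a b => IsSimpleGroup.comm_iff_isSolvable.mpr hs a b⟩⟩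
  have hlen : ∀ {m : ℕ}, (∃ g : M, orderOf g = m) → m.primeFactorsList.length ≤ 2 := by
    rintro m ⟨g, rfl⟩
    rw [← orderOf_coe]
    exact hX3.length_le _
  have h8M : ∀ g : M, ¬ 8 ∣ orderOf g := fun g => by
    rw [← orderOf_coe]; exact hX3.no_eight _
  have topEq : M = ⊤ → Nonempty (G ⧸ R ≃* M) := fun e =>
    ⟨(Subgroup.topEquiv.symm).trans (MulEquiv.subgroupCongr e.symm)⟩
  have botEq : R = ⊥ → Nonempty (G ≃* G ⧸ R) := fun e =>
    ⟨((QuotientGroup.quotientMulEquivOfEq e).trans QuotientGroup.quotientBot).symm⟩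
  -- the case of characteristic two
  have evenCase : ∀ (F : Type) (i1 : Field F) (i2 : Fintype F) (n : ℕ), 2 ≤ n →
      Fintype.card F = 2 ^ n → Nonempty (M ≃* Matrix.ProjectiveSpecialLinearGroup (Fin 2) F) →
      M = ⊤ → ThreeOrdersList G := by
    intro F i1 i2 n hn hF ⟨e⟩ hM
    obtain ⟨f⟩ := topEq hM
    have h4 : 4 ≤ Fintype.card F := hF ▸ (show 4 = 2 ^ 2 by norm_num) ▸
      Nat.pow_le_pow_right (by norm_num) hn
    have he : 2 ∣ Fintype.card F := hF ▸ dvd_pow_self 2 (by omega)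
    have hg : Nat.gcd 2 (Fintype.card F - 1) = 1 := Nat.prime_two.coprime_iff_not_dvd.2 (by omega)
    refine Or.inl ⟨F, i1, i2, charP_prime Nat.prime_two hF, h4, ?_, ?_, ⟨f.trans e⟩⟩
    · exact hlen (Transfer.CIT.exists_orderOf_half e h4 (Or.inr (by rw [hg, Nat.div_one])))
    · exact hlen (Transfer.CIT.exists_orderOf_half e h4 (Or.inl (by rw [hg, Nat.div_one])))
  have case60 : ∀ (F : Type) (i1 : Field F) (i2 : Fintype F) (n : ℕ), n = 2 →
      Fintype.card F = 2 ^ n → Nonempty (M ≃* Matrix.ProjectiveSpecialLinearGroup (Fin 2) F) →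
      ThreeOrdersList G := by
    intro F i1 i2 n hn hF ⟨e⟩
    subst hn
    haveI := charP_prime Nat.prime_two hF
    have hc := Dickson.card_psl (F := F)
    rw [← Nat.card_congr e.toEquiv, show Dickson.del F = Nat.gcd 2 (Fintype.card F - 1) from rfl, hF] at hc
    norm_num at hc
    refine evenCase F i1 i2 2 le_rfl hF ⟨e⟩ (top_60 M hMns hX (by omega) fun g hg => ?_)
    have ho := psl_order (p := 2) (by rw [hF]; norm_num) e g
    rw [hg, hF] at ho
    norm_num at ho
  have hcard : ∀ {F : Type} [Field F] [Fintype F],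
      (M ≃* Matrix.ProjectiveSpecialLinearGroup (Fin 2) F) →
      Nat.card M * Nat.gcd 2 (Fintype.card F - 1) =
        Fintype.card F * ((Fintype.card F - 1) * (Fintype.card F + 1)) := by
    intro F _ _ e
    have hc := Dickson.card_psl (F := F)
    rw [← Nat.card_congr e.toEquiv, show Dickson.del F = Nat.gcd 2 (Fintype.card F - 1) from rfl] at hc
    exact hc
  have hRcard : M = ⊤ → ∃ a : ℕ, Nat.card G = Nat.card M * 2 ^ a := fun hM => by
    obtain ⟨f⟩ := topEq hM
    obtain ⟨a, ha⟩ := hRp.exists_card_eq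
    exact ⟨a, by rw [R.card_eq_card_quotient_mul_card_subgroup, ha, Nat.card_congr f.toEquiv]⟩
  rcases (hX.of_injective M.subtype M.subtype_injective).classification_iso hMnc with
    ⟨F, i1, i2, hF, ⟨e⟩⟩ | ⟨F, i1, i2, hF, ⟨e⟩⟩ | ⟨F, i1, i2, m, hm, hF, ⟨e⟩⟩
  · have h4 := Transfer.CIT.four_le_card_field hMnc e
    have hc := hcard e
    rcases hF with hq | ⟨n, hq⟩ | ⟨hp, k, hk⟩
    · -- q = 9
      haveI := charP_prime Nat.prime_three (show Fintype.card F = 3 ^ 2 by rw [hq]; norm_num)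
      haveI := Fact.mk Nat.prime_three
      rw [hq] at hc
      norm_num at hc
      have hord : ∀ g : M, orderOf g ∣ 3 ∨ orderOf g ∣ 4 ∨ orderOf g ∣ 5 := fun g => by
        have ho := psl_order (p := 3) (by omega) e g
        rw [hq] at ho
        norm_num at ho
        exact ho
      have hcM : Nat.card M = 360 := by omega
      obtain ⟨c, hc4⟩ := Transfer.CIT.exists_orderOf_half e (by omega) (m := 4)
        (Or.inl (by rw [hq]; norm_num))
      have hM := top_360 M hMns hX hX3 hXO hcM ⟨c, hc4⟩ fun g hg => by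
        have := hord g; rw [hg] at this; norm_num at this
      obtain ⟨f⟩ := topEq hM
      obtain ⟨Q⟩ : Nonempty (Sylow 3 M) := inferInstance
      have cQ : Nat.card Q = 9 := by
        rw [sylow_card_of (a := 2) (b := 40) (by rw [hcM]; norm_num) (by norm_num) Q]; norm_num
      haveI : IsMulCommutative (Q : Subgroup M) :=
        IsPGroup.isMulCommutative_of_card_eq_prime_sq (p := 3) (by rw [cQ]; norm_num)
      have hQ3 : ∀ z ∈ (Q : Subgroup M), z ≠ 1 → orderOf z = 3 := by
        intro z hz hz1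
        obtain ⟨i, hi⟩ := IsPGroup.iff_orderOf.1 Q.isPGroup' ⟨z, hz⟩
        rw [orderOf_mk] at hi
        rcases i with _ | _ | i
        · exact absurd (orderOf_eq_one_iff.1 (by rw [hi, pow_zero])) hz1
        · rw [hi]; norm_num
        · exfalso
          have h9 : 9 ∣ orderOf z := hi ▸ ⟨3 ^ i, by ring⟩
          rcases hord z with e | e | e <;> have := h9.trans e <;> norm_num at this
      haveI : Nontrivial (Q : Subgroup M) := Finite.one_lt_card_iff_nontrivial.1 (by rw [cQ]; norm_num)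
      obtain ⟨z, hz⟩ := exists_ne (1 : (Q : Subgroup M))
      have hzo := hQ3 z z.2 (fun e => hz (Subtype.ext e))
      obtain ⟨w, hwQ, hw⟩ : ∃ w ∈ (Q : Subgroup M), w ∉ zpowers (z : M) := by
        by_contra hcon
        push Not at hcon
        have h1 := card_le_of_le (show (Q : Subgroup M) ≤ zpowers (z : M) from hcon)
        rw [Nat.card_zpowers, hzo, cQ] at h1
        omega
      have hwo := hQ3 w hwQ (fun e => hw (e ▸ one_mem _))
      have hbot : R = ⊥ := bot_of_rank_two hcit R hRp (w := (w : G ⧸ R)) (z := ((z : M) : G ⧸ R))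
        (by rw [orderOf_coe, hwo]) (by rw [orderOf_coe, hzo])
        ((show Commute (z : M) w from congrArg Subtype.val
          (IsMulCommutative.is_comm.comm z (⟨w, hwQ⟩ : (Q : Subgroup M)))).map M.subtype)
        (fun hm => hw (by
          obtain ⟨i, hi⟩ := mem_zpowers_iff.mp hm
          exact mem_zpowers_iff.mpr ⟨i, Subtype.ext (by simpa using hi)⟩))
      obtain ⟨b⟩ := botEq hbot
      exact Or.inr (Or.inr (Or.inl ⟨F, i1, i2, Or.inr hq, ⟨b.trans (f.trans e)⟩⟩))
    · rcases Nat.lt_or_ge n 3 with hn | hn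
      · refine case60 F i1 i2 n ?_ hq ⟨e⟩
        rw [hq] at h4
        interval_cases n <;> simp at h4 ⊢
      · obtain ⟨D, hD⟩ := PGCIT.exists_torus_psl M (by omega : n ≠ 0) hq e
        exact evenCase F i1 i2 n (by omega) hq ⟨e⟩ (PGCIT.top_of_torus hX M D (by
          rw [hD]
          calc 4 < 2 ^ 3 := by norm_num
            _ ≤ 2 ^ n := Nat.pow_le_pow_right (by norm_num) hn))
    · obtain ⟨q, hqq⟩ : ∃ q, Fintype.card F = q := ⟨_, rfl⟩
      rw [hqq] at hk hp h4
      have hq2 : q % 2 = 1 := (hp.eq_two_or_odd).resolve_left (by omega)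
      have hg : Nat.gcd 2 (q - 1) = 2 := Nat.gcd_eq_left (by omega)
      by_cases hd8 : 8 ∣ (q - 1) / 2 ∨ 8 ∣ (q + 1) / 2
      · obtain ⟨g, hg'⟩ := Transfer.CIT.exists_orderOf_half e (by omega) (m := 8)
          (by rw [hqq, hg]; exact hd8)
        exact absurd hg'.symm.dvd (h8M g)
      have hk4 : q = 5 ∨ q = 7 := by
        rcases k with _ | _ | _ | _ | k
        · simp only [pow_zero] at hk; omega
        · simp only [zero_add, pow_one] at hk; omega
        · norm_num at hk; omega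
        · norm_num at hk
          rcases hk with hk | hk
          · exact absurd (hk ▸ hp) (by norm_num)
          · omega
        · have : 16 ∣ 2 ^ (k + 1 + 1 + 1 + 1) := ⟨2 ^ k, by ring⟩
          omega
      haveI := Fact.mk hp
      haveI := charP_prime hp (show Fintype.card F = q ^ 1 by rw [hqq, pow_one])
      rcases hk4 with hq5 | hq7
      · let K := GaloisField 2 2
        haveI : Fintype K := Fintype.ofFinite K
        have hK : Fintype.card K = 2 ^ 2 := by
          rw [← Nat.card_eq_fintype_card, GaloisField.card 2 2 two_ne_zero]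
        rw [hqq, hg, hq5] at hc
        norm_num at hc
        obtain ⟨e'⟩ := Block.SpecPSL.iso_psl_even (G := M) (F := K) le_rfl hK
          (by norm_num; omega) (fun x => by
            have ho := psl_order (p := q) (by omega) e x
            rw [hqq, hg, hq5, show (5 - 1) / 2 = 2 by norm_num, show (5 + 1) / 2 = 3 by norm_num] at ho
            norm_num
            tauto)
        exact case60 K inferInstance inferInstance 2 rfl hK ⟨e'⟩
      · rw [hqq, hg, hq7] at hc
        norm_num at hc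
        have hord : ∀ g : M, orderOf g ∣ 7 ∨ orderOf g ∣ 3 ∨ orderOf g ∣ 4 := fun g => by
          have ho := psl_order (p := q) (by omega) e g
          rw [hqq, hg, hq7] at ho
          norm_num at ho
          exact ho
        have h21 : ∀ g : M, orderOf g ≠ 21 := fun g hg => by
          have := hord g; rw [hg] at this; norm_num at this
        obtain ⟨c, hc4⟩ := Transfer.CIT.exists_orderOf_half e (by omega) (m := 4)
          (Or.inr (by rw [hqq, hg, hq7]))
        have hM := top_168 M hX hX3 (by omega) ⟨c, hc4⟩ h21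
        obtain ⟨f⟩ := topEq hM
        obtain ⟨a, ha⟩ := hRcard hM
        have hbot : R = ⊥ := bot_of_seven hcit R hRp (a := 3 + a)
          (by rw [ha, show Nat.card M = 168 by omega, pow_add]; ring) fun g hg => by
            have hd : orderOf (g : G ⧸ R) ∣ 21 := hg ▸ orderOf_map_dvd (QuotientGroup.mk' R) g
            have h1 : (g : G ⧸ R) ^ 3 = 1 ∨ (g : G ⧸ R) ^ 7 = 1 := by
              have ho := hord (f (g : G ⧸ R))
              rw [MulEquiv.orderOf_eq] at ho
              rcases ho with ho | ho | ho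
              · exact Or.inr (orderOf_dvd_iff_pow_eq_one.1 ho)
              · exact Or.inl (orderOf_dvd_iff_pow_eq_one.1 ho)
              · have h1 : orderOf (g : G ⧸ R) ∣ Nat.gcd 4 21 := Nat.dvd_gcd ho hd
                rw [show Nat.gcd 4 21 = 1 by norm_num] at h1
                exact Or.inl (orderOf_dvd_iff_pow_eq_one.1 (h1.trans (one_dvd 3)))
            have hodd : ∀ j, (g : G ⧸ R) ^ j = 1 → g ^ j = 1 := fun j hj => by
              have hm : g ^ j ∈ R := (QuotientGroup.eq_one_iff _).1 (by simpa using hj)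
              obtain ⟨i, hi⟩ := hRp.exists_card_eq
              refine orderOf_eq_one_iff.1 (Nat.eq_one_of_dvd_coprimes ?_ (orderOf_pow_dvd (x := g) j)
                (hi ▸ orderOf_dvd_natCard R hm))
              rw [hg]
              exact (Nat.prime_two.coprime_iff_not_dvd.2 (by norm_num)).symm.pow_right i
            rcases h1 with h1 | h1 <;> have := hg ▸ orderOf_dvd_of_pow_eq_one (hodd _ h1) <;>
              norm_num at this
        obtain ⟨b⟩ := botEq hbot
        exact Or.inr (Or.inr (Or.inl ⟨F, i1, i2, Or.inl (hqq.trans hq7), ⟨b.trans (f.trans e)⟩⟩))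
  · have hcM : Nat.card M = 20160 := by rw [Nat.card_congr e.toEquiv, Spor.M21.natCard_psl hF]
    have hM := top_20160 M hX hX3 hcM (l34_no_twentyone hF e)
    obtain ⟨f⟩ := topEq hM
    obtain ⟨w, z, hw, hz, hwz, hne⟩ := Transfer.CIT.psl34_rank_two hF e
    have hbot : R = ⊥ := bot_of_rank_two hcit R hRp (w := (w : G ⧸ R)) (z := (z : G ⧸ R))
      (by rw [orderOf_coe, hw]) (by rw [orderOf_coe, hz]) (hwz.map M.subtype)
      (fun hm => hne (by
        obtain ⟨i, hi⟩ := mem_zpowers_iff.mp hm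
        exact mem_zpowers_iff.mpr ⟨i, Subtype.ext (by simpa using hi)⟩))
    obtain ⟨b⟩ := botEq hbot
    exact Or.inr (Or.inr (Or.inr (Or.inl ⟨F, i1, i2, hF, ⟨b.trans (f.trans e)⟩⟩)))
  · have hS : Suz.SzField F m := ⟨hm, hF⟩
    let e0 : M ≃* ↥(Cfsg.Sz F m) := e.trans (Suz.szEquiv hS).symm
    obtain ⟨D, hD⟩ := PGCIT.exists_torus_suzuki M hS e0
    have hM : M = ⊤ := PGCIT.top_of_torus hX M D (by
      rw [hD, ← hS.card]; have := Suz.eight_le hS; omega)
    obtain ⟨f⟩ := topEq hM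
    set eX := f.trans e0
    obtain ⟨x, y, hx, hx2, hy, hyx⟩ := sz_four hX hX3 hS eX
    have hbot : R = ⊥ := bot_of_four hcit h3.no_eight R hRp hx hx2 hy hyx
    obtain ⟨b⟩ := botEq hbot
    set eG := b.trans eX
    haveI : IsSimpleGroup ↥(Cfsg.Sz F m) := Suz.isSimple hS
    haveI : Nontrivial G := eG.toEquiv.nontrivial
    have hlenG : ∀ {k : ℕ} (U : Subgroup ↥(Cfsg.Sz F m)), IsCyclic U → Nat.card U = k →
        k.primeFactorsList.length ≤ 2 := by
      intro k U hU hk
      haveI := hU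
      obtain ⟨g, hg⟩ := IsCyclic.exists_ofOrder_eq_natCard (α := U)
      have := h3.length_le (eG.symm (g : ↥(Cfsg.Sz F m)))
      rwa [MulEquiv.orderOf_eq, orderOf_coe, hg, hk] at this
    refine Or.inr (Or.inr (Or.inr (Or.inr ⟨m, hS.1, IsSimpleGroup.isSimpleGroup_of_surjective
      eG.symm.toMonoidHom eG.symm.surjective, ?_, ?_, ?_, ?_⟩)))
    · rw [Nat.card_congr eG.toEquiv, Suz.card_Sz hS]
    · refine hlenG (Suz.torus hS) ?_ (Suz.card_torus hS)
      exact isCyclic_of_surjective (Suz.torHom hS).rangeRestrict (MonoidHom.rangeRestrict_surjective _)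
    · obtain ⟨U, hU, hUc, -, -⟩ := Suz.exceptional_tori hS _ (Or.inr rfl)
      exact hlenG U hU hUc
    · obtain ⟨U, hU, hUc, -, -⟩ := Suz.exceptional_tori hS _ (Or.inl rfl)
      exact hlenG U hU hUc

end Cfsg.Agent.Grp.ThreeOrders
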