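import Mathlib
import Cfsg.Prelude
import Cfsg.Agent.Lib.Grp.ThreeOrders.CoreTool
import Cfsg.Agent.Lib.Transfer.Burnside

/-!
The odd core of a subgroup, as a subgroup of the whole group.
-/

set_option autoImplicit false
set_option linter.style.haveILetI false
set_option linter.unusedSectionVars false

universe u

namespace Cfsg.Agent.Grp.ThreeOrders

open Subgroup
open scoped commutatorElement

variable {G : Type u} [Group G] [Finite G] {r : ℕ}

/-- The odd core of a subgroup. -/
def coreOf (C : Subgroup G) : Subgroup G := (Cfsg.pPrimeCore 2 C).map C.subtype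

theorem coreAt_eq_coreOf (a : G) : coreAt a = coreOf (Subgroup.centralizer ({a} : Set G)) := rfl

theorem coreOf_le (C : Subgroup G) : coreOf C ≤ C := Subgroup.map_subtype_le _

theorem coreOf_odd (C : Subgroup G) : ¬ 2 ∣ Nat.card (coreOf C) := by
  haveI := Fact.mk Nat.prime_two
  rw [coreOf, Subgroup.card_map_of_injective (Subgroup.subtype_injective _)]
  exact pPrimeCore_not_dvd

theorem coreOf_normalized (C : Subgroup G) : C ≤ Subgroup.normalizer (coreOf C : Set G) := by
  intro c hc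
  refine mem_normalizer_fintype ?_
  rintro _ ⟨x, hx, rfl⟩
  haveI : (Cfsg.pPrimeCore 2 C).Normal := pPrimeCore_isNormal
  exact ⟨_, Subgroup.Normal.conj_mem inferInstance x hx ⟨c, hc⟩, rfl⟩

theorem le_coreOf {C K : Subgroup G} (hK : K ≤ C) (hodd : ¬ 2 ∣ Nat.card K)
    (hn : C ≤ Subgroup.normalizer (K : Set G)) : K ≤ coreOf C := by
  haveI : (K.subgroupOf C).Normal := Subgroup.normal_subgroupOf_of_le_normalizer hn
  have h1 := le_pPrimeCore (p := 2) (N := K.subgroupOf C) inferInstance (by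
    rw [Nat.card_congr (Subgroup.subgroupOfEquivOfLe hK).toEquiv]
    exact (Nat.prime_two.coprime_iff_not_dvd.2 hodd).symm)
  exact fun k hk => ⟨⟨k, hK hk⟩, h1 hk, rfl⟩

/-- An automorphism preserving `C` preserves its core. -/
theorem coreOf_map_le (f : G ≃* G) (C : Subgroup G) (hC : ∀ x ∈ C, f x ∈ C) {x : G}
    (hx : x ∈ coreOf C) : f x ∈ coreOf C := by
  have heq : C.map f.toMonoidHom = C := Subgroup.eq_of_le_of_card_ge
    (by rintro _ ⟨y, hy, rfl⟩; exact hC y hy)
    (by rw [Subgroup.card_map_of_injective f.injective])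
  refine le_coreOf (K := (coreOf C).map f.toMonoidHom) ?_ ?_ ?_ ⟨x, hx, rfl⟩
  · rintro _ ⟨y, hy, rfl⟩; exact hC y (coreOf_le C hy)
  · rw [Subgroup.card_map_of_injective f.injective]; exact coreOf_odd C
  · intro c hc
    rw [← heq] at hc
    obtain ⟨d, hd, rfl⟩ := hc
    refine mem_normalizer_fintype ?_
    rintro _ ⟨y, hy, rfl⟩
    refine ⟨d * y * d⁻¹, mem_conj_normalizer (coreOf_normalized C hd) hy, ?_⟩
    simp

theorem normalizer_le_coreOf (C : Subgroup G) :
    Subgroup.normalizer (C : Set G) ≤ Subgroup.normalizer (coreOf C : Set G) := fun g hg =>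
  mem_normalizer_fintype fun x hx => coreOf_map_le (MulAut.conj g) C
    (fun y hy => mem_conj_normalizer hg hy) hx

theorem normalizer_le_centralizer_normalizer (K : Subgroup G) :
    Subgroup.normalizer (K : Set G) ≤
      Subgroup.normalizer (Subgroup.centralizer (K : Set G) : Set G) := by
  intro g hg
  refine mem_normalizer_fintype fun x hx => Subgroup.mem_centralizer_iff.2 fun w hw => ?_
  have := Subgroup.mem_centralizer_iff.1 hx _ (mem_conj_normalizer' hg hw)
  calc w * (g * x * g⁻¹) = g * ((g⁻¹ * w * g) * x) * g⁻¹ := by group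
    _ = g * (x * (g⁻¹ * w * g)) * g⁻¹ := by rw [this]
    _ = _ := by group

theorem TwoR.invariant_le_coreOf (h : TwoR G r) (S : Sylow 2 G) {C : Subgroup G}
    (hsol : Group.IsSolvable C) (hSC : (S : Subgroup G) ≤ C) (K : Subgroup G) (hKC : K ≤ C)
    (hodd : ¬ 2 ∣ Nat.card K) (hSK : (S : Subgroup G) ≤ Subgroup.normalizer (K : Set G)) :
    K ≤ coreOf C := by
  haveI := hsol
  have h1 := (h.subgroup C).invariant_le_core (S.subtype hSC) (K.subgroupOf C)
    (by rw [Nat.card_congr (Subgroup.subgroupOfEquivOfLe hKC).toEquiv]; exact hodd)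
    (by
      intro s hs
      rw [Sylow.coe_subtype, Subgroup.mem_subgroupOf] at hs
      refine Subgroup.mem_normalizer_iff.2 fun k => ?_
      simp only [Subgroup.mem_subgroupOf, Subgroup.coe_mul, InvMemClass.coe_inv]
      exact Subgroup.mem_normalizer_iff.1 (hSK hs) k)
  exact fun k hk => ⟨⟨k, hKC hk⟩, h1 hk, rfl⟩

/-- An element of odd order centralising an involution `a` of an abelian Sylow 2-subgroup of order
four lies in the core of `C(a)`. -/
theorem TwoR.mem_coreAt_of_odd (h : TwoR G r) (S : Sylow 2 G)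
    (h4 : Nat.card (S : Subgroup G) = 4) {a : G} (haS : a ∈ (S : Subgroup G)) (ha : orderOf a = 2)
    {x : G} (hx : x ∈ Subgroup.centralizer ({a} : Set G)) (hodd : ¬ 2 ∣ orderOf x) :
    x ∈ coreAt a := by
  haveI := Fact.mk Nat.prime_two
  haveI := h.solvable_of_le_centralizer (Or.inl ha)
    (le_refl (Subgroup.centralizer ({a} : Set G)))
  set C := Subgroup.centralizer ({a} : Set G) with hC
  have hSC : (S : Subgroup G) ≤ C := h.sylow_le_centralizer S haS
  set T := Cfsg.pPrimeCore 2 C with hT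
  haveI : T.Normal := pPrimeCore_isNormal
  obtain ⟨hn, hc⟩ := (h.subgroup C).core_quotient (S.subtype hSC)
  set q := QuotientGroup.mk' T with hq
  set S' := ((S.subtype hSC : Sylow 2 C) : Subgroup C).map q with hS'
  set ξ : C := ⟨x, hx⟩ with hξ
  have hoq : ¬ 2 ∣ orderOf (q ξ) := fun hd => hodd (hd.trans ((orderOf_map_dvd q ξ).trans
    (by rw [← Subgroup.orderOf_coe])))
  have ha' : q ⟨a, hSC haS⟩ ∈ S' := ⟨_, by rw [Sylow.coe_subtype]; exact Subgroup.mem_subgroupOf.2 haS, rfl⟩
  have hS'c : Nat.card S' ∣ 4 := by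
    refine (Subgroup.card_map_dvd _ q).trans ?_
    rw [Sylow.coe_subtype, Nat.card_congr (Subgroup.subgroupOfEquivOfLe hSC).toEquiv, h4]
  have hcomm : Commute (q ξ) (q ⟨a, hSC haS⟩) :=
    (show Commute ξ ⟨a, hSC haS⟩ from
      Subtype.ext (Subgroup.mem_centralizer_singleton_iff.1 hx)).map q
  have hS'p : IsPGroup 2 S' := ((S.subtype hSC).isPGroup').map q
  haveI hS'ab := ((h.subgroup C).quotient T).two_group_comm hS'p
  -- `q x` centralises `S'`
  have hcen : q ξ ∈ Subgroup.centralizer (S' : Set (C ⧸ T)) := by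
    rw [Subgroup.mem_centralizer_iff]
    intro s hs
    by_cases hs1 : s ∈ Subgroup.zpowers (q ⟨a, hSC haS⟩)
    · obtain ⟨i, rfl⟩ := Subgroup.mem_zpowers_iff.1 hs1
      exact ((hcomm.zpow_right i).eq).symm
    -- two conjugations fix `s`
    have key : ∀ t ∈ S', t ∉ Subgroup.zpowers (q ⟨a, hSC haS⟩) → q ξ * t * (q ξ)⁻¹ ≠ t →
        q ξ * t * (q ξ)⁻¹ = q ⟨a, hSC haS⟩ * t := by
      intro t ht htz hne
      have hta : q ξ * t * (q ξ)⁻¹ ∈ S' := hn.conj_mem _ ht _
      have htn : q ξ * t * (q ξ)⁻¹ ∉ Subgroup.zpowers (q ⟨a, hSC haS⟩) := fun e => htz (by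
        obtain ⟨i, hi⟩ := Subgroup.mem_zpowers_iff.1 e
        refine Subgroup.mem_zpowers_iff.2 ⟨i, ?_⟩
        rw [show t = (q ξ)⁻¹ * (q ξ * t * (q ξ)⁻¹) * q ξ by group, ← hi,
          (hcomm.zpow_right i).inv_left.eq, inv_mul_cancel_right])
      set Z := Subgroup.zpowers (q ⟨a, hSC haS⟩) with hZ
      have hZS : Z ≤ S' := Subgroup.zpowers_le.2 ha'
      have hd : Nat.card S' / Nat.card Z ≤ 2 ∨ q ⟨a, hSC haS⟩ = 1 := by
        by_cases h1 : q ⟨a, hSC haS⟩ = 1
        · exact Or.inr h1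
        · left
          have : Nat.card Z = 2 := by
            rw [hZ, Nat.card_zpowers]
            refine orderOf_eq_prime ?_ h1
            rw [← map_pow, show (⟨a, hSC haS⟩ : C) ^ 2 = 1 from Subtype.ext (by
              simpa [ha] using pow_orderOf_eq_one a), map_one]
          rw [this]
          have := Nat.le_of_dvd (by norm_num) hS'c
          omega
      rcases hd with hd | h1
      · have hcz : Nat.card (Z.subgroupOf S') = Nat.card Z :=
          Nat.card_congr (Subgroup.subgroupOfEquivOfLe hZS).toEquiv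
        have hi := (Z.subgroupOf S').card_mul_index
        rw [hcz] at hi
        rw [← hi, Nat.mul_div_cancel_left _ Nat.card_pos] at hd
        have hi2 : (Z.subgroupOf S').index = 2 := by
          refine le_antisymm hd ?_
          by_contra hlt
          have h0 : (Z.subgroupOf S').index ≠ 0 := Subgroup.index_ne_zero_of_finite
          have h1 : (Z.subgroupOf S').index = 1 := by omega
          rw [Subgroup.index_eq_one, Subgroup.subgroupOf_eq_top] at h1
          exact htz (h1 ht)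
        have hm := (Subgroup.mul_mem_iff_of_index_two hi2 (a := ⟨_, hta⟩) (b := ⟨t, ht⟩)).2
          (by simp only [Subgroup.mem_subgroupOf]; exact iff_of_false htn htz)
        rw [Subgroup.mem_subgroupOf] at hm
        have ha2 : (q ⟨a, hSC haS⟩) ^ 2 = 1 := by
          rw [← map_pow, show (⟨a, hSC haS⟩ : C) ^ 2 = 1 from Subtype.ext (by
            simpa [ha] using pow_orderOf_eq_one a), map_one]
        have ht2 : t * t = 1 := ((h.subgroup C).quotient T).two_group_sq hS'p ht
        obtain ⟨i, hi⟩ := Subgroup.mem_zpowers_iff.1 hm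
        simp only [Subgroup.coe_mul] at hi
        rcases Int.even_or_odd i with ⟨j, rfl⟩ | ⟨j, rfl⟩
        · exfalso
          rw [← two_mul, zpow_mul, zpow_ofNat, ha2, one_zpow] at hi
          exact hne ((eq_inv_of_mul_eq_one_left hi.symm).trans (inv_eq_of_mul_eq_one_right ht2))
        · rw [zpow_add, zpow_mul, zpow_ofNat, ha2, one_zpow, one_mul, zpow_one] at hi
          calc q ξ * t * (q ξ)⁻¹ = q ξ * t * (q ξ)⁻¹ * (t * t) := by rw [ht2, mul_one]
            _ = (q ξ * t * (q ξ)⁻¹ * t) * t := by group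
            _ = _ := by rw [← hi]
      · -- the centraliser of `a` lies in the core
        exfalso
        have haT : (⟨a, hSC haS⟩ : C) ∈ T := (QuotientGroup.eq_one_iff _).1 h1
        exact pPrimeCore_not_dvd (p := 2) (G := C)
          (show 2 ∣ Nat.card T by
            have := Subgroup.orderOf_dvd_natCard T haT
            rwa [← Subgroup.orderOf_coe, ha] at this)
    have h2 : (q ξ) ^ 2 * s * ((q ξ) ^ 2)⁻¹ = s := by
      by_cases hne : q ξ * s * (q ξ)⁻¹ = s
      · calc (q ξ) ^ 2 * s * ((q ξ) ^ 2)⁻¹ = q ξ * (q ξ * s * (q ξ)⁻¹) * (q ξ)⁻¹ := by rw [sq]; group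
          _ = s := by rw [hne, hne]
      · have e := key s hs hs1 hne
        have ha2 : q ⟨a, hSC haS⟩ * q ⟨a, hSC haS⟩ = 1 :=
          ((h.subgroup C).quotient T).two_group_sq hS'p ha'
        calc (q ξ) ^ 2 * s * ((q ξ) ^ 2)⁻¹ = q ξ * (q ξ * s * (q ξ)⁻¹) * (q ξ)⁻¹ := by rw [sq]; group
          _ = q ξ * (q ⟨a, hSC haS⟩ * s) * (q ξ)⁻¹ := by rw [e]
          _ = (q ξ * q ⟨a, hSC haS⟩ * (q ξ)⁻¹) * (q ξ * s * (q ξ)⁻¹) := by group
          _ = _ := by rw [e, hcomm.eq, mul_inv_cancel_right, ← mul_assoc, ha2, one_mul]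
    obtain ⟨j, hj⟩ : ∃ j, orderOf (q ξ) = 2 * j + 1 := ⟨orderOf (q ξ) / 2, by omega⟩
    have hxx : ((q ξ) ^ 2) ^ (j + 1) = q ξ := by
      rw [← pow_mul, show 2 * (j + 1) = orderOf (q ξ) + 1 by omega, pow_succ, pow_orderOf_eq_one, one_mul]
    have hc2 : Commute ((q ξ) ^ 2) s := mul_inv_eq_iff_eq_mul.1 h2
    exact (hxx ▸ hc2.pow_left (j + 1)).eq.symm
  have hmem : q ξ ∈ S' := hc hcen
  have h1 : q ξ = 1 := by
    obtain ⟨k, hk⟩ := IsPGroup.iff_orderOf.1 hS'p ⟨_, hmem⟩
    rw [Subgroup.orderOf_mk] at hk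
    rcases k with _ | k
    · rwa [pow_zero, orderOf_eq_one_iff] at hk
    · exact absurd (hk ▸ dvd_pow_self 2 k.succ_ne_zero) hoq
  exact ⟨ξ, (QuotientGroup.eq_one_iff ξ).1 h1, rfl⟩

end Cfsg.Agent.Grp.ThreeOrders
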