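import Mathlib
import Cfsg.Prelude
import Cfsg.Agent.Lib.Grp.ThreeOrders.SEBasic

/-!
The case that `N(S)` is a `{2, r}`-group.
-/

set_option autoImplicit false
set_option linter.style.haveILetI false
set_option linter.unusedSectionVars false

universe u

namespace Cfsg.Agent.Grp.ThreeOrders

open Subgroup
open scoped commutatorElement

variable {G : Type u} [Group G] [Finite G] {r : ℕ} {S : Sylow 2 G}

theorem eq_one_of_pow_add_one {r j n : ℕ} (hr : 2 < r) (hodd : r % 2 = 1) (hn : 2 ≤ n)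
    (h : r ^ j + 1 = 2 ^ n) : j = 1 := by
  have h4 : 4 ∣ 2 ^ n := ⟨2 ^ (n - 2), by
    rw [show (4 : ℕ) = 2 ^ 2 by norm_num, ← pow_add]; congr 1; omega⟩
  rcases Nat.even_or_odd j with ⟨k, rfl⟩ | ⟨k, rfl⟩
  · exfalso
    have h1 : r ^ k % 2 = 1 := by rw [Nat.pow_mod, hodd]; simp
    obtain ⟨b, hb⟩ : ∃ b, r ^ k = 2 * b + 1 := ⟨r ^ k / 2, by omega⟩
    rw [pow_add, hb] at h
    have : (2 * b + 1) * (2 * b + 1) = 4 * (b * b + b) + 1 := by ring
    obtain ⟨d, hd⟩ := h4
    omega
  · have hrj : r + 1 ∣ r ^ (2 * k + 1) + 1 := by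
      have := Odd.nat_add_dvd_pow_add_pow r 1 (n := 2 * k + 1) ⟨k, rfl⟩
      simpa using this
    obtain ⟨i, -, hi⟩ := (Nat.dvd_prime_pow Nat.prime_two).1 (h ▸ hrj)
    have hi1 : 1 ≤ i := by
      by_contra hi0
      have : i = 0 := by omega
      rw [this, pow_zero] at hi
      omega
    by_contra hk
    have hni : i + 1 ≤ n := by
      by_contra hlt
      have hle : 2 ^ n ≤ 2 ^ i := Nat.pow_le_pow_right (by norm_num) (by omega)
      have h2 : r ^ 2 ≤ r ^ (2 * k + 1) := Nat.pow_le_pow_right (by omega) (by omega)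
      have : r < r ^ 2 := by rw [sq]; nlinarith
      omega
    have hsq : r ^ 2 ≡ 1 [MOD 2 ^ (i + 1)] := by
      refine ((Nat.modEq_iff_dvd' (Nat.one_le_pow _ _ (by omega))).2 ?_).symm
      refine ⟨2 ^ (i - 1) - 1, ?_⟩
      have e1 : 2 ^ i = 2 * 2 ^ (i - 1) := by
        rw [← pow_succ']; congr 1; omega
      have hp : 1 ≤ 2 ^ (i - 1) := Nat.one_le_two_pow
      obtain ⟨b, hb⟩ : ∃ b, 2 ^ (i - 1) = b + 1 := ⟨2 ^ (i - 1) - 1, by omega⟩
      have hr' : r = 2 * b + 1 := by omega
      rw [pow_succ 2 i, e1, hb, hr', Nat.add_sub_cancel, sq]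
      have : (2 * b + 1) * (2 * b + 1) = 2 * (b + 1) * 2 * b + 1 := by ring
      omega
    have hmod : r ^ (2 * k + 1) + 1 ≡ r + 1 [MOD 2 ^ (i + 1)] := by
      have h0 : r ^ (2 * k + 1) ≡ 1 * r [MOD 2 ^ (i + 1)] := by
        rw [pow_succ r (2 * k), pow_mul]
        exact (by simpa using hsq.pow k : (r ^ 2) ^ k ≡ 1 [MOD 2 ^ (i + 1)]).mul_right r
      rw [one_mul] at h0
      exact h0.add_right 1
    rw [h, hi] at hmod
    have hd : 2 ^ (i + 1) ∣ 2 ^ n := Nat.pow_dvd_pow 2 hni
    have h0 : 2 ^ i % 2 ^ (i + 1) = 0 := by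
      rw [← hmod, Nat.mod_eq_zero_of_dvd hd]
    rw [Nat.mod_eq_of_lt (Nat.pow_lt_pow_right (by norm_num) (by omega))] at h0
    exact absurd h0 (by positivity)

namespace SEHyp

variable (c : SEHyp G r S)
include c

/-- The odd core of `C(a)` when `C(a)` centralises `S`. -/
theorem core_facts (hfull : ∀ a ∈ (S : Subgroup G), a ≠ 1 →
      Subgroup.centralizer ({a} : Set G) ≤ Subgroup.centralizer ((S : Subgroup G) : Set G))
    {a : G} (ha : a ∈ (S : Subgroup G)) (ha1 : a ≠ 1) :
    coreAt a ≤ Subgroup.centralizer ((S : Subgroup G) : Set G) ∧ IsPGroup r (coreAt a) ∧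
      nS S ≤ Subgroup.normalizer (coreAt a : Set G) ∧
      ∀ x ∈ Subgroup.centralizer ((S : Subgroup G) : Set G), ¬ 2 ∣ orderOf x → x ∈ coreAt a := by
  have hle := (coreAt_le a).trans (hfull a ha ha1)
  have hsol := c.twoR.solvable_of_le_centralizer (Or.inl (c.orderOf_two ha ha1))
    (le_refl (Subgroup.centralizer ({a} : Set G)))
  have hSC := c.twoR.sylow_le_centralizer S ha
  have hSK : ∀ K : Subgroup G, K ≤ Subgroup.centralizer ((S : Subgroup G) : Set G) →
      (S : Subgroup G) ≤ Subgroup.normalizer (K : Set G) := by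
    intro K hK s hs
    refine mem_normalizer_fintype fun k hk => ?_
    rw [show s * k = k * s from Subgroup.mem_centralizer_iff.1 (hK hk) s hs, mul_inv_cancel_right]
    exact hk
  have hKa : ∀ K : Subgroup G, K ≤ Subgroup.centralizer ((S : Subgroup G) : Set G) →
      K ≤ Subgroup.centralizer ({a} : Set G) := fun K hK => hK.trans
    (Subgroup.centralizer_le (Set.singleton_subset_iff.2 ha))
  refine ⟨hle, ?_, ?_, ?_⟩
  · exact c.twoR.invariant_isPGroup (S : Subgroup G) _ S.isPGroup'
      (c.twoR.not_cyclic c.nonsolvable S) (hSK _ hle) (coreAt_odd a)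
  · intro n hn
    refine mem_normalizer_fintype fun x hx => ?_
    have hb : n * a * n⁻¹ ∈ (S : Subgroup G) := mem_conj_normalizer hn ha
    have hb1 : n * a * n⁻¹ ≠ 1 := fun e => ha1 (conj_eq_one_iff.1 e)
    have hbC := (coreAt_le (n * a * n⁻¹)).trans (hfull _ hb hb1)
    exact c.twoR.invariant_le_coreAt S hsol hSC _ (hKa _ hbC) (coreAt_odd _) (hSK _ hbC)
      (coreAt_conj_le a n ⟨x, hx, rfl⟩)
  · intro x hx ho
    have hz : Subgroup.zpowers x ≤ Subgroup.centralizer ((S : Subgroup G) : Set G) :=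
      Subgroup.zpowers_le.2 hx
    exact c.twoR.invariant_le_coreAt S hsol hSC _ (hKa _ hz)
      (by rwa [Nat.card_zpowers]) (hSK _ hz) (Subgroup.mem_zpowers x)

/-- An element of order `r` commuting with an involution of `S`. -/
theorem exists_mixed [IsSimpleGroup G] :
    ∃ a ∈ (S : Subgroup G), a ≠ 1 ∧ ∃ x ∈ Subgroup.centralizer ({a} : Set G), orderOf x = r := by
  obtain ⟨g, hg⟩ := c.mixed
  obtain ⟨a, ha, ha1⟩ := c.exists_mem
  have ht : orderOf (g ^ r) = 2 := by
    rw [orderOf_pow, hg, Nat.gcd_eq_right (dvd_mul_left r 2), Nat.mul_div_cancel _ c.twoR.prime.pos]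
  have hx : orderOf (g ^ 2) = r := by
    rw [orderOf_pow, hg, Nat.gcd_eq_right (dvd_mul_right 2 r), Nat.mul_div_cancel_left _ Nat.two_pos]
  obtain ⟨k, hk⟩ := isConj_iff.1 (Invol.isConj_involutions c.se ht (c.orderOf_two ha ha1))
  refine ⟨a, ha, ha1, k * g ^ 2 * k⁻¹, ?_, by rw [Invol.orderOf_conj_eq, hx]⟩
  rw [Subgroup.mem_centralizer_singleton_iff, ← hk]
  exact ((Commute.pow_pow_self g 2 r).map (MulAut.conj k)).eq

theorem one_absurd [IsSimpleGroup G]
    (honly : ∀ y ∈ nS S, ∀ ℓ : ℕ, ℓ.Prime → ℓ ∣ orderOf y → ℓ = 2 ∨ ℓ = r) : False := by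
  classical
  haveI := Fact.mk Nat.prime_two
  haveI := Fact.mk c.twoR.prime
  have hr2 : 2 < r := lt_of_le_of_ne c.twoR.prime.two_le (Ne.symm c.twoR.ne_two)
  have hrodd : r % 2 = 1 := c.twoR.prime.mod_two_eq_one_iff_ne_two.2 c.twoR.ne_two
  obtain ⟨a₀, ha₀, ha₀1⟩ := c.exists_mem
  -- `|S| = r + 1`
  have hq : Nat.card (S : Subgroup G) = r + 1 := by
    have h := c.card_trans (K := nS S) le_rfl ha₀ ha₀1 fun b hb hb1 => c.trans_nS ha₀ ha₀1 hb hb1
    obtain ⟨n, hn⟩ := S.isPGroup'.exists_card_eq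
    have h4 := c.four_le
    have hn2 : 2 ≤ n := by
      by_contra hlt
      have h2 : 2 ^ n ≤ 2 ^ 1 := Nat.pow_le_pow_right (by norm_num) (by omega)
      rw [pow_one] at h2
      omega
    have hpar : 2 ∣ 2 ^ n := dvd_pow_self 2 (by omega)
    have hpow : Nat.card (S : Subgroup G) - 1 =
        r ^ (Nat.card (S : Subgroup G) - 1).primeFactorsList.length := by
      refine Nat.eq_prime_pow_of_unique_prime_dvd (by omega) fun {ℓ} hℓ hd => ?_
      haveI := Fact.mk hℓ
      obtain ⟨y, hy⟩ := exists_prime_orderOf_dvd_card' (G := nS S) ℓ (h ▸ hd.mul_right _)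
      rw [← Subgroup.orderOf_coe] at hy
      rcases honly y y.2 ℓ hℓ (by rw [hy]) with e | e
      · exfalso
        rw [e, hn] at hd
        omega
      · exact e
    have hj := eq_one_of_pow_add_one hr2 hrodd hn2 (by rw [← hpow, hn]; omega)
    rw [hj, pow_one] at hpow
    omega
  -- an element of order `r` fixing an involution of `S` centralises `S`
  have hfix : ∀ a ∈ (S : Subgroup G), a ≠ 1 → ∀ x ∈ nS S, orderOf x = r → Commute x a →
      x ∈ Subgroup.centralizer ((S : Subgroup G) : Set G) := by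
    intro a ha ha1 x hx hxo hxa
    rw [Subgroup.mem_centralizer_iff]
    intro s hs
    by_contra hne
    haveI := Fintype.ofFinite G
    let f : Fin r → G := fun i => x ^ (i : ℕ) * s * (x ^ (i : ℕ))⁻¹
    have hcases : ∀ i j : Fin r, f i = f j → (i : ℕ) ≤ j → i = j := by
      intro i j e hij
      by_contra hne'
      have hlt : (i : ℕ) < j := lt_of_le_of_ne hij fun e' => hne' (Fin.ext e')
      obtain ⟨k, hk⟩ : ∃ k, (j : ℕ) = i + k := ⟨j - i, by omega⟩
      have hk0 : 0 < k := by omega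
      have hkr : k < r := by have := j.2; omega
      have h1 : x ^ k * s * (x ^ k)⁻¹ = s := by
        simp only [f] at e
        rw [hk, pow_add] at e
        calc x ^ k * s * (x ^ k)⁻¹
            = (x ^ (i : ℕ))⁻¹ * (x ^ (i : ℕ) * x ^ k * s * (x ^ (i : ℕ) * x ^ k)⁻¹) * x ^ (i : ℕ) := by
              group
          _ = (x ^ (i : ℕ))⁻¹ * (x ^ (i : ℕ) * s * (x ^ (i : ℕ))⁻¹) * x ^ (i : ℕ) := by rw [← e]
          _ = s := by group
      have hz : x ∈ Subgroup.zpowers (x ^ k) := by
        rw [mem_zpowers_pow_iff, hxo, ← Nat.coprime_iff_gcd_eq_one]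
        exact Nat.Coprime.symm (c.twoR.prime.coprime_iff_not_dvd.2
          fun hd => absurd (Nat.le_of_dvd hk0 hd) (by omega))
      obtain ⟨l, hl⟩ := Subgroup.mem_zpowers_iff.1 hz
      have hcm : Commute (x ^ k) s := mul_inv_eq_iff_eq_mul.1 h1
      exact hne ((hl ▸ hcm.zpow_left l : Commute x s).eq.symm)
    have hinj : Function.Injective f := fun i j e => by
      rcases le_total (i : ℕ) j with h | h
      · exact hcases i j e h
      · exact (hcases j i e.symm h).symm
    have hsub : Finset.univ.image f ⊆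
        ((Finset.univ.filter (· ∈ (S : Subgroup G))).erase 1).erase a := by
      intro y hy
      obtain ⟨i, -, rfl⟩ := Finset.mem_image.1 hy
      simp only [Finset.mem_erase, Finset.mem_filter, Finset.mem_univ, true_and]
      refine ⟨fun e => ?_, fun e => ?_, mem_conj_normalizer ((nS S).pow_mem hx _) hs⟩
      · apply hne
        have hcm := hxa.pow_left (i : ℕ)
        have h2 : s = a := by
          calc s = (x ^ (i : ℕ))⁻¹ * f i * x ^ (i : ℕ) := by simp only [f]; group
            _ = (x ^ (i : ℕ))⁻¹ * a * x ^ (i : ℕ) := by rw [e]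
            _ = a := by rw [mul_assoc, ← hcm.eq, inv_mul_cancel_left]
        rw [h2]
        exact hxa.eq.symm
      · apply hne
        rw [conj_eq_one_iff.1 e]
        simp
    have hcard := Finset.card_le_card hsub
    rw [Finset.card_image_of_injective _ hinj, Finset.card_univ, Fintype.card_fin,
      Finset.card_erase_of_mem (by
        simp only [Finset.mem_erase, Finset.mem_filter, Finset.mem_univ, true_and]; exact ⟨ha1, ha⟩),
      Finset.card_erase_of_mem (by simp [one_mem])] at hcard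
    have hS' : (Finset.univ.filter (· ∈ (S : Subgroup G))).card = r + 1 := by
      rw [← hq, Nat.card_eq_fintype_card, Fintype.card_subtype]
    rw [hS'] at hcard
    omega
  have hfull : ∀ a ∈ (S : Subgroup G), a ≠ 1 →
      Subgroup.centralizer ({a} : Set G) ≤ Subgroup.centralizer ((S : Subgroup G) : Set G) := by
    intro a ha ha1 x hx
    refine Transfer.prime_parts x _ fun ℓ hℓ y ⟨k, hk⟩ hyx => ?_
    have hyC : y ∈ Subgroup.centralizer ({a} : Set G) := (Subgroup.zpowers_le.2 hx) hyx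
    have hyN : y ∈ nS S := c.cent a ha ha1 hyC
    have hya : Commute y a := Subgroup.mem_centralizer_singleton_iff.1 hyC
    rcases k with _ | _ | k
    · rw [pow_zero, orderOf_eq_one_iff] at hk; rw [hk]; exact one_mem _
    · rw [pow_one] at hk
      rcases honly y hyN ℓ hℓ (by rw [hk]) with e | e
      · subst e
        have hyS := c.inv_mem hyN hk
        exact Subgroup.mem_centralizer_iff.2 fun s hs => c.comm hs hyS
      · exact hfix a ha ha1 y hyN (hk.trans e) hya
    · exfalso
      rcases honly y hyN ℓ hℓ (hk ▸ dvd_pow_self ℓ (by omega)) with rfl | e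
      · exact (c.twoR.not_sq_dvd y).1 (hk ▸ ⟨2 ^ k, by ring⟩)
      · exact (c.twoR.not_sq_dvd y).2 (e ▸ hk ▸ ⟨ℓ ^ k, by ring⟩)
  -- the element inverted from outside
  obtain ⟨v, hv, hvN⟩ := c.exists_outside
  obtain ⟨d, hdN, hd1, hdinv, hdodd⟩ := c.exists_inverted hv hvN
  have hd : orderOf d = r := by
    obtain ⟨k, hk⟩ : ∃ k, orderOf d = r ^ k := ⟨_, Nat.eq_prime_pow_of_unique_prime_dvd
      (orderOf_pos d).ne' fun {ℓ} hℓ hd => (honly d hdN ℓ hℓ hd).resolve_left fun e => hdodd (e ▸ hd)⟩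
    rcases k with _ | _ | k
    · rw [pow_zero, orderOf_eq_one_iff] at hk; exact absurd hk hd1
    · rwa [pow_one] at hk
    · exact absurd (hk ▸ ⟨r ^ k, by ring⟩) (c.twoR.not_sq_dvd d).2
  have hdS : d ∉ Subgroup.centralizer ((S : Subgroup G) : Set G) := fun hm => hvN
    (c.not_inverted hd (fun s hs =>
      Subgroup.mem_centralizer_singleton_iff.2 (Subgroup.mem_centralizer_iff.1 hm s hs)) hdinv)
  -- an element of the core commuting with `d`
  obtain ⟨a, ha, ha1, x, hx, hxr⟩ := c.exists_mixed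
  obtain ⟨hPC, hPr, hPN, hPodd⟩ := c.core_facts hfull ha ha1
  have hxP : x ∈ coreAt a := hPodd x (hfull a ha ha1 hx) (by
    rw [hxr]; intro h2; omega)
  have hrP : r ∣ Nat.card (coreAt a) := hxr ▸ Subgroup.orderOf_dvd_natCard _ hxP
  obtain ⟨e, heP, he1, hde⟩ : ∃ e ∈ coreAt a, e ≠ 1 ∧ Commute d e := by
    let φ : Subgroup.zpowers d →* MulAut (coreAt a) :=
      (Subgroup.normalizerMonoidHom (coreAt a)).comp
        (Subgroup.inclusion (Subgroup.zpowers_le.mpr (hPN hdN)))
    letI : MulAction (Subgroup.zpowers d) (coreAt a) := MulAction.compHom _ φ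
    have hP : IsPGroup r (Subgroup.zpowers d) :=
      IsPGroup.of_card (n := 1) (by rw [Nat.card_zpowers, hd, pow_one])
    obtain ⟨b, hb, hb1⟩ := hP.exists_fixed_point_of_prime_dvd_card_of_fixed_point (coreAt a) hrP
      (a := (1 : coreAt a)) (fun g => map_one (φ g))
    have h := congrArg Subtype.val (hb ⟨d, Subgroup.mem_zpowers d⟩)
    change d * (b : G) * d⁻¹ = b at h
    exact ⟨b, b.2, fun e => hb1 (Subtype.ext e.symm), mul_inv_eq_iff_eq_mul.mp h⟩
  have heS := hPC heP
  have he : orderOf e = r :=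
    orderOf_eq_prime (c.twoR.r_group_pow hPr heP) he1
  -- the centraliser of `d` is inverted by `v`
  set K := Subgroup.centralizer ({d} : Set G) with hK
  have hKv : ∀ k ∈ K, v * k * v⁻¹ ∈ K := by
    intro k hk
    rw [hK, Subgroup.mem_centralizer_singleton_iff] at hk ⊢
    have hd' : d = v * d⁻¹ * v⁻¹ := by
      calc d = (d⁻¹)⁻¹ := (inv_inv d).symm
        _ = (v * d * v⁻¹)⁻¹ := by rw [hdinv]
        _ = _ := by group
    have hk' : k * d⁻¹ = d⁻¹ * k := (Commute.inv_right hk : Commute k d⁻¹)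
    calc v * k * v⁻¹ * d = v * k * v⁻¹ * (v * d⁻¹ * v⁻¹) := by rw [← hd']
      _ = v * (k * d⁻¹) * v⁻¹ := by group
      _ = v * (d⁻¹ * k) * v⁻¹ := by rw [hk']
      _ = (v * d⁻¹ * v⁻¹) * (v * k * v⁻¹) := by group
      _ = _ := by rw [← hd']
  -- `d` normalises no conjugate of `S` containing `v`
  have hflip : ∀ g : G, d ∈ nS (g • S) → v ∈ ((g • S : Sylow 2 G) : Subgroup G) → False := by
    intro g hdN' hvT
    have h1 : v * (d * v⁻¹ * d⁻¹) ∈ ((g • S : Sylow 2 G) : Subgroup G) :=
      mul_mem hvT (mem_conj_normalizer hdN' (Subgroup.inv_mem _ hvT))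
    rw [← mul_assoc, ← mul_assoc, hdinv] at h1
    have h2 := (c.conj g).mul_self h1
    have : orderOf d ∣ 4 := orderOf_dvd_of_pow_eq_one (by
      rw [← inv_inj, inv_one, ← inv_pow]
      simpa [pow_succ, mul_assoc] using h2)
    rw [hd] at this
    have := Nat.le_of_dvd (by norm_num) this
    interval_cases r <;> omega
  have hfpf : ∀ k ∈ K, Commute k v → k = 1 := by
    intro k hk hkv
    by_contra hk1
    have hkd : Commute k d := Subgroup.mem_centralizer_singleton_iff.1 hk
    -- a conjugate Sylow subgroup containing `v`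
    obtain ⟨g, hg⟩ := isConj_iff.1 (Invol.isConj_involutions c.se (c.orderOf_two ha₀ ha₀1) hv)
    have hvT : v ∈ ((g • S : Sylow 2 G) : Subgroup G) := by
      rw [mem_smul_sylow, ← hg]; simpa [mul_assoc] using ha₀
    by_cases h2 : 2 ∣ orderOf k
    · -- an involution commuting with `d`
      set w := k ^ (orderOf k / 2) with hw
      have hwo : orderOf w = 2 := orderOf_pow_orderOf_div (orderOf_pos k).ne' h2
      have hwd : Commute d w := hkd.symm.pow_right _
      have hwv : Commute w v := hkv.pow_left _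
      have hwS := (c.conj g).inv_mem
        ((c.conj g).cent v hvT (Invol.ne_one_of_orderOf_two hv)
          (Subgroup.mem_centralizer_singleton_iff.2 hwv.eq)) hwo
      exact hflip g ((c.conj g).cent w hwS (Invol.ne_one_of_orderOf_two hwo)
        (Subgroup.mem_centralizer_singleton_iff.2 hwd.eq)) hvT
    · have hkv' : g⁻¹ * k * g ∈ Subgroup.centralizer ({g⁻¹ * v * g} : Set G) :=
        Subgroup.mem_centralizer_singleton_iff.2 (by
          simpa [mul_assoc] using (hkv.map (MulAut.conj g⁻¹)).eq)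
      have hks := hfull (g⁻¹ * v * g) ((mem_smul_sylow g S).1 hvT)
        (fun e' => Invol.ne_one_of_orderOf_two hv (by
          calc v = g * (g⁻¹ * v * g) * g⁻¹ := by group
            _ = 1 := by rw [e']; group)) hkv'
      have hko : orderOf k = r := orderOf_eq_prime (c.pow_r hv hkv h2) hk1
      have hdN' := (c.conj g).cent_le (x := k) (Or.inr hko) (fun s hs => by
        rw [mem_smul_sylow] at hs
        rw [Subgroup.mem_centralizer_singleton_iff]
        have := Subgroup.mem_centralizer_iff.1 hks _ hs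
        calc s * k = g * ((g⁻¹ * s * g) * (g⁻¹ * k * g)) * g⁻¹ := by group
          _ = g * ((g⁻¹ * k * g) * (g⁻¹ * s * g)) * g⁻¹ := by rw [this]
          _ = k * s := by group) (Subgroup.mem_centralizer_singleton_iff.2 hkd.symm.eq)
      exact hflip g hdN' hvT
  have heinv := inverts_of_fpf K (Invol.mul_self_of_orderOf_two hv) hKv hfpf
    (n := e) (Subgroup.mem_centralizer_singleton_iff.2 hde.symm.eq)
  exact hvN (c.not_inverted he
    (fun s hs => Subgroup.mem_centralizer_singleton_iff.2 (Subgroup.mem_centralizer_iff.1 heS s hs))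
    heinv)

end SEHyp

end Cfsg.Agent.Grp.ThreeOrders
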