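import Mathlib
import Cfsg.Prelude
import Cfsg.Agent.Lib.Grp.ThreeOrders.SEOne

/-!
The mixed case: the structure of `N(S)`.
-/

set_option autoImplicit false
set_option linter.style.haveILetI false
set_option linter.unusedSectionVars false

universe u

namespace Cfsg.Agent.Grp.ThreeOrders

open Subgroup
open scoped commutatorElement

variable {G : Type u} [Group G] [Finite G] {r : ℕ} {S : Sylow 2 G}

/-- `N(S) = S H`, `H = H₀ ⟨x⟩`, `H₀` semiregular of order `|S| - 1`. -/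
structure SEStruct (r : ℕ) (S : Sylow 2 G) (H H₀ : Subgroup G) : Prop where
  H_le : H ≤ nS S
  H_odd : ¬ 2 ∣ Nat.card H
  decomp : ∀ n ∈ nS S, ∃ s ∈ (S : Subgroup G), ∃ h ∈ H, n = s * h
  H₀_le : H₀ ≤ H
  normal : H ≤ Subgroup.normalizer (H₀ : Set G)
  card_H₀ : Nat.card H₀ = Nat.card (S : Subgroup G) - 1
  card_H : Nat.card H = r * (Nat.card (S : Subgroup G) - 1)
  coprime : ¬ r ∣ Nat.card (S : Subgroup G) - 1
  semireg : ∀ a ∈ (S : Subgroup G), a ≠ 1 → ∀ h ∈ H₀, Commute h a → h = 1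
  mem₀ : ∀ h ∈ H, (orderOf h).Coprime r → h ∈ H₀

namespace SEHyp

variable (c : SEHyp G r S)
include c

theorem exists_struct [IsSimpleGroup G]
    (hx : ∃ x ∈ nS S, orderOf x = r ∧ x ∉ Subgroup.centralizer ((S : Subgroup G) : Set G))
    (hy : ∃ y ∈ nS S, ∃ ℓ : ℕ, ℓ.Prime ∧ ℓ ∣ orderOf y ∧ ℓ ≠ 2 ∧ ℓ ≠ r) :
    ∃ H H₀ : Subgroup G, SEStruct r S H H₀ := by
  classical
  haveI := Fact.mk Nat.prime_two
  have hr := c.twoR.prime
  haveI := Fact.mk hr
  haveI := c.twoR.two_group_comm S.isPGroup'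
  -- a complement of `S`
  set S' := (S : Subgroup G).subgroupOf (nS S) with hS'
  haveI : S'.Normal := Subgroup.normal_subgroupOf_of_le_normalizer le_rfl
  have hidx : ¬ 2 ∣ S'.index := fun hd =>
    S.not_dvd_index (hd.trans (Subgroup.relIndex_dvd_index_of_le c.sylow_le))
  have hS'c : Nat.card S' = Nat.card (S : Subgroup G) :=
    Nat.card_congr (Subgroup.subgroupOfEquivOfLe c.sylow_le).toEquiv
  obtain ⟨n₂, hn₂⟩ := S.isPGroup'.exists_card_eq
  obtain ⟨B, hB⟩ := Subgroup.exists_right_complement'_of_coprime (N := S')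
    (by rw [hS'c, hn₂]; exact (Nat.prime_two.coprime_iff_not_dvd.2 hidx).pow_left n₂)
  set H := B.map (nS S).subtype with hH
  have hHle : H ≤ nS S := Subgroup.map_subtype_le B
  have hHc : Nat.card H = S'.index := by
    rw [hH, Subgroup.card_map_of_injective (nS S).subtype_injective]
    exact hB.symm.index_eq_card.symm
  have hHodd : ¬ 2 ∣ Nat.card H := hHc ▸ hidx
  have hdec : ∀ n ∈ nS S, ∃ s ∈ (S : Subgroup G), ∃ h ∈ H, n = s * h := by
    intro n hn
    obtain ⟨⟨s, b⟩, hsb⟩ := hB.surjective ⟨n, hn⟩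
    exact ⟨((s : nS S) : G), s.2, ((b : nS S) : G), ⟨b, b.2, rfl⟩, (congrArg Subtype.val hsb).symm⟩
  have hHS : H ⊓ (S : Subgroup G) = ⊥ := inf_eq_bot_of_coprime (by
    rw [hn₂]; exact ((Nat.prime_two.coprime_iff_not_dvd.2 hHodd).symm).pow_right n₂)
  have oddH : ∀ h ∈ H, ¬ 2 ∣ orderOf h := fun h hh hd =>
    hHodd (hd.trans (Subgroup.orderOf_dvd_natCard _ hh))
  have one_of_S : ∀ h ∈ H, h ∈ (S : Subgroup G) → h = 1 := fun h hh hs =>
    Subgroup.mem_bot.1 (hHS ▸ Subgroup.mem_inf.2 ⟨hh, hs⟩)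
  -- the kernel of the action on `S`
  set C₀ := H ⊓ Subgroup.centralizer ((S : Subgroup G) : Set G) with hC₀
  obtain ⟨a₀, ha₀, ha₀1⟩ := c.exists_mem
  have hC₀r : ∀ z ∈ C₀, z ^ r = 1 := fun z hz => c.pow_r (c.orderOf_two ha₀ ha₀1)
    (Subgroup.mem_centralizer_iff.1 hz.2 a₀ ha₀).symm (oddH z hz.1)
  have hC₀p : IsPGroup r C₀ := fun z => ⟨1, Subtype.ext (by rw [pow_one]; exact hC₀r z z.2)⟩
  have hC₀N : nS S ≤ Subgroup.normalizer (C₀ : Set G) := by
    intro n hn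
    refine mem_normalizer_fintype fun z hz => ?_
    obtain ⟨s, hs, h, hh, rfl⟩ := hdec n hn
    have hz' : h * z * h⁻¹ ∈ C₀ := by
      refine ⟨H.mul_mem (H.mul_mem hh hz.1) (H.inv_mem hh), Subgroup.mem_centralizer_iff.2 fun t ht => ?_⟩
      have := Subgroup.mem_centralizer_iff.1 hz.2 _ (mem_conj_normalizer' (hHle hh) ht)
      calc t * (h * z * h⁻¹) = h * ((h⁻¹ * t * h) * z) * h⁻¹ := by group
        _ = h * (z * (h⁻¹ * t * h)) * h⁻¹ := by rw [this]
        _ = _ := by group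
    have e : s * h * z * (s * h)⁻¹ = s * (h * z * h⁻¹) * s⁻¹ := by group
    rw [e, Subgroup.mem_centralizer_iff.1 hz'.2 s hs, mul_inv_cancel_right]
    exact hz'
  -- elements of `H`
  obtain ⟨x, hxN, hxo, hxC⟩ := hx
  obtain ⟨s, hs, x₁, hx₁, rfl⟩ := hdec x hxN
  have hx₁C : x₁ ∉ Subgroup.centralizer ((S : Subgroup G) : Set G) := fun h => hxC
    (mul_mem (Subgroup.mem_centralizer_iff.2 fun t ht => c.comm ht hs) h)
  have hx₁r : orderOf x₁ = r := by
    refine orderOf_eq_prime (one_of_S _ (H.pow_mem hx₁ r) ?_) fun e => hx₁C (e ▸ one_mem _)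
    have h1 := mul_pow_mul_inv_mem (S : Subgroup G) (y := x₁) (hHle hx₁) hs r
    rw [show (s * x₁) ^ r = 1 by rw [← hxo, pow_orderOf_eq_one], one_mul,
      Subgroup.inv_mem_iff] at h1
    exact h1
  obtain ⟨y, hyN, ℓ, hℓ, hℓd, hℓ2, hℓr⟩ := hy
  haveI := Fact.mk hℓ
  obtain ⟨y₁, hy₁⟩ : ∃ y₁ : H, orderOf y₁ = ℓ := by
    refine exists_prime_orderOf_dvd_card' ℓ ?_
    have h1 : ℓ ∣ Nat.card (S : Subgroup G) * Nat.card H := by
      rw [hHc, ← hS'c, Subgroup.card_mul_index]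
      exact hℓd.trans (Subgroup.orderOf_dvd_natCard _ hyN)
    rcases hℓ.dvd_mul.1 h1 with e | e
    · exact absurd ((Nat.prime_dvd_prime_iff_eq hℓ Nat.prime_two).1 (hℓ.dvd_of_dvd_pow (hn₂ ▸ e))) hℓ2
    · exact e
  rw [← Subgroup.orderOf_coe] at hy₁
  -- a minimal normal subgroup of `H` modulo `C₀`
  set C₀H := C₀.subgroupOf H with hC₀H
  haveI : C₀H.Normal := Subgroup.normal_subgroupOf_of_le_normalizer (hHle.trans hC₀N)
  haveI hHsol : Group.IsSolvable H := odd_solvable hHodd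
  have htop : (⊤ : Subgroup (H ⧸ C₀H)) ≠ ⊥ := by
    intro e
    have : ((⟨x₁, hx₁⟩ : H) : H ⧸ C₀H) ∈ (⊥ : Subgroup (H ⧸ C₀H)) := e ▸ Subgroup.mem_top _
    rw [Subgroup.mem_bot, QuotientGroup.eq_one_iff] at this
    exact hx₁C (Subgroup.mem_subgroupOf.1 this).2
  obtain ⟨Lb, hLbn, hLb1, -, hLbmin⟩ := Grp.exists_minimal_normal_le htop
  haveI := hLbn
  obtain ⟨hLbc, p, hp, hpow⟩ := Grp.minimal_normal_solvable (N := Lb) inferInstance hLb1 hLbmin
  haveI := Fact.mk hp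
  set L := (Lb.comap (QuotientGroup.mk' C₀H)).map H.subtype with hL
  have hLH : L ≤ H := Subgroup.map_subtype_le _
  have hLmem : ∀ {l : G} (hl : l ∈ H), l ∈ L ↔ ((⟨l, hl⟩ : H) : H ⧸ C₀H) ∈ Lb := by
    intro l hl
    constructor
    · rintro ⟨z, hz, rfl⟩
      exact hz
    · intro hz
      exact ⟨⟨l, hl⟩, hz, rfl⟩
  have hC₀L : C₀ ≤ L := fun z hz => (hLmem hz.1).2 (by
    rw [(QuotientGroup.eq_one_iff (N := C₀H) ⟨z, hz.1⟩).2 (Subgroup.mem_subgroupOf.2 hz)]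
    exact one_mem _)
  have hHL : H ≤ Subgroup.normalizer (L : Set G) := by
    intro h hh
    refine mem_normalizer_fintype ?_
    rintro _ ⟨z, hz, rfl⟩
    refine ⟨⟨h, hh⟩ * z * ⟨h, hh⟩⁻¹, ?_, rfl⟩
    exact (hLbn.comap (QuotientGroup.mk' C₀H)).conj_mem z hz _
  obtain ⟨l₀, hl₀, hl₀C⟩ : ∃ l₀ ∈ L, l₀ ∉ C₀ := by
    obtain ⟨z, hz, hz1⟩ := Lb.bot_or_exists_ne_one.resolve_left hLb1
    obtain ⟨⟨g, hg⟩, rfl⟩ := QuotientGroup.mk_surjective z
    exact ⟨g, (hLmem hg).2 hz, fun h => hz1 ((QuotientGroup.eq_one_iff _).2 (Subgroup.mem_subgroupOf.2 h))⟩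
  have hLpow : ∀ l ∈ L, l ^ p ∈ C₀ := by
    intro l hl
    have h1 := hpow _ ((hLmem (hLH hl)).1 hl)
    rw [← QuotientGroup.mk_pow, QuotientGroup.eq_one_iff] at h1
    simpa [hC₀H, Subgroup.mem_subgroupOf] using h1
  have hLcomm : ∀ l ∈ L, ∀ l' ∈ L, ⁅l, l'⁆ ∈ C₀ := by
    intro l hl l' hl'
    have e : ((⟨l, hLH hl⟩ : H) : H ⧸ C₀H) * ((⟨l', hLH hl'⟩ : H) : H ⧸ C₀H) =
        ((⟨l', hLH hl'⟩ : H) : H ⧸ C₀H) * ((⟨l, hLH hl⟩ : H) : H ⧸ C₀H) :=
      congrArg Subtype.val (hLbc.is_comm.comm ⟨_, (hLmem (hLH hl)).1 hl⟩ ⟨_, (hLmem (hLH hl')).1 hl'⟩)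
    rw [← commutatorElement_eq_one_iff_mul_comm] at e
    have h1 : (⁅(⟨l, hLH hl⟩ : H), (⟨l', hLH hl'⟩ : H)⁆ : H) ∈ C₀H := by
      rw [← QuotientGroup.eq_one_iff]
      exact (map_commutatorElement (QuotientGroup.mk' C₀H) _ _).trans e
    simpa [hC₀H, Subgroup.mem_subgroupOf, commutatorElement_def] using h1
  -- `p ≠ r`
  have hpr : p ≠ r := by
    intro epr
    rw [epr] at hLpow
    have hLr : IsPGroup r L := fun l => ⟨2, Subtype.ext (by
      rw [SubmonoidClass.coe_pow, sq, pow_mul]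
      exact hC₀r _ (hLpow l l.2))⟩
    set X := nS S with hX
    set C₀X := C₀.subgroupOf X with hC₀X
    haveI : C₀X.Normal := Subgroup.normal_subgroupOf_of_le_normalizer hC₀N
    set q := QuotientGroup.mk' C₀X with hq
    have hqone : ∀ {g : X}, q g = 1 ↔ (g : G) ∈ C₀ := fun {g} => by
      rw [hq, QuotientGroup.mk'_apply, QuotientGroup.eq_one_iff, hC₀X, Subgroup.mem_subgroupOf]
    have hT := (c.twoR.subgroup X).quotient C₀X
    set A := (L.subgroupOf X).map q with hA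
    set W := ((S : Subgroup G).subgroupOf X).map q with hW
    have hLX : L ≤ X := hLH.trans hHle
    haveI : IsMulCommutative A := by
      refine ⟨⟨?_⟩⟩
      rintro ⟨_, g, hg, rfl⟩ ⟨_, g', hg', rfl⟩
      refine Subtype.ext ?_
      show q g * q g' = q g' * q g
      rw [← commutatorElement_eq_one_iff_mul_comm, ← map_commutatorElement, hqone]
      simpa [commutatorElement_def] using hLcomm _ hg _ hg'
    have hAr : IsPGroup r A := (hLr.comap_subtype (K := X)).map q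
    obtain ⟨i, hi⟩ := hAr.exists_card_eq
    have hAd : ∀ t : ℕ, t.Prime → t ≠ r → ¬ t ∣ Nat.card A := fun t ht htr hd =>
      htr ((Nat.prime_dvd_prime_iff_eq ht hr).1 (ht.dvd_of_dvd_pow (hi ▸ hd)))
    set Y : X := ⟨(y₁ : G), hHle y₁.2⟩ with hY
    have hnorm : ∀ (K : Subgroup G) (z : X), (z : G) ∈ Subgroup.normalizer (K : Set G) →
        q z ∈ Subgroup.normalizer (((K.subgroupOf X).map q : Subgroup (X ⧸ C₀X)) : Set (X ⧸ C₀X)) := by
      intro K z hz
      refine mem_normalizer_fintype ?_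
      rintro _ ⟨g, hg, rfl⟩
      refine ⟨z * g * z⁻¹, ?_, by simp⟩
      show ((z * g * z⁻¹ : X) : G) ∈ K
      simpa using mem_conj_normalizer hz hg
    have hYo : orderOf (q Y) = ℓ := by
      refine orderOf_eq_prime ?_ fun e => ?_
      · rw [← map_pow, hqone]
        show ((y₁ : G)) ^ ℓ ∈ C₀
        rw [← hy₁, pow_orderOf_eq_one]; exact one_mem _
      · have h2 := orderOf_dvd_of_pow_eq_one (hC₀r _ (hqone.1 e : (y₁ : G) ∈ C₀))
        rw [hy₁] at h2
        exact hℓr ((Nat.prime_dvd_prime_iff_eq hℓ hr).1 h2)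
    have hlift := hT.lift (p := 2) (Or.inl rfl) A W (S.isPGroup'.comap_subtype.map q)
      (by rintro _ ⟨g, hg, rfl⟩; exact hnorm _ g g.2) (hAd 2 Nat.prime_two (Ne.symm c.twoR.ne_two))
      (y := q Y) (hnorm _ Y Y.2) (hnorm _ Y (hHL y₁.2)) hℓ hYo (hAd ℓ hℓ hℓr)
      (fun hd => hℓr ((Nat.prime_dvd_prime_iff_eq hℓ hr).1
        (Nat.dvd_of_mul_dvd_mul_left Nat.two_pos (by rwa [mul_comm ℓ 2] at hd))))
    have hfree : ⁅A, Subgroup.zpowers (q Y)⁆ = A := by
      refine free_commutator_eq (hnorm _ Y (hHL y₁.2)) ?_ fun a ha hc => ?_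
      · rw [hi, hYo]; exact ((Nat.coprime_primes hr hℓ).2 (Ne.symm hℓr)).pow_left i
      · by_contra ha1
        rcases hT.primes_of_commute (Or.inr (orderOf_eq_prime (hT.r_group_pow hAr ha) ha1)) hc.symm hℓ
          (by rw [hYo]) with e | e
        · exact hℓ2 e
        · exact hℓr e
    rw [hfree] at hlift
    refine hl₀C ⟨hLH hl₀, Subgroup.mem_centralizer_iff.2 fun t ht => ?_⟩
    have h1 := Subgroup.mem_centralizer_iff.1 (hlift ⟨⟨l₀, hLX hl₀⟩, hl₀, rfl⟩)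
      (q ⟨t, c.sylow_le ht⟩) ⟨⟨t, c.sylow_le ht⟩, ht, rfl⟩
    rw [← commutatorElement_eq_one_iff_mul_comm, ← map_commutatorElement, hqone] at h1
    rw [← commutatorElement_eq_one_iff_mul_comm]
    have h2 : ⁅t, l₀⁆ ∈ C₀ := by simpa [commutatorElement_def] using h1
    refine one_of_S _ h2.1 ?_
    rw [commutatorElement_def, mul_assoc, mul_assoc, ← mul_assoc l₀]
    exact Subgroup.mul_mem _ ht (mem_conj_normalizer (hLX hl₀) (Subgroup.inv_mem _ ht))
  -- the Sylow subgroup of `L`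
  obtain ⟨Q, hQ⟩ := exists_isSylowIn p L
  have hQH : Q ≤ H := hQ.1.trans hLH
  have hpL : p ∣ Nat.card L := by
    have h2 : orderOf ((⟨l₀, hLH hl₀⟩ : H) : H ⧸ C₀H) = p := by
      refine orderOf_eq_prime (hpow _ ((hLmem (hLH hl₀)).1 hl₀)) fun e => ?_
      exact hl₀C (Subgroup.mem_subgroupOf.1 ((QuotientGroup.eq_one_iff _).1 e))
    have h3 : orderOf ((⟨l₀, hLH hl₀⟩ : H) : H ⧸ C₀H) ∣ orderOf (⟨l₀, hLH hl₀⟩ : H) :=
      orderOf_map_dvd (QuotientGroup.mk' C₀H) _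
    rw [h2, Subgroup.orderOf_mk] at h3
    exact h3.trans (Subgroup.orderOf_dvd_natCard _ hl₀)
  have hp2 : p ≠ 2 := fun e => hHodd ((e ▸ hpL).trans (Subgroup.card_dvd_of_le hLH))
  have hQC : Q ⊓ C₀ = ⊥ := by
    obtain ⟨i, hi⟩ := hQ.2.1.exists_card_eq
    obtain ⟨j, hj⟩ := hC₀p.exists_card_eq
    exact inf_eq_bot_of_coprime (by rw [hi, hj]; exact ((Nat.coprime_primes hp hr).2 hpr).pow i j)
  have hQpow : ∀ z ∈ Q, z ^ p = 1 := fun z hz =>
    Subgroup.mem_bot.1 (hQC ▸ Subgroup.mem_inf.2 ⟨Q.pow_mem hz p, hLpow z (hQ.1 hz)⟩)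
  haveI hQc : IsMulCommutative Q := ⟨⟨fun z w => Subtype.ext
    (commutatorElement_eq_one_iff_mul_comm.1 (Subgroup.mem_bot.1 (hQC ▸ Subgroup.mem_inf.2
      ⟨by rw [commutatorElement_def]; exact Q.mul_mem (Q.mul_mem (Q.mul_mem z.2 w.2) (Q.inv_mem z.2)) (Q.inv_mem w.2),
        hLcomm _ (hQ.1 z.2) _ (hQ.1 w.2)⟩)) : (z : G) * w = w * z)⟩⟩
  have hQ1 : Q ≠ ⊥ := fun e => hQ.2.2 (by rw [e, Subgroup.relIndex_bot_left]; exact hpL)
  have free_S : ∀ z ∈ Q, z ≠ 1 → ∀ a ∈ (S : Subgroup G), a ≠ 1 → ¬ Commute z a := by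
    intro z hz hz1 a ha ha1 hc
    rcases c.twoR.primes_of_commute (Or.inl (c.orderOf_two ha ha1)) hc hp
      (by rw [orderOf_eq_prime (hQpow z hz) hz1]) with e | e
    · exact hp2 e
    · exact hpr e
  have hQcyc : IsCyclic Q := by
    by_contra hnc
    have hgen := generated_by_centralizers Q (S : Subgroup G) hnc
      (hQH.trans hHle) (by
        obtain ⟨i, hi⟩ := hQ.2.1.exists_card_eq
        rw [hi, hn₂]; exact ((Nat.coprime_primes hp Nat.prime_two).2 hp2).pow i n₂)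
    refine ha₀1 (Subgroup.mem_bot.1 ((hgen.ge.trans (iSup₂_le fun z hz => ?_)) ha₀))
    rintro a ⟨ha, hca⟩
    by_contra ha1
    exact free_S z hz.1 hz.2 a ha (fun e => ha1 (Subgroup.mem_bot.2 e))
      (Subgroup.mem_centralizer_singleton_iff.1 hca).symm
  have hQp : Nat.card Q = p := by
    obtain ⟨g, hg⟩ := hQcyc.exists_generator
    have h1 : Nat.card Q = orderOf g := (orderOf_eq_card_of_forall_mem_zpowers hg).symm
    rcases (Nat.dvd_prime hp).1 (orderOf_dvd_of_pow_eq_one (Subtype.ext (hQpow g g.2)) :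
      orderOf g ∣ p) with e | e
    · exact absurd (Subgroup.card_eq_one.1 (h1.trans e)) hQ1
    · exact h1.trans e
  obtain ⟨q₀, hq₀, hq₀1⟩ := Q.bot_or_exists_ne_one.resolve_left hQ1
  have hq₀o : orderOf q₀ = p := orderOf_eq_prime (hQpow q₀ hq₀) hq₀1
  have hrp : ∀ z w : G, orderOf z = r → w ∈ Q → w ≠ 1 → Commute z w → False := by
    intro z w hz hw hw1 hc
    rcases c.twoR.primes_of_commute (Or.inr hz) hc.symm hp
      (by rw [orderOf_eq_prime (hQpow w hw) hw1]) with e | e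
    · exact hp2 e
    · exact hpr e
  -- an element of order `r` normalising `Q`
  have hx₁L : x₁ ∉ L := fun h => by
    have h1 := hLpow x₁ h
    have hz : x₁ ∈ Subgroup.zpowers (x₁ ^ p) := by
      rw [mem_zpowers_pow_iff, hx₁r, ← Nat.coprime_iff_gcd_eq_one]
      exact (Nat.coprime_primes hp hr).2 hpr
    exact hx₁C ((Subgroup.zpowers_le.2 h1) hz).2
  obtain ⟨k, hk, hkQ⟩ := hQ.conj (hQ.smul (normalizer_le_smul hHL hx₁))
  set n := k⁻¹ * x₁ with hn
  have hnH : n ∈ H := H.mul_mem (H.inv_mem (hLH hk)) hx₁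
  have hnQ : n ∈ Subgroup.normalizer (Q : Set G) := by
    rw [mem_normalizer_iff_smul, hn, ← conj_smul_conj_smul, ← hkQ, conj_smul_conj_smul, inv_mul_cancel,
      map_one, one_smul]
  have hrn : r ∣ orderOf n := by
    haveI : (L.subgroupOf H).Normal := Subgroup.normal_subgroupOf_of_le_normalizer hHL
    have e : ((⟨n, hnH⟩ : H) : H ⧸ L.subgroupOf H) = ((⟨x₁, hx₁⟩ : H) : H ⧸ L.subgroupOf H) := by
      refine QuotientGroup.eq.2 ?_
      show n⁻¹ * x₁ ∈ L
      rw [hn, mul_inv_rev, inv_inv, mul_assoc]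
      exact mem_conj_normalizer' (hHL hx₁) hk |> fun h => by simpa [mul_assoc] using h
    have h2 : orderOf ((⟨x₁, hx₁⟩ : H) : H ⧸ L.subgroupOf H) = r := by
      refine orderOf_eq_prime ?_ fun e' => hx₁L (Subgroup.mem_subgroupOf.1 ((QuotientGroup.eq_one_iff (N := L.subgroupOf H) (⟨x₁, hx₁⟩ : H)).1 e'))
      rw [← QuotientGroup.mk_pow, show (⟨x₁, hx₁⟩ : H) ^ r = 1 from Subtype.ext (by
        rw [SubmonoidClass.coe_pow, ← hx₁r, pow_orderOf_eq_one]; rfl), QuotientGroup.mk_one]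
    have h3 : orderOf ((⟨n, hnH⟩ : H) : H ⧸ L.subgroupOf H) ∣ orderOf (⟨n, hnH⟩ : H) :=
      orderOf_map_dvd (QuotientGroup.mk' _) _
    rwa [e, h2, Subgroup.orderOf_mk] at h3
  set x₀ := n ^ (orderOf n / r) with hx₀
  have hx₀r : orderOf x₀ = r := orderOf_pow_orderOf_div (orderOf_pos n).ne' hrn
  have hx₀H : x₀ ∈ H := H.pow_mem hnH _
  have hx₀Q : x₀ ∈ Subgroup.normalizer (Q : Set G) := Subgroup.pow_mem _ hnQ _
  -- `C₀` is trivial
  have hC₀1 : C₀ = ⊥ := by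
    by_contra hne
    have hlift := c.twoR.lift (p := r) (Or.inr rfl) Q C₀ hC₀p ((hQH.trans hHle).trans hC₀N)
      (by rw [hQp]; exact fun hd => hpr ((Nat.prime_dvd_prime_iff_eq hr hp).1 hd).symm)
      (y := x₀) (hC₀N (hHle hx₀H)) hx₀Q hr hx₀r
      (by rw [hQp]; exact fun hd => hpr ((Nat.prime_dvd_prime_iff_eq hr hp).1 hd).symm)
      (fun hd => c.twoR.ne_two ((Nat.prime_dvd_prime_iff_eq hr Nat.prime_two).1
        (Nat.dvd_of_mul_dvd_mul_right hr.pos hd)))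
    rw [free_commutator_eq hx₀Q (by rw [hQp, hx₀r]; exact (Nat.coprime_primes hp hr).2 hpr)
      fun w hw hc => by
        by_contra hw1
        exact hrp x₀ w hx₀r hw hw1 hc.symm] at hlift
    obtain ⟨z, hz, hz1⟩ := C₀.bot_or_exists_ne_one.resolve_left hne
    exact hrp z q₀ (orderOf_eq_prime (hC₀r z hz) hz1) hq₀ hq₀1
      (Subgroup.mem_centralizer_iff.1 (hlift hq₀) z hz)
  have hLQ : L = Q := by
    refine (hQ.eq_of_le hQ.1 le_rfl fun l => ⟨1, Subtype.ext ?_⟩).symm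
    rw [pow_one]
    have := hLpow l l.2
    rw [hC₀1, Subgroup.mem_bot] at this
    exact this
  have hHQ : H ≤ Subgroup.normalizer (Q : Set G) := hLQ ▸ hHL
  -- the action on `Q`
  set H₀ := H ⊓ Subgroup.centralizer (Q : Set G) with hH₀
  let ψ : H →* MulAut Q := (Subgroup.normalizerMonoidHom Q).comp (Subgroup.inclusion hHQ)
  have hψ : ∀ h : H, ψ h = 1 ↔ (h : G) ∈ H₀ := by
    intro h
    constructor
    · intro e
      refine ⟨h.2, Subgroup.mem_centralizer_iff.2 fun w hw => ?_⟩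
      have e1 : (h : G) * w * (h : G)⁻¹ = w :=
        congrArg (fun f : MulAut Q => ((f ⟨w, hw⟩ : Q) : G)) e
      exact (mul_inv_eq_iff_eq_mul.1 e1).symm
    · intro e
      refine MulEquiv.ext fun w => Subtype.ext ?_
      show (h : G) * (w : G) * (h : G)⁻¹ = w
      rw [← Subgroup.mem_centralizer_iff.1 e.2 w w.2, mul_inv_cancel_right]
  haveI : IsCyclic (MulAut Q) := by
    haveI := hQcyc
    haveI : IsCyclic (ZMod (Nat.card Q))ˣ := hQp.symm ▸ ZMod.isCyclic_units_prime hp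
    exact isCyclic_of_surjective _ (IsCyclic.mulAutMulEquiv Q).symm.surjective
  have hcommA : ∀ f g : MulAut Q, Commute f g := fun f g => by
    obtain ⟨w, hw⟩ := IsCyclic.exists_generator (α := MulAut Q)
    obtain ⟨i, rfl⟩ := Subgroup.mem_zpowers_iff.1 (hw f)
    obtain ⟨j, rfl⟩ := Subgroup.mem_zpowers_iff.1 (hw g)
    exact Commute.zpow_zpow_self w i j
  have hno_r : ∀ h ∈ H₀, ¬ r ∣ orderOf h := fun h hh hd =>
    hrp (h ^ (orderOf h / r)) q₀ (orderOf_pow_orderOf_div (orderOf_pos h).ne' hd) hq₀ hq₀1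
      (Commute.pow_left ((Subgroup.mem_centralizer_iff.1 hh.2 q₀ hq₀).symm : Commute h q₀) _)
  have hx₁ψ : orderOf (ψ ⟨x₁, hx₁⟩) = r := by
    refine orderOf_eq_prime ?_ fun e => hno_r x₁ ((hψ _).1 e) (by rw [hx₁r])
    rw [← map_pow, show (⟨x₁, hx₁⟩ : H) ^ r = 1 from Subtype.ext (by
        rw [SubmonoidClass.coe_pow, ← hx₁r, pow_orderOf_eq_one]; rfl), map_one]
  have hψr : ∀ h : H, ψ h ^ r = 1 := by
    intro h
    let K : Subgroup H :=
      { carrier := {h | ψ h ^ r = 1}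
        one_mem' := by simp
        mul_mem' := fun {a b} (ha : ψ a ^ r = 1) (hb : ψ b ^ r = 1) => by
          show ψ (a * b) ^ r = 1
          rw [map_mul, (hcommA _ _).mul_pow, ha, hb, one_mul]
        inv_mem' := fun {a} (ha : ψ a ^ r = 1) => by
          show ψ a⁻¹ ^ r = 1
          rw [map_inv, inv_pow, ha, inv_one] }
    refine Transfer.prime_parts h K fun t ht z ⟨i, hi⟩ _ => ?_
    show ψ z ^ r = 1
    by_cases htr : t = r
    · rw [← map_pow, show z ^ r = 1 from ?_, map_one]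
      rcases i with _ | _ | i
      · rw [pow_zero, orderOf_eq_one_iff] at hi; rw [hi, one_pow]
      · rw [pow_one, htr] at hi; rw [← hi, pow_orderOf_eq_one]
      · exact absurd (by rw [Subgroup.orderOf_coe, hi, htr]; exact ⟨r ^ i, by ring⟩)
          (c.twoR.not_sq_dvd (z : G)).2
    by_contra hne
    have h1 : orderOf (ψ z) ∣ t ^ i := hi ▸ orderOf_map_dvd ψ z
    obtain ⟨j, -, hj⟩ := (Nat.dvd_prime_pow ht).1 h1
    have hj0 : j ≠ 0 := fun e => hne (by
      rw [e, pow_zero, orderOf_eq_one_iff] at hj; rw [hj, one_pow])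
    have hcop : (orderOf (ψ ⟨x₁, hx₁⟩)).Coprime (orderOf (ψ z)) := by
      rw [hx₁ψ, hj]; exact ((Nat.coprime_primes hr ht).2 (Ne.symm htr)).pow_right j
    have h2 := (hcommA _ _).orderOf_mul_eq_mul_orderOf_of_coprime hcop
    rw [← map_mul, hx₁ψ, hj] at h2
    have h3 : orderOf (ψ (⟨x₁, hx₁⟩ * z)) ∣ orderOf ((⟨x₁, hx₁⟩ * z : H) : G) := by
      rw [Subgroup.orderOf_coe]; exact orderOf_map_dvd ψ _
    rw [h2] at h3
    have ht2 : t ≠ 2 := by
      intro e
      refine oddH _ z.2 ?_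
      rw [Subgroup.orderOf_coe, hi, e]
      exact dvd_pow_self 2 fun e0 => hj0 (by
        rw [e0, pow_zero, Nat.dvd_one, hj] at h1
        exact (Nat.pow_eq_one.1 h1).resolve_left ht.one_lt.ne')
    exact c.twoR.not_two_mul ht ht2 htr (Or.inr ((dvd_mul_right r _).trans h3))
      (((dvd_pow_self t hj0).trans (dvd_mul_left _ r)).trans h3)
  have hmem₀ : ∀ h ∈ H, (orderOf h).Coprime r → h ∈ H₀ := by
    intro h hh hcop
    refine (hψ ⟨h, hh⟩).1 (orderOf_eq_one_iff.1 (Nat.eq_one_of_dvd_coprimes hcop ?_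
      (orderOf_dvd_of_pow_eq_one (hψr _))))
    rw [← Subgroup.orderOf_mk h hh]; exact orderOf_map_dvd ψ _
  have hker : ψ.ker = H₀.subgroupOf H := by
    ext h; exact hψ h
  have hrange : Nat.card ψ.range = r := by
    haveI : IsCyclic ψ.range := Subgroup.isCyclic _
    obtain ⟨g, hg⟩ := IsCyclic.exists_generator (α := ψ.range)
    have h1 : Nat.card ψ.range ∣ r := by
      rw [← orderOf_eq_card_of_forall_mem_zpowers hg]
      refine orderOf_dvd_of_pow_eq_one (Subtype.ext ?_)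
      obtain ⟨h, hh⟩ := g.2
      rw [SubmonoidClass.coe_pow, ← hh]
      exact hψr h
    have h2 : r ∣ Nat.card ψ.range := hx₁ψ ▸ Subgroup.orderOf_dvd_natCard ψ.range ⟨_, rfl⟩
    exact Nat.dvd_antisymm h1 h2
  have hHcard : Nat.card H = r * Nat.card H₀ := by
    rw [← Nat.card_congr (Subgroup.subgroupOfEquivOfLe (inf_le_left : H₀ ≤ H)).toEquiv, ← hker,
      ← hrange, ← Subgroup.index_ker, mul_comm, Subgroup.card_mul_index]
  have hsemi : ∀ a ∈ (S : Subgroup G), a ≠ 1 → ∀ h ∈ H₀, Commute h a → h = 1 := by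
    intro a ha ha1 h hh hc
    by_contra h1
    obtain ⟨t, ht, htd⟩ := Nat.exists_prime_and_dvd (fun e => h1 (orderOf_eq_one_iff.1 e) : orderOf h ≠ 1)
    rcases c.twoR.primes_of_commute (Or.inl (c.orderOf_two ha ha1)) hc ht htd with e | e
    · exact oddH h hh.1 (e ▸ htd)
    · exact hno_r h hh (e ▸ htd)
  -- `|H₀| = |S| - 1`
  obtain ⟨a, ha, ha1, z, hz, hzr⟩ := c.exists_mixed
  obtain ⟨s', hs', h', hh', rfl⟩ := hdec z (c.cent a ha ha1 hz)
  have hh'a : Commute h' a := by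
    have h1 := Subgroup.mul_mem _ (Subgroup.inv_mem _ (c.twoR.sylow_le_centralizer S ha hs')) hz
    rw [inv_mul_cancel_left] at h1
    exact Subgroup.mem_centralizer_singleton_iff.1 h1
  have hh'1 : h' ≠ 1 := by
    intro e
    rw [e, mul_one] at hzr
    have h2 := orderOf_dvd_of_pow_eq_one (show s' ^ 2 = 1 by rw [sq]; exact c.mul_self hs')
    rw [hzr] at h2
    exact c.twoR.ne_two ((Nat.prime_dvd_prime_iff_eq hr Nat.prime_two).1 h2)
  set St := H ⊓ Subgroup.centralizer ({a} : Set G) with hSt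
  have hStc : Nat.card St ∣ r := by
    let φ : St →* ψ.range := ψ.rangeRestrict.comp (Subgroup.inclusion inf_le_left)
    have hinj : Function.Injective φ := by
      rw [← MonoidHom.ker_eq_bot_iff, eq_bot_iff]
      intro w hw
      rw [MonoidHom.mem_ker] at hw
      have := (hψ _).1 (congrArg Subtype.val hw)
      exact Subgroup.mem_bot.2 (Subtype.ext (hsemi a ha ha1 _ this
        (Subgroup.mem_centralizer_singleton_iff.1 w.2.2)))
    rw [← hrange]
    exact Subgroup.card_dvd_of_injective φ hinj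
  have hStr : Nat.card St = r := by
    refine ((Nat.dvd_prime hr).1 hStc).resolve_left fun e => hh'1 ?_
    have : h' ∈ St := ⟨hh', Subgroup.mem_centralizer_singleton_iff.2 hh'a.eq⟩
    rw [Subgroup.card_eq_one.1 e, Subgroup.mem_bot] at this
    exact this
  have horb := c.card_trans hHle ha ha1 fun b hb hb1 => by
    obtain ⟨w, hw, he⟩ := c.trans_nS ha ha1 hb hb1
    obtain ⟨t, ht, h, hh, rfl⟩ := hdec w hw
    refine ⟨h, hh, ?_⟩
    calc h * a * h⁻¹ = t⁻¹ * (t * h * a * (t * h)⁻¹) * t := by group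
      _ = t⁻¹ * b * t := by rw [he]
      _ = b := by rw [mul_assoc, c.comm hb ht, inv_mul_cancel_left]
  rw [← hSt, hStr, hHcard, mul_comm r] at horb
  have hm : Nat.card H₀ = Nat.card (S : Subgroup G) - 1 :=
    (Nat.eq_of_mul_eq_mul_right hr.pos horb).symm
  refine ⟨H, H₀, hHle, hHodd, hdec, inf_le_left, ?_, hm, by rw [hHcard, hm], ?_, hsemi, hmem₀⟩
  · intro h hh
    rw [mem_normalizer_iff_smul, hH₀, Subgroup.smul_inf, Subgroup.conj_smul_eq_self_of_mem hh]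
    congr 1
    refine le_antisymm ?_ ?_ <;> intro w hw <;> rw [mem_smul_conj] at * <;>
      rw [Subgroup.mem_centralizer_iff] at * <;> intro t ht
    · have := hw _ (mem_conj_normalizer' (hHQ hh) ht)
      calc t * w = h * ((h⁻¹ * t * h) * (h⁻¹ * w * h)) * h⁻¹ := by group
        _ = h * ((h⁻¹ * w * h) * (h⁻¹ * t * h)) * h⁻¹ := by rw [this]
        _ = _ := by group
    · have := hw _ (mem_conj_normalizer (hHQ hh) ht)
      calc t * (h⁻¹ * w * h) = h⁻¹ * ((h * t * h⁻¹) * w) * h := by group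
        _ = h⁻¹ * (w * (h * t * h⁻¹)) * h := by rw [this]
        _ = _ := by group
  · rw [← hm]
    intro hd
    obtain ⟨w, hw⟩ := exists_prime_orderOf_dvd_card' r hd
    rw [← Subgroup.orderOf_coe] at hw
    exact hno_r w w.2 (by rw [hw])

end SEHyp

end Cfsg.Agent.Grp.ThreeOrders
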