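import Mathlib
import Cfsg.Prelude
import Cfsg.Agent.Lib.Grp.ThreeOrders.SEThreeStruct

/-!
The mixed case: double transitivity on the cosets of `N(S)` and the centraliser of `x`.
-/

set_option autoImplicit false
set_option linter.style.haveILetI false
set_option linter.unusedSectionVars false

universe u

namespace Cfsg.Agent.Grp.ThreeOrders

open Subgroup
open scoped commutatorElement Pointwise

variable {G : Type u} [Group G] [Finite G] {r : ℕ} {S : Sylow 2 G} {H H₀ : Subgroup G}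

theorem commute_of_conj_inv {n j : G} (ho : ¬ 2 ∣ orderOf n) (h : n * j * n⁻¹ = j⁻¹) : j * j = 1 := by
  have h2 : Commute (n ^ 2) j := by
    refine mul_inv_eq_iff_eq_mul.1 ?_
    calc n ^ 2 * j * (n ^ 2)⁻¹ = n * (n * j * n⁻¹) * n⁻¹ := by rw [sq]; group
      _ = (n * j * n⁻¹)⁻¹ := by rw [h]; nth_rewrite 2 [← h]; group
      _ = j := by rw [h, inv_inv]
  obtain ⟨m, hm⟩ : ∃ m, orderOf n = 2 * m + 1 := ⟨orderOf n / 2, by omega⟩
  have e : n = (n ^ 2) ^ (m + 1) := by
    rw [← pow_mul, show 2 * (m + 1) = orderOf n + 1 by omega, pow_succ, pow_orderOf_eq_one, one_mul]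
  have hc : Commute n j := by rw [e]; exact h2.pow_left _
  rw [hc.eq, mul_inv_cancel_right] at h
  exact mul_eq_one_iff_eq_inv.2 h

namespace SEHyp

variable (c : SEHyp G r S)
include c

/-- The odd elements commuting with an involution and of order prime to `r` are trivial. -/
theorem eq_one_of_commute {t j : G} (ht : orderOf t = 2) (hc : Commute j t) (ho : ¬ 2 ∣ orderOf j)
    (hcop : (orderOf j).Coprime r) : j = 1 :=
  orderOf_eq_one_iff.1 (Nat.eq_one_of_dvd_coprimes hcop dvd_rfl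
    (orderOf_dvd_of_pow_eq_one (c.pow_r ht hc ho)))

theorem no_inverter {n j : G} (hn : n ∈ nS S) (hj : j ∈ nS S) (ho : ¬ 2 ∣ orderOf j)
    (hcop : (orderOf j).Coprime r) (hinv : n * j * n⁻¹ = j⁻¹) : j = 1 := by
  by_cases h2 : 2 ∣ orderOf n
  · set t := n ^ (orderOf n / 2) with ht
    have hto : orderOf t = 2 := orderOf_pow_orderOf_div (orderOf_pos n).ne' h2
    have htS := c.inv_mem ((nS S).pow_mem hn _) hto
    have htj : t * j * t⁻¹ ∈ Subgroup.zpowers j := by
      have hnz : n ∈ Subgroup.normalizer (Subgroup.zpowers j : Set G) := by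
        refine mem_normalizer_fintype ?_
        rintro _ ⟨i, rfl⟩
        refine ⟨-i, ?_⟩
        show j ^ (-i) = n * j ^ i * n⁻¹
        rw [← conj_zpow, hinv, inv_zpow, zpow_neg]
      exact mem_conj_normalizer (Subgroup.pow_mem _ hnz _) (Subgroup.mem_zpowers j)
    have h1 : t * j * t⁻¹ * j⁻¹ ∈ (S : Subgroup G) := by
      rw [mul_assoc, mul_assoc, ← mul_assoc j]
      exact Subgroup.mul_mem _ htS (mem_conj_normalizer hj (Subgroup.inv_mem _ htS))
    have h3 : t * j * t⁻¹ * j⁻¹ = 1 := by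
      rw [← orderOf_eq_one_iff]
      by_contra hne
      have h4 := c.orderOf_two h1 (fun e => hne (by rw [e, orderOf_one]))
      refine ho ?_
      rw [← h4, ← Nat.card_zpowers j]
      exact Subgroup.orderOf_dvd_natCard _
        (Subgroup.mul_mem _ htj (Subgroup.inv_mem _ (Subgroup.mem_zpowers j)))
    exact c.eq_one_of_commute hto ((mul_inv_eq_iff_eq_mul.1 (mul_inv_eq_one.1 h3)).symm) ho hcop
  · by_contra hj1
    exact ho (dvd_of_eq (orderOf_eq_prime (by rw [sq]; exact commute_of_conj_inv h2 hinv) hj1).symm)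

theorem exists_swap_rep [IsSimpleGroup G] {g : G} (hg : g ∉ nS S) :
    ∃ w : G, orderOf w = 2 ∧ w ∉ nS S ∧ w⁻¹ * g ∈ nS S := by
  have hxy : (QuotientGroup.mk 1 : G ⧸ nS S) ≠ QuotientGroup.mk g := fun e => hg (by
    simpa using QuotientGroup.eq.1 e)
  have h := Cfsg.Agent.S1224.result (nS S) c.se _ _ hxy
  rw [c.card_invol] at h
  have h4 := c.four_le
  obtain ⟨⟨w, hw, hwg⟩⟩ := (Nat.card_pos_iff.1 (by omega :
    0 < Nat.card {i : G // orderOf i = 2 ∧
      i • (QuotientGroup.mk 1 : G ⧸ nS S) = QuotientGroup.mk g})).1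
  rw [MulAction.Quotient.smul_mk, smul_eq_mul, mul_one] at hwg
  have h1 := QuotientGroup.eq.1 hwg
  exact ⟨w, hw, fun h2 => hg (by simpa using (nS S).mul_mem h2 h1), h1⟩

theorem card_nS (st : SEStruct r S H H₀) :
    Nat.card (nS S) = Nat.card (S : Subgroup G) * Nat.card H := by
  obtain ⟨n, hn⟩ := S.isPGroup'.exists_card_eq
  have e : (S : Subgroup G) ⊔ H = nS S := by
    refine le_antisymm (sup_le c.sylow_le st.H_le) fun g hg => ?_
    obtain ⟨s, hs, h, hh, rfl⟩ := st.decomp g hg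
    exact Subgroup.mul_mem_sup hs hh
  have hcop : (Nat.card H).Coprime (Nat.card (S : Subgroup G)) := by
    rw [hn]; exact (Nat.prime_two.coprime_iff_not_dvd.2 st.H_odd).symm.pow_right n
  rw [← e, sup_comm, card_sup_coprime st.H_le hcop, mul_comm]

theorem sup_le_nS (st : SEStruct r S H H₀) : (S : Subgroup G) ⊔ H₀ ≤ nS S :=
  sup_le c.sylow_le (st.H₀_le.trans st.H_le)

theorem sup_normal (st : SEStruct r S H H₀) :
    nS S ≤ Subgroup.normalizer (((S : Subgroup G) ⊔ H₀ : Subgroup G) : Set G) := by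
  intro g hg
  obtain ⟨s, hs, h, hh, rfl⟩ := st.decomp g hg
  refine Subgroup.mul_mem _ (Subgroup.le_normalizer (Subgroup.mem_sup_left hs)) ?_
  rw [mem_normalizer_iff_smul, Subgroup.smul_sup, normalizer_le_smul st.normal hh,
    normalizer_le_smul st.H_le hh]

theorem mem_sup_of_coprime (st : SEStruct r S H H₀) {n : G} (hn : n ∈ nS S)
    (hcop : (orderOf n).Coprime r) : n ∈ (S : Subgroup G) ⊔ H₀ := by
  obtain ⟨s, hs, h, hh, rfl⟩ := st.decomp n hn
  refine Subgroup.mul_mem_sup hs (st.mem₀ h hh (hcop.coprime_dvd_left ?_))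
  refine orderOf_dvd_of_pow_eq_one ?_
  have h1 := mul_pow_mul_inv_mem (S : Subgroup G) (y := h) (st.H_le hh) hs (orderOf (s * h))
  rw [pow_orderOf_eq_one, one_mul, Subgroup.inv_mem_iff] at h1
  by_contra hne
  have h2 := c.orderOf_two h1 hne
  exact st.H_odd (h2 ▸ Subgroup.orderOf_dvd_natCard _ (H.pow_mem hh _))

/-- The two-point stabiliser part of order prime to `r`. -/
theorem inv_core [IsSimpleGroup G] (st : SEStruct r S H H₀) {w : G} (hw : orderOf w = 2)
    (hwN : w ∉ nS S) :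
    ∃ J : Subgroup G, J = (nS S ⊓ (nS S).map (MulAut.conj w).toMonoidHom) ⊓ ((S : Subgroup G) ⊔ H₀) ∧
      Nat.card J = Nat.card (S : Subgroup G) - 1 ∧ (∀ j ∈ J, w * j * w⁻¹ = j⁻¹) ∧
      Nat.card ↥(nS S ⊓ (nS S).map (MulAut.conj w).toMonoidHom) ∣ r * (Nat.card (S : Subgroup G) - 1) ∧
      ∃ s ∈ (S : Subgroup G), MulAut.conj s • H₀ = J := by
  classical
  haveI := Fact.mk Nat.prime_two
  set D := nS S ⊓ (nS S).map (MulAut.conj w).toMonoidHom with hD
  set m := Nat.card (S : Subgroup G) - 1 with hm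
  set J := D ⊓ ((S : Subgroup G) ⊔ H₀) with hJ
  have hDodd : ¬ 2 ∣ Nat.card D := fun hd =>
    (Nat.not_even_iff_odd.2 (c.se.2.2 w hwN)) (even_iff_two_dvd.2 hd)
  have hJodd : ¬ 2 ∣ Nat.card J := fun hd => hDodd (hd.trans (Subgroup.card_dvd_of_le inf_le_left))
  obtain ⟨n, hn⟩ := S.isPGroup'.exists_card_eq
  have hcH : (Nat.card H₀).Coprime (Nat.card (S : Subgroup G)) := by
    rw [hn]
    exact (Nat.prime_two.coprime_iff_not_dvd.2
      fun hd => st.H_odd (hd.trans (Subgroup.card_dvd_of_le st.H₀_le))).symm.pow_right n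
  have hN0 : Nat.card ↥((S : Subgroup G) ⊔ H₀) = m * Nat.card (S : Subgroup G) := by
    rw [sup_comm, card_sup_coprime (st.H₀_le.trans st.H_le) hcH, st.card_H₀]
  have hJm : Nat.card J ∣ m := by
    have h1 : Nat.card J ∣ m * Nat.card (S : Subgroup G) :=
      hN0 ▸ Subgroup.card_dvd_of_le inf_le_right
    refine Nat.Coprime.dvd_of_dvd_mul_right ?_ h1
    rw [hn]; exact (Nat.prime_two.coprime_iff_not_dvd.2 hJodd).symm.pow_right n
  obtain ⟨a, ha, ha1⟩ := c.exists_mem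
  have hmD : m ∣ Nat.card D := Dvd.intro _ (c.card_trans (K := D) inf_le_left ha ha1
    fun b hb hb1 => c.trans hw hwN ha ha1 hb hb1)
  have hm0 : 0 < m := by have := c.four_le; omega
  have hcardN := c.card_nS st
  rw [st.card_H, ← hm] at hcardN
  have hDq : Nat.card D ∣ r * m := by
    have hDS : D ≤ Subgroup.normalizer ((S : Subgroup G) : Set G) := inf_le_left
    have h1 := Subgroup.card_dvd_of_le (sup_le (inf_le_left : D ≤ nS S) c.sylow_le)
    rw [card_sup_coprime hDS (by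
      rw [hn]; exact (Nat.prime_two.coprime_iff_not_dvd.2 hDodd).symm.pow_right n), hcardN,
      mul_comm] at h1
    exact Nat.dvd_of_mul_dvd_mul_left Nat.card_pos h1
  have hDJ : Nat.card D ∣ r * Nat.card J := by
    have hle : D ≤ Subgroup.normalizer (((S : Subgroup G) ⊔ H₀ : Subgroup G) : Set G) :=
      inf_le_left.trans (c.sup_normal st)
    have h1 := card_sup_mul_card_inf hle
    have h2 := Subgroup.card_dvd_of_le (sup_le (inf_le_left : D ≤ nS S) (c.sup_le_nS st))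
    rw [hcardN] at h2
    have h3 := mul_dvd_mul_right h2 (Nat.card J)
    rw [hJ, h1, hN0] at h3
    rw [← hJ] at h3
    refine Nat.dvd_of_mul_dvd_mul_right (Nat.mul_pos hm0 (Nat.card_pos (α := (S : Subgroup G)))) ?_
    calc Nat.card D * (m * Nat.card (S : Subgroup G))
        ∣ Nat.card (S : Subgroup G) * (r * m) * Nat.card J := h3
      _ = r * Nat.card J * (m * Nat.card (S : Subgroup G)) := by ring
  have hJc : Nat.card J = m := by
    refine Nat.dvd_antisymm hJm ?_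
    refine Nat.Coprime.dvd_of_dvd_mul_left ?_ (hmD.trans hDJ)
    exact (c.twoR.prime.coprime_iff_not_dvd.2 st.coprime).symm
  have hcop : ∀ j ∈ J, (orderOf j).Coprime r := fun j hj =>
    (show m.Coprime r from (c.twoR.prime.coprime_iff_not_dvd.2 st.coprime).symm).coprime_dvd_left
      (hJc ▸ Subgroup.orderOf_dvd_natCard _ hj)
  have hoj : ∀ j ∈ J, ¬ 2 ∣ orderOf j := fun j hj hd =>
    hJodd (hd.trans (Subgroup.orderOf_dvd_natCard _ hj))
  have hww := Invol.mul_self_of_orderOf_two hw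
  have hwn : ∀ j ∈ J, w * j * w⁻¹ ∈ J := by
    intro j hj
    obtain ⟨hj1, hj2⟩ := Invol.mem_inf_map_conj.1 hj.1
    have hwN' : w * j * w⁻¹ ∈ nS S := by
      have := Invol.inv_of_orderOf_two hw
      rw [this] at hj2 ⊢; exact hj2
    refine ⟨Invol.mem_inf_map_conj.2 ⟨hwN', ?_⟩,
      c.mem_sup_of_coprime st hwN' (by rw [Invol.orderOf_conj_eq]; exact hcop j hj)⟩
    rw [show w⁻¹ * (w * j * w⁻¹) * w = j by group]; exact hj1
  refine ⟨J, rfl, hJc, fun j hj => inverts_of_fpf J hww hwn (fun k hk hc =>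
    c.eq_one_of_commute hw hc (hoj k hk) (hcop k hk)) hj, hDq, ?_⟩
  exact exists_conj_of_le_sup (N := (S : Subgroup G)) (H := H₀) (K := J) (st.H₀_le.trans st.H_le)
    inf_le_right (hJc.trans st.card_H₀.symm) hcH.symm
    (Or.inl (by haveI := S.isPGroup'.isNilpotent; infer_instance))

/-- The mixed case forces `r = 3` and a centraliser of order 18. -/
theorem exists_eighteen [IsSimpleGroup G] (st : SEStruct r S H H₀) :
    r = 3 ∧ ∃ x a : G, orderOf x = 3 ∧ orderOf a = 2 ∧ Commute x a ∧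
      Nat.card (Subgroup.centralizer ({x} : Set G)) = 18 ∧
      (∀ k : G, Commute k x → Commute k a → k ^ 3 = 1 → k ∈ Subgroup.zpowers x) ∧
      (∀ g : G, g * x * g⁻¹ ≠ x⁻¹) ∧
      (∀ t k : G, orderOf t = 2 → orderOf k = 3 → Commute k t →
        ∃ g : G, g * k * g⁻¹ = x ∨ g * k * g⁻¹ = x⁻¹) := by
  classical
  haveI := Fact.mk Nat.prime_two
  have hr := c.twoR.prime
  haveI := Fact.mk hr
  have h4 := c.four_le
  obtain ⟨v, hv, hvN⟩ := c.exists_outside
  have hvv := Invol.mul_self_of_orderOf_two hv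
  have hvi := Invol.inv_of_orderOf_two hv
  obtain ⟨J, hJ, hJc, hJinv, hDle, s₀, hs₀, hs₀J⟩ := c.inv_core st hv hvN
  set D := nS S ⊓ (nS S).map (MulAut.conj v).toMonoidHom with hD
  set m := Nat.card (S : Subgroup G) - 1 with hm
  have hJD : J ≤ D := hJ ▸ inf_le_left
  have hDN : D ≤ nS S := inf_le_left
  have hJN : J ≤ nS S := hJD.trans hDN
  have hcopJ : ∀ j ∈ J, (orderOf j).Coprime r := fun j hj =>
    (show m.Coprime r from (hr.coprime_iff_not_dvd.2 st.coprime).symm).coprime_dvd_left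
      (hJc ▸ Subgroup.orderOf_dvd_natCard _ hj)
  have hmpos : 3 ≤ m := by omega
  have hmodd : ¬ 2 ∣ m := fun hd =>
    st.H_odd ((hd.trans (dvd_of_eq st.card_H₀.symm)).trans (Subgroup.card_dvd_of_le st.H₀_le))
  have hoddJ : ∀ j ∈ J, ¬ 2 ∣ orderOf j := fun j hj hd =>
    hmodd (hd.trans (hJc ▸ Subgroup.orderOf_dvd_natCard _ hj))
  obtain ⟨j₀, hj₀, hj₀1⟩ : ∃ j ∈ J, j ≠ 1 := J.bot_or_exists_ne_one.resolve_left fun e => by
    rw [e, Subgroup.card_bot] at hJc; omega
  -- elements centralising `J` lie in `N(S)`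
  have hCJ : ∀ g : G, (∀ j ∈ J, g⁻¹ * j * g ∈ nS S) → g ∉ nS S →
      ∃ w : G, orderOf w = 2 ∧ w ∉ nS S ∧ w⁻¹ * g ∈ nS S ∧ ∀ j ∈ J, w * j * w⁻¹ = j⁻¹ := by
    intro g hg hgN
    obtain ⟨w, hw, hwN, hwg⟩ := c.exists_swap_rep hgN
    obtain ⟨J', hJ', hJ'c, hJ'inv, -, -⟩ := c.inv_core st hw hwN
    refine ⟨w, hw, hwN, hwg, fun j hj => hJ'inv j ?_⟩
    have hle : J ≤ J' := by
      intro k hk
      rw [hJ']
      refine ⟨Invol.mem_inf_map_conj.2 ⟨hJN hk, ?_⟩, (hJ.le hk).2⟩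
      have h1 := mem_conj_normalizer (K := nS S) (Subgroup.le_normalizer hwg) (hg k hk)
      rw [show w⁻¹ * g * (g⁻¹ * k * g) * (w⁻¹ * g)⁻¹ = w⁻¹ * k * w by group] at h1
      exact h1
    exact (Subgroup.eq_of_le_of_card_ge hle (by rw [hJc, hJ'c])).le hj
  have hcent : ∀ g : G, (∀ j ∈ J, Commute g j) → g ∈ nS S := by
    intro g hg
    by_contra hgN
    obtain ⟨w, -, -, hwg, hwinv⟩ := hCJ g (fun j hj => by
      rw [mul_assoc, ← (hg j hj).eq, inv_mul_cancel_left]; exact hJN hj) hgN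
    refine hj₀1 (c.no_inverter (n := (w⁻¹ * g)⁻¹) ((nS S).inv_mem hwg) (hJN hj₀) (hoddJ _ hj₀)
      (hcopJ _ hj₀) ?_)
    calc (w⁻¹ * g)⁻¹ * j₀ * ((w⁻¹ * g)⁻¹)⁻¹ = g⁻¹ * (w * j₀ * w⁻¹) * g := by group
      _ = g⁻¹ * j₀⁻¹ * g := by rw [hwinv _ hj₀]
      _ = j₀⁻¹ := by rw [mul_assoc, ← (hg _ hj₀).inv_right.eq, inv_mul_cancel_left]
  -- the point fixed by `J`
  have hpoint : ∀ g : G, (∀ j ∈ J, g⁻¹ * j * g ∈ nS S) → g ∉ nS S → v⁻¹ * g ∈ nS S := by
    intro g hg hgN
    obtain ⟨w, -, -, hwg, hwinv⟩ := hCJ g hg hgN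
    have h1 : v⁻¹ * w ∈ nS S := hcent _ fun j hj => by
      refine mul_inv_eq_iff_eq_mul.1 ?_
      calc v⁻¹ * w * j * (v⁻¹ * w)⁻¹ = v⁻¹ * (w * j * w⁻¹) * v := by group
        _ = v⁻¹ * j⁻¹ * v := by rw [hwinv j hj]
        _ = v⁻¹ * (v * j * v⁻¹) * v := by rw [hJinv j hj]
        _ = j := by group
    simpa [mul_assoc] using (nS S).mul_mem h1 hwg
  -- every other point is `s v`
  have hpts : ∀ g : G, g ∉ nS S → ∃ s ∈ (S : Subgroup G), (s * v)⁻¹ * g ∈ nS S := by
    intro g hg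
    obtain ⟨w, hw, hwN, hwg⟩ := c.exists_swap_rep hg
    obtain ⟨J', hJ', -, -, -, s₁, hs₁, hs₁J⟩ := c.inv_core st hw hwN
    refine ⟨s₁ * s₀⁻¹, Subgroup.mul_mem _ hs₁ (Subgroup.inv_mem _ hs₀), ?_⟩
    rw [show (s₁ * s₀⁻¹ * v)⁻¹ * g = v⁻¹ * ((s₁ * s₀⁻¹)⁻¹ * g) by group]
    refine hpoint _ (fun j hj => ?_) fun h => hg ?_
    · have hmem : s₁ * s₀⁻¹ * j * (s₁ * s₀⁻¹)⁻¹ ∈ J' := by
        rw [← hs₁J, mem_smul_conj]
        rw [← hs₀J, mem_smul_conj] at hj
        simpa [mul_assoc] using hj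
      rw [hJ'] at hmem
      have h2 := mem_conj_normalizer' (K := nS S) (Subgroup.le_normalizer hwg)
        (Invol.mem_inf_map_conj.1 hmem.1).2
      rw [show (w⁻¹ * g)⁻¹ * (w⁻¹ * (s₁ * s₀⁻¹ * j * (s₁ * s₀⁻¹)⁻¹) * w) * (w⁻¹ * g) =
        ((s₁ * s₀⁻¹)⁻¹ * g)⁻¹ * j * ((s₁ * s₀⁻¹)⁻¹ * g) by group] at h2
      exact h2
    · have h' := (nS S).mul_mem (c.sylow_le (Subgroup.mul_mem _ hs₁ (Subgroup.inv_mem _ hs₀))) h
      rwa [mul_inv_cancel_left] at h'
  have hDodd : ¬ 2 ∣ Nat.card D := fun hd =>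
    (Nat.not_even_iff_odd.2 (c.se.2.2 v hvN)) (even_iff_two_dvd.2 hd)
  have hSD : ∀ d ∈ D, d ∈ (S : Subgroup G) → d = 1 := fun d hd hs => by
    by_contra h1
    exact hDodd (c.orderOf_two hs h1 ▸ Subgroup.orderOf_dvd_natCard _ hd)
  have hdec : ∀ n ∈ nS S, ∃ s ∈ (S : Subgroup G), ∃ d ∈ D, n = s * d := by
    intro n hn
    obtain ⟨s, hs, hmem⟩ := hpts (n * v) (fun h => hvN (by simpa using (nS S).mul_mem ((nS S).inv_mem hn) h))
    refine ⟨s, hs, s⁻¹ * n, Invol.mem_inf_map_conj.2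
      ⟨(nS S).mul_mem ((nS S).inv_mem (c.sylow_le hs)) hn, ?_⟩, by group⟩
    simpa [mul_assoc] using hmem
  have huniq : ∀ s ∈ (S : Subgroup G), ∀ s' ∈ (S : Subgroup G), ∀ d ∈ D, ∀ d' ∈ D,
      s * d = s' * d' → s = s' ∧ d = d' := by
    intro s hs s' hs' d hd d' hd' e
    have e2 : s'⁻¹ * s = d' * d⁻¹ := by
      calc s'⁻¹ * s = s'⁻¹ * (s * d) * d⁻¹ := by group
        _ = s'⁻¹ * (s' * d') * d⁻¹ := by rw [e]
        _ = _ := by group
    have h1 := hSD _ (D.mul_mem hd' (D.inv_mem hd))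
      (e2 ▸ Subgroup.mul_mem _ (Subgroup.inv_mem _ hs') hs)
    refine ⟨?_, (mul_inv_eq_one.1 h1).symm⟩
    rw [h1, inv_mul_eq_one] at e2
    exact e2.symm
  obtain ⟨n₂, hn₂⟩ := S.isPGroup'.exists_card_eq
  have hDc : Nat.card D = r * m := by
    refine Nat.dvd_antisymm hDle ?_
    have e : D ⊔ (S : Subgroup G) = nS S := by
      refine le_antisymm (sup_le hDN c.sylow_le) fun g hg => ?_
      obtain ⟨s, hs, d, hd, rfl⟩ := hdec g hg
      exact Subgroup.mul_mem _ (Subgroup.mem_sup_right hs) (Subgroup.mem_sup_left hd)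
    have hcop : (Nat.card D).Coprime (Nat.card (S : Subgroup G)) := by
      rw [hn₂]; exact (Nat.prime_two.coprime_iff_not_dvd.2 hDodd).symm.pow_right n₂
    have h1 := c.card_nS st
    rw [← e, card_sup_coprime hDN hcop, st.card_H, mul_comm] at h1
    exact dvd_of_eq (Nat.eq_of_mul_eq_mul_left Nat.card_pos h1).symm
  have hDJn : D ≤ Subgroup.normalizer (J : Set G) := by
    intro d hd
    refine mem_normalizer_fintype fun j hj => hJ.ge ⟨?_, ?_⟩
    · exact D.mul_mem (D.mul_mem hd (hJD hj)) (D.inv_mem hd)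
    · exact mem_conj_normalizer (c.sup_normal st (hDN hd)) (hJ.le hj).2
  -- an element of order `r` of `D` commuting with `v`
  have hvD : Subgroup.zpowers v ≤ Subgroup.normalizer (D : Set G) := by
    rw [Subgroup.zpowers_le]
    refine mem_normalizer_fintype fun d hd => ?_
    obtain ⟨h1, h2⟩ := Invol.mem_inf_map_conj.1 hd
    rw [hvi] at h2 ⊢
    refine Invol.mem_inf_map_conj.2 ⟨h2, ?_⟩
    rw [hvi, show v * (v * d * v) * v = (v * v) * d * (v * v) by group, hvv, one_mul, mul_one]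
    exact h1
  obtain ⟨X, hX, hXv⟩ := exists_invariant_sylow (Subgroup.zpowers v) D hvD (by
    rw [Nat.card_zpowers, hv]; exact Nat.prime_two.coprime_iff_not_dvd.2 hDodd)
    (Or.inl inferInstance) r
  have hXc : Nat.card X = r := by
    rw [hX.card, hDc, Nat.factorization_mul hr.ne_zero (by omega), Finsupp.add_apply,
      hr.factorization_self, Nat.factorization_eq_zero_of_not_dvd st.coprime, pow_one]
  obtain ⟨x, hxX, hx1⟩ : ∃ x ∈ X, x ≠ 1 := X.bot_or_exists_ne_one.resolve_left fun e => by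
    rw [e, Subgroup.card_bot] at hXc; exact hr.one_lt.ne hXc
  have hxD : x ∈ D := hX.1 hxX
  have hxr : orderOf x = r :=
    ((Nat.dvd_prime hr).1 (hXc ▸ Subgroup.orderOf_dvd_natCard _ hxX)).resolve_left
      fun e => hx1 (orderOf_eq_one_iff.1 e)
  have hXz : Subgroup.zpowers x = X := Subgroup.eq_of_le_of_card_ge (Subgroup.zpowers_le.2 hxX)
    (by rw [Nat.card_zpowers, hxr, hXc])
  have hxj : ∀ j ∈ J, Commute x j → j = 1 := by
    intro j hj hc
    by_contra h1
    obtain ⟨t, ht, htd⟩ :=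
      Nat.exists_prime_and_dvd (fun e => h1 (orderOf_eq_one_iff.1 e) : orderOf j ≠ 1)
    rcases c.twoR.primes_of_commute (Or.inr hxr) hc.symm ht htd with e | e
    · exact hoddJ j hj (e ▸ htd)
    · exact hr.ne_one (Nat.eq_one_of_dvd_coprimes (hcopJ j hj) (e ▸ htd) dvd_rfl)
  have hxv : Commute x v := by
    by_contra hne
    have hXn : ∀ k ∈ X, v * k * v⁻¹ ∈ X := fun k hk =>
      mem_conj_normalizer (hXv (Subgroup.mem_zpowers v)) hk
    have hfpf : ∀ k ∈ X, Commute k v → k = 1 := by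
      intro k hk hc
      by_contra hk1
      apply hne
      have hkr : orderOf k = r :=
        ((Nat.dvd_prime hr).1 (hXc ▸ Subgroup.orderOf_dvd_natCard _ hk)).resolve_left
          fun e => hk1 (orderOf_eq_one_iff.1 e)
      have hxk : x ∈ Subgroup.zpowers k := by
        rw [Subgroup.eq_of_le_of_card_ge (Subgroup.zpowers_le.2 hk) (by rw [Nat.card_zpowers, hkr, hXc])]
        exact hxX
      obtain ⟨i, rfl⟩ := Subgroup.mem_zpowers_iff.1 hxk
      exact hc.zpow_left i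
    have hxinv := inverts_of_fpf X hvv hXn hfpf hxX
    refine hj₀1 (hxj j₀ hj₀ ?_)
    have hmem : x * j₀ * x⁻¹ ∈ J := mem_conj_normalizer (hDJn hxD) hj₀
    have e1 := hJinv _ hmem
    have e2 : v * (x * j₀ * x⁻¹) * v⁻¹ = x⁻¹ * j₀⁻¹ * x := by
      calc v * (x * j₀ * x⁻¹) * v⁻¹ = (v * x * v⁻¹) * (v * j₀ * v⁻¹) * (v * x * v⁻¹)⁻¹ := by group
        _ = _ := by rw [hxinv, hJinv j₀ hj₀, inv_inv]
    rw [e2] at e1
    have h2 : Commute (x ^ 2) j₀ := by
      refine mul_inv_eq_iff_eq_mul.1 ?_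
      calc x ^ 2 * j₀ * (x ^ 2)⁻¹ = x * ((x * j₀ * x⁻¹)⁻¹)⁻¹ * x⁻¹ := by rw [sq]; group
        _ = x * (x⁻¹ * j₀⁻¹ * x)⁻¹ * x⁻¹ := by rw [e1]
        _ = j₀ := by group
    have hz : x ∈ Subgroup.zpowers (x ^ 2) := by
      rw [mem_zpowers_pow_iff, hxr, ← Nat.coprime_iff_gcd_eq_one]
      exact (Nat.coprime_primes Nat.prime_two hr).2 (Ne.symm c.twoR.ne_two)
    obtain ⟨i, hi⟩ := Subgroup.mem_zpowers_iff.1 hz
    exact hi ▸ h2.zpow_left i
  have hxN : x ∈ nS S := hDN hxD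
  -- the involution of `S` fixed by `x`
  obtain ⟨a, haS, ha1, hxa⟩ : ∃ a ∈ (S : Subgroup G), a ≠ 1 ∧ Commute x a := by
    let φ : Subgroup.zpowers x →* MulAut (S : Subgroup G) :=
      (Subgroup.normalizerMonoidHom (S : Subgroup G)).comp
        (Subgroup.inclusion (Subgroup.zpowers_le.mpr hxN))
    letI : MulAction (Subgroup.zpowers x) (S : Subgroup G) := MulAction.compHom _ φ
    have hP : IsPGroup r (Subgroup.zpowers x) :=
      IsPGroup.of_card (n := 1) (by rw [Nat.card_zpowers, hxr, pow_one])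
    by_contra hcon
    push Not at hcon
    have hfix : Nat.card (MulAction.fixedPoints (Subgroup.zpowers x) (S : Subgroup G)) = 1 := by
      rw [Nat.card_eq_one_iff_unique]
      refine ⟨⟨fun y z => ?_⟩, ⟨⟨1, fun g => map_one (φ g)⟩⟩⟩
      have key : ∀ w : MulAction.fixedPoints (Subgroup.zpowers x) (S : Subgroup G),
          (w : (S : Subgroup G)) = 1 := by
        intro w
        by_contra hw1
        have h := congrArg Subtype.val (w.2 ⟨x, Subgroup.mem_zpowers x⟩)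
        change x * ((w : (S : Subgroup G)) : G) * x⁻¹ = ((w : (S : Subgroup G)) : G) at h
        exact hcon _ (w : (S : Subgroup G)).2 (fun e => hw1 (Subtype.ext e))
          (mul_inv_eq_iff_eq_mul.mp h)
      exact Subtype.ext ((key y).trans (key z).symm)
    have h := hP.card_modEq_card_fixedPoints (α := (S : Subgroup G))
    rw [hfix] at h
    exact st.coprime ((Nat.modEq_iff_dvd' (Nat.card_pos (α := (S : Subgroup G)))).1 h.symm)
  have ha2 := c.orderOf_two haS ha1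
  -- `x` fixes only `a`
  have huniqa : ∀ b ∈ (S : Subgroup G), Commute x b → b = 1 ∨ b = a := by
    intro b hb hxb
    by_cases hb1 : b = 1
    · exact Or.inl hb1
    right
    obtain ⟨n, hn, hnb⟩ := c.trans_nS haS ha1 hb hb1
    obtain ⟨s, hs, d, hd, rfl⟩ := hdec n hn
    have hdb : d * a * d⁻¹ = b := by
      calc d * a * d⁻¹ = s⁻¹ * (s * d * a * (s * d)⁻¹) * s := by group
        _ = s⁻¹ * b * s := by rw [hnb]
        _ = b := by rw [mul_assoc, c.comm hb hs, inv_mul_cancel_left]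
    have hDsup : J ⊔ X = D := by
      refine Subgroup.eq_of_le_of_card_ge (sup_le hJD hX.1) ?_
      rw [sup_comm, card_sup_coprime (hX.1.trans hDJn) (by
        rw [hXc, hJc]; exact hr.coprime_iff_not_dvd.2 st.coprime), hXc, hJc, hDc]
    have hd' : d ∈ J ⊔ X := hDsup ▸ hd
    rw [← SetLike.mem_coe, Subgroup.coe_mul_of_right_le_normalizer_left J X (hX.1.trans hDJn)] at hd'
    obtain ⟨j, hj, y, hy, rfl⟩ := hd'
    have hya : Commute y a := by
      rw [SetLike.mem_coe, ← hXz] at hy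
      obtain ⟨i, rfl⟩ := Subgroup.mem_zpowers_iff.1 hy
      exact hxa.zpow_left i
    have hjb : j * a * j⁻¹ = b := by
      rw [← hdb]
      calc j * a * j⁻¹ = j * (y * a * y⁻¹) * j⁻¹ := by rw [mul_inv_eq_iff_eq_mul.2 hya.eq]
        _ = _ := by group
    have hmem : j⁻¹ * (x * j * x⁻¹) ∈ J := J.mul_mem (J.inv_mem hj) (mem_conj_normalizer (hDJn hxD) hj)
    have hca : Commute (j⁻¹ * (x * j * x⁻¹)) a := by
      refine mul_inv_eq_iff_eq_mul.1 ?_
      calc j⁻¹ * (x * j * x⁻¹) * a * (j⁻¹ * (x * j * x⁻¹))⁻¹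
          = j⁻¹ * (x * (j * (x⁻¹ * a * x) * j⁻¹) * x⁻¹) * j := by group
        _ = j⁻¹ * (x * b * x⁻¹) * j := by rw [mul_assoc x⁻¹, ← hxa.eq, inv_mul_cancel_left, hjb]
        _ = j⁻¹ * (j * a * j⁻¹) * j := by rw [mul_inv_eq_iff_eq_mul.2 hxb.eq, hjb]
        _ = a := by group
    have h1 := c.eq_one_of_commute ha2 hca (hoddJ _ hmem) (hcopJ _ hmem)
    have hj1 := hxj j hj (mul_inv_eq_iff_eq_mul.1 (inv_mul_eq_one.1 h1).symm)
    rw [← hjb, hj1]; simp
  have hav : a * v ∉ nS S := fun h => hvN (by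
    simpa using (nS S).mul_mem ((nS S).inv_mem (c.sylow_le haS)) h)
  have hvav : v⁻¹ * (a * v) ∉ nS S := fun h => ha1 (hSD a
    (Invol.mem_inf_map_conj.2 ⟨c.sylow_le haS, by simpa [mul_assoc] using h⟩) haS)
  -- the fixed points of `x`
  have hfixpts : ∀ g : G, g⁻¹ * x * g ∈ nS S →
      g ∈ nS S ∨ v⁻¹ * g ∈ nS S ∨ (a * v)⁻¹ * g ∈ nS S := by
    intro g hg
    by_cases hgN : g ∈ nS S
    · exact Or.inl hgN
    obtain ⟨s, hs, hsg⟩ := hpts g hgN
    have h1 := mem_conj_normalizer (K := nS S) (Subgroup.le_normalizer hsg) hg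
    rw [show (s * v)⁻¹ * g * (g⁻¹ * x * g) * ((s * v)⁻¹ * g)⁻¹ = v⁻¹ * (s⁻¹ * x * s) * v by group] at h1
    have hsx : s⁻¹ * x * s ∈ D := Invol.mem_inf_map_conj.2
      ⟨(nS S).mul_mem ((nS S).mul_mem ((nS S).inv_mem (c.sylow_le hs)) hxN) (c.sylow_le hs), h1⟩
    have h3 : x * s * x⁻¹ = s := (huniq _ (mem_conj_normalizer hxN hs) s hs x hxD _ hsx (by group)).1
    rcases huniqa s hs (mul_inv_eq_iff_eq_mul.1 h3) with e | e
    · rw [e, one_mul] at hsg; exact Or.inr (Or.inl hsg)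
    · rw [e] at hsg; exact Or.inr (Or.inr hsg)
  have hCD : ∀ d ∈ D, Commute d x → d ∈ X := by
    intro d hd hc
    set Y := D ⊓ Subgroup.centralizer ({x} : Set G) with hY
    have hYJ : Y ⊓ J = ⊥ := by
      rw [eq_bot_iff]
      intro k hk
      exact Subgroup.mem_bot.2 (hxj k hk.2
        ((Subgroup.mem_centralizer_singleton_iff.1 hk.1.2).symm : Commute x k))
    have hYn : Y ≤ Subgroup.normalizer (J : Set G) := inf_le_left.trans hDJn
    have h1 := Subgroup.card_dvd_of_le (sup_le (inf_le_left : Y ≤ D) hJD)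
    have h2 := card_sup_mul_card_inf hYn
    rw [hYJ, Subgroup.card_bot, mul_one] at h2
    rw [h2, hDc, hJc] at h1
    have h3 : Nat.card Y ∣ r := Nat.dvd_of_mul_dvd_mul_right (by omega : 0 < m) h1
    have hXY : X ≤ Y := le_inf hX.1 (hXz ▸ Subgroup.zpowers_le.2
      (Subgroup.mem_centralizer_singleton_iff.2 rfl))
    rw [Subgroup.eq_of_le_of_card_ge hXY (by rw [hXc]; exact Nat.le_of_dvd hr.pos h3)]
    exact ⟨hd, Subgroup.mem_centralizer_singleton_iff.2 hc.eq⟩
  have hCN : ∀ n ∈ nS S, Commute n x → ∃ s, (s = 1 ∨ s = a) ∧ ∃ d ∈ X, n = s * d := by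
    intro n hn hc
    obtain ⟨s, hs, d, hd, rfl⟩ := hdec n hn
    obtain ⟨e1, e2⟩ := huniq _ (mem_conj_normalizer hxN hs) s hs (x * d * x⁻¹)
      (D.mul_mem (D.mul_mem hxD hd) (D.inv_mem hxD)) d hd (by
        calc x * s * x⁻¹ * (x * d * x⁻¹) = x * (s * d) * x⁻¹ := by group
          _ = s * d := by rw [← hc.eq, mul_inv_cancel_right])
    exact ⟨s, huniqa s hs (mul_inv_eq_iff_eq_mul.1 e1), d, hCD d hd
      (mul_inv_eq_iff_eq_mul.1 e2).symm, rfl⟩
  set C := Subgroup.centralizer ({x} : Set G) with hC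
  have hxC : ∀ {k : G}, k ∈ C ↔ Commute k x := Subgroup.mem_centralizer_singleton_iff
  have haC : a ∈ C := hxC.2 hxa.symm
  have hvC : v ∈ C := hxC.2 hxv.symm
  -- `|C(x)| = 6 r`
  have hCcard : Nat.card C = 2 * r * 3 := by
    have hidx : ((nS S).subgroupOf C).index = 3 := by
      have hst : MulAction.stabilizer C (QuotientGroup.mk 1 : G ⧸ nS S) = (nS S).subgroupOf C := by
        ext k
        rw [MulAction.mem_stabilizer_iff, Subgroup.mem_subgroupOf]
        show (k : G) • (QuotientGroup.mk 1 : G ⧸ nS S) = _ ↔ _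
        rw [Invol.smul_coset_eq_iff, inv_one, one_mul, mul_one]
      rw [← hst, MulAction.index_stabilizer]
      have horb : MulAction.orbit C (QuotientGroup.mk 1 : G ⧸ nS S) =
          {QuotientGroup.mk 1, QuotientGroup.mk v, QuotientGroup.mk (a * v)} := by
        ext z
        constructor
        · rintro ⟨k, rfl⟩
          show (k : G) • (QuotientGroup.mk 1 : G ⧸ nS S) ∈ _
          rw [MulAction.Quotient.smul_mk, smul_eq_mul, mul_one]
          have hk := hxC.1 k.2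
          rcases hfixpts (k : G) (by rw [mul_assoc, ← hk.eq, inv_mul_cancel_left]; exact hxN) with e | e | e
          · exact Or.inl (QuotientGroup.eq.2 (by simpa using (nS S).inv_mem e))
          · exact Or.inr (Or.inl (QuotientGroup.eq.2 e).symm)
          · exact Or.inr (Or.inr (QuotientGroup.eq.2 e).symm)
        · rintro (rfl | rfl | rfl)
          · exact ⟨1, one_smul _ _⟩
          · exact ⟨⟨v, hvC⟩, by
              show v • (QuotientGroup.mk 1 : G ⧸ nS S) = _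
              rw [MulAction.Quotient.smul_mk, smul_eq_mul, mul_one]⟩
          · exact ⟨⟨a * v, C.mul_mem haC hvC⟩, by
              show (a * v) • (QuotientGroup.mk 1 : G ⧸ nS S) = _
              rw [MulAction.Quotient.smul_mk, smul_eq_mul, mul_one]⟩
      rw [horb, Set.ncard_eq_three]
      refine ⟨_, _, _, ?_, ?_, ?_, rfl⟩
      · exact fun e => hvN (by simpa using QuotientGroup.eq.1 e)
      · exact fun e => hav (by simpa using QuotientGroup.eq.1 e)
      · exact fun e => hvav (QuotientGroup.eq.1 e)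
    have hCNeq : C ⊓ nS S = Subgroup.zpowers a ⊔ X := by
      refine le_antisymm ?_ (sup_le ?_ ?_)
      · rintro n ⟨hn1, hn2⟩
        obtain ⟨s, hs, d, hd, rfl⟩ := hCN n hn2 (hxC.1 hn1)
        refine Subgroup.mul_mem_sup ?_ hd
        rcases hs with rfl | rfl
        · exact one_mem _
        · exact Subgroup.mem_zpowers _
      · exact Subgroup.zpowers_le.2 ⟨haC, c.sylow_le haS⟩
      · rw [← hXz, Subgroup.zpowers_le]; exact ⟨hxC.2 (Commute.refl x), hxN⟩
    have hnorm : Subgroup.zpowers a ≤ Subgroup.normalizer (X : Set G) := by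
      rw [Subgroup.zpowers_le, ← hXz]
      refine mem_normalizer_fintype ?_
      rintro _ ⟨i, rfl⟩
      exact ⟨i, by
        show x ^ i = a * x ^ i * a⁻¹
        rw [(hxa.zpow_left i).symm.eq, mul_inv_cancel_right]⟩
    have h := ((nS S).subgroupOf C).card_mul_index
    rw [hidx, ← Subgroup.inf_subgroupOf_left,
      Nat.card_congr (Subgroup.subgroupOfEquivOfLe (inf_le_left : C ⊓ nS S ≤ C)).toEquiv, hCNeq,
      card_sup_coprime hnorm (by
        rw [Nat.card_zpowers, ha2, hXc]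
        exact (Nat.coprime_primes Nat.prime_two hr).2 (Ne.symm c.twoR.ne_two)),
      Nat.card_zpowers, ha2, hXc] at h
    exact h.symm
  have hr3 : r = 3 := by
    by_contra hne
    haveI := Fact.mk Nat.prime_three
    obtain ⟨k, hk⟩ := exists_prime_orderOf_dvd_card' (G := C) 3 (hCcard ▸ dvd_mul_left 3 _)
    rw [← Subgroup.orderOf_coe] at hk
    rcases c.twoR.primes_of_commute (Or.inr hxr) (hxC.1 k.2) Nat.prime_three (by rw [hk]) with e | e
    · omega
    · exact hne e.symm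
  refine ⟨hr3, x, a, hxr.trans hr3, ha2, hxa, by rw [hCcard, hr3], ?_, ?_, ?_⟩
  · intro k hkx hka hk3
    have hkN : k ∈ nS S := c.cent a haS ha1 (Subgroup.mem_centralizer_singleton_iff.2 hka.eq)
    obtain ⟨s, hs, d, hd, rfl⟩ := hCN k hkN hkx
    rcases hs with rfl | rfl
    · rw [one_mul, hXz]; exact hd
    · exfalso
      rw [← hXz] at hd
      obtain ⟨i, rfl⟩ := Subgroup.mem_zpowers_iff.1 hd
      have hc : Commute s (x ^ i) := (hxa.zpow_left i).symm
      rw [hc.mul_pow] at hk3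
      have hd3 : (x ^ i) ^ 3 = 1 := by
        rw [← zpow_natCast, ← zpow_mul, mul_comm, zpow_mul, zpow_natCast, ← hr3, ← hxr,
          pow_orderOf_eq_one, one_zpow]
      rw [hd3, mul_one, pow_succ, pow_succ, pow_one, c.mul_self haS, one_mul] at hk3
      exact ha1 hk3
  · intro g hg
    have hfix : g⁻¹ * x * g ∈ nS S := by
      have : g⁻¹ * x * g = x⁻¹ := by
        calc g⁻¹ * x * g = g⁻¹ * (g * x * g⁻¹)⁻¹ * g := by rw [hg, inv_inv]
          _ = _ := by group
      rw [this]; exact (nS S).inv_mem hxN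
    obtain ⟨k, hkC, hkg⟩ : ∃ k ∈ C, k⁻¹ * g ∈ nS S := by
      rcases hfixpts g hfix with e | e | e
      · exact ⟨1, C.one_mem, by simpa using e⟩
      · exact ⟨v, hvC, e⟩
      · exact ⟨a * v, C.mul_mem haC hvC, e⟩
    have hninv : k⁻¹ * g * x * (k⁻¹ * g)⁻¹ = x⁻¹ := by
      calc k⁻¹ * g * x * (k⁻¹ * g)⁻¹ = k⁻¹ * (g * x * g⁻¹) * k := by group
        _ = k⁻¹ * x⁻¹ * k := by rw [hg]
        _ = x⁻¹ := by rw [mul_assoc, ← (hxC.1 hkC).inv_right.eq, inv_mul_cancel_left]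
    obtain ⟨s, hs, d, hd, hn⟩ := hdec _ hkg
    rw [hn] at hninv
    have h1 : x⁻¹ * (d * x * d⁻¹)⁻¹ ∈ (S : Subgroup G) := by
      have : x⁻¹ * (d * x * d⁻¹)⁻¹ = s * ((d * x * d⁻¹) * s⁻¹ * (d * x * d⁻¹)⁻¹) := by
        rw [← hninv]; group
      rw [this]
      exact Subgroup.mul_mem _ hs (mem_conj_normalizer
        (hDN (D.mul_mem (D.mul_mem hd hxD) (D.inv_mem hd))) (Subgroup.inv_mem _ hs))
    have h2 := hSD _ (D.mul_mem (D.inv_mem hxD)
      (D.inv_mem (D.mul_mem (D.mul_mem hd hxD) (D.inv_mem hd)))) h1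
    have h3 : d * x * d⁻¹ = x⁻¹ := (mul_inv_eq_one.1 h2).symm
    have hdo : ¬ 2 ∣ orderOf d := fun hh => hDodd (hh.trans (Subgroup.orderOf_dvd_natCard _ hd))
    have h5 := orderOf_dvd_of_pow_eq_one (show x ^ 2 = 1 by rw [sq]; exact commute_of_conj_inv hdo h3)
    rw [hxr, hr3] at h5
    omega
  · intro t k ht hk hkt
    obtain ⟨g, hg⟩ := isConj_iff.1 (Invol.isConj_involutions c.se ht ha2)
    set k' := g * k * g⁻¹ with hk'
    have hk'o : orderOf k' = 3 := by rw [hk', Invol.orderOf_conj_eq, hk]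
    have hk'N : k' ∈ nS S := c.cent a haS ha1 (Subgroup.mem_centralizer_singleton_iff.2 (by
      rw [← hg]; exact (hkt.map (MulAut.conj g)).eq))
    have hsyl : ∀ y ∈ nS S, orderOf y = r → IsSylowIn r (Subgroup.zpowers y) (nS S) := by
      intro y hy ho
      refine ⟨Subgroup.zpowers_le.2 hy, IsPGroup.of_card (n := 1) (by rw [Nat.card_zpowers, ho, pow_one]),
        fun hd => ?_⟩
      have h := ((Subgroup.zpowers y).subgroupOf (nS S)).card_mul_index
      rw [Nat.card_congr (Subgroup.subgroupOfEquivOfLe (Subgroup.zpowers_le.2 hy)).toEquiv,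
        Nat.card_zpowers, ho, c.card_nS st, st.card_H, ← hm, mul_left_comm] at h
      have h2 : ((Subgroup.zpowers y).subgroupOf (nS S)).index = Nat.card (S : Subgroup G) * m :=
        Nat.eq_of_mul_eq_mul_left hr.pos h
      rw [Subgroup.relIndex, h2] at hd
      rcases hr.dvd_mul.1 hd with e | e
      · exact c.twoR.ne_two ((Nat.prime_dvd_prime_iff_eq hr Nat.prime_two).1
          (hr.dvd_of_dvd_pow (hn₂ ▸ e)))
      · exact st.coprime e
    obtain ⟨n, -, hn⟩ := (hsyl k' hk'N (by rw [hk'o, hr3])).conj (hsyl x hxN hxr)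
    have hmem : n * k' * n⁻¹ ∈ Subgroup.zpowers x := by
      rw [← hn, mem_smul_conj]; simp [mul_assoc]
    refine ⟨n * g, ?_⟩
    rw [show n * g * k * (n * g)⁻¹ = n * k' * n⁻¹ by rw [hk']; group]
    have hne : n * k' * n⁻¹ ≠ 1 := fun e => by
      rw [conj_eq_one_iff] at e
      rw [e, orderOf_one] at hk'o; omega
    obtain ⟨i, hi⟩ := Subgroup.mem_zpowers_iff.1 hmem
    rw [← hi] at hne ⊢
    have h3 : x ^ (3 : ℤ) = 1 := by
      rw [show ((3 : ℤ)) = ((3 : ℕ) : ℤ) from rfl, zpow_natCast, ← hr3, ← hxr, pow_orderOf_eq_one]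
    have hred : x ^ i = x ^ (i % 3) := by
      conv_lhs => rw [← Int.emod_add_mul_ediv i 3, zpow_add, zpow_mul, h3, one_zpow, mul_one]
    rcases (by omega : i % 3 = 0 ∨ i % 3 = 1 ∨ i % 3 = 2) with e | e | e
    · exact absurd (by rw [hred, e, zpow_zero]) hne
    · left; rw [hred, e, zpow_one]
    · right
      rw [hred, e]
      refine eq_inv_of_mul_eq_one_left ?_
      rw [← zpow_add_one]; exact h3

end SEHyp

end Cfsg.Agent.Grp.ThreeOrders
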