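import Mathlib
import Cfsg.Prelude
import Cfsg.Agent.Lib.Transfer.HallWielandt
import Cfsg.Agent.Lib.Grp.ThreeOrders.SEThreeDouble

/-!
No simple group of type `TwoR` with `r = 3` has an element of order 3 with a centraliser of order 18
as in the mixed case.
-/

set_option autoImplicit false
set_option linter.style.haveILetI false
set_option linter.unusedSectionVars false
set_option linter.deprecated false

universe u

namespace Cfsg.Agent.Grp.ThreeOrders

open Subgroup
open scoped commutatorElement Pointwise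

variable {G : Type u} [Group G] [Finite G]

theorem engel_commute {x g : G} (h1 : (g * x) ^ 3 = 1) (h2 : (g * x⁻¹) ^ 3 = 1) (h3 : g ^ 3 = 1) :
    Commute x (g * x * g⁻¹) := by
  have e1 : g * x * g⁻¹ * (g ^ 2 * x * (g ^ 2)⁻¹) * (g ^ 3 * x) = (g * x) ^ 3 := by
    simp only [pow_succ, pow_zero, one_mul]; group
  have e2 : g * x⁻¹ * g⁻¹ * (g ^ 2 * x⁻¹ * (g ^ 2)⁻¹) * (g ^ 3 * x⁻¹) = (g * x⁻¹) ^ 3 := by
    simp only [pow_succ, pow_zero, one_mul]; group
  rw [h1, h3, one_mul] at e1
  rw [h2, h3, one_mul] at e2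
  have f1 : g * x * g⁻¹ * (g ^ 2 * x * (g ^ 2)⁻¹) = x⁻¹ := eq_inv_of_mul_eq_one_left e1
  have f2 : g ^ 2 * x * (g ^ 2)⁻¹ * (g * x * g⁻¹) = x⁻¹ := by
    have h4 := eq_inv_of_mul_eq_one_left e2
    rw [inv_inv] at h4
    rw [eq_inv_iff_mul_eq_one] at *
    have h5 := congrArg (·⁻¹) e2
    simp only [mul_inv_rev, inv_inv, inv_one] at h5
    have h6 : x * ((g ^ 2 * x * (g ^ 2)⁻¹) * (g * x * g⁻¹)) = 1 := by
      rw [← h5]; group
    exact mul_eq_one_comm.1 h6
  have hc : Commute (g * x * g⁻¹) (g ^ 2 * x * (g ^ 2)⁻¹) := f1.trans f2.symm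
  have := hc.map (MulAut.conj g⁻¹)
  simp only [MulAut.conj_apply, inv_inv] at this
  rw [show g⁻¹ * (g * x * g⁻¹) * g = x by group,
    show g⁻¹ * (g ^ 2 * x * (g ^ 2)⁻¹) * g = g * x * g⁻¹ by simp only [sq]; group] at this
  exact this

theorem zpowers_three {w y : G} (hw : w ^ 3 = 1) (hy : y ∈ Subgroup.zpowers w) :
    y = 1 ∨ y = w ∨ y = w⁻¹ := by
  obtain ⟨i, rfl⟩ := Subgroup.mem_zpowers_iff.1 hy
  have h3 : w ^ (3 : ℤ) = 1 := by
    rw [show ((3 : ℤ)) = ((3 : ℕ) : ℤ) from rfl, zpow_natCast, hw]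
  have hred : w ^ i = w ^ (i % 3) := by
    conv_lhs => rw [← Int.emod_add_mul_ediv i 3, zpow_add, zpow_mul, h3, one_zpow, mul_one]
  rcases (by omega : i % 3 = 0 ∨ i % 3 = 1 ∨ i % 3 = 2) with e | e | e
  · left; rw [hred, e, zpow_zero]
  · right; left; rw [hred, e, zpow_one]
  · right; right
    rw [hred, e]
    refine eq_inv_of_mul_eq_one_left ?_
    rw [← zpow_add_one]; exact h3

theorem eighteen_absurd [IsSimpleGroup G] (h : TwoR G 3) (hns : ¬ Group.IsSolvable G) {x a : G}
    (hx : orderOf x = 3) (ha : orderOf a = 2) (hxa : Commute x a)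
    (hC : Nat.card (Subgroup.centralizer ({x} : Set G)) = 18)
    (hCa : ∀ k : G, Commute k x → Commute k a → k ^ 3 = 1 → k ∈ Subgroup.zpowers x)
    (hninv : ∀ g : G, g * x * g⁻¹ ≠ x⁻¹)
    (hF2 : ∀ t k : G, orderOf t = 2 → orderOf k = 3 → Commute k t →
      ∃ g : G, g * k * g⁻¹ = x ∨ g * k * g⁻¹ = x⁻¹) : False := by
  classical
  haveI := Fact.mk Nat.prime_three
  set C := Subgroup.centralizer ({x} : Set G) with hCdef
  have hxC : ∀ {k : G}, k ∈ C ↔ Commute k x := Subgroup.mem_centralizer_singleton_iff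
  obtain ⟨V, hV⟩ := exists_isSylowIn 3 C
  have hVc : Nat.card V = 3 ^ 2 := by
    rw [hV.card, hC, show (18 : ℕ) = 3 ^ 2 * 2 by norm_num,
      Nat.factorization_mul (by norm_num) (by norm_num), Finsupp.add_apply,
      Nat.prime_three.factorization_pow, Finsupp.single_eq_same,
      Nat.factorization_eq_zero_of_not_dvd (by norm_num : ¬ 3 ∣ 2)]
  have hCV : C ≤ Subgroup.normalizer (V : Set G) := by
    have hidx : (V.subgroupOf C).index = 2 := by
      have e := (V.subgroupOf C).card_mul_index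
      rw [Nat.card_congr (Subgroup.subgroupOfEquivOfLe hV.1).toEquiv, hVc, hC] at e
      omega
    haveI := Subgroup.normal_of_index_eq_two hidx
    intro k hk
    refine mem_normalizer_fintype fun w hw => ?_
    exact Subgroup.Normal.conj_mem (H := V.subgroupOf C) inferInstance ⟨w, hV.1 hw⟩ hw ⟨k, hk⟩
  have hpow : ∀ y ∈ V, y ^ 3 = 1 := fun y hy => h.r_group_pow hV.2.1 hy
  have hVcomm : ∀ y ∈ V, ∀ z ∈ V, Commute y z := fun y hy z hz =>
    congrArg Subtype.val (IsPGroup.commutative_of_card_eq_prime_sq (p := 3) hVc ⟨y, hy⟩ ⟨z, hz⟩)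
  have hmemV : ∀ k : G, Commute k x → k ^ 3 = 1 → k ∈ V := by
    intro k hk hk3
    have hp : IsPGroup 3 (Subgroup.zpowers k) := by
      obtain ⟨i, -, hi⟩ := (Nat.dvd_prime_pow Nat.prime_three).1
        (show orderOf k ∣ 3 ^ 1 by rw [pow_one]; exact orderOf_dvd_of_pow_eq_one hk3)
      exact IsPGroup.of_card (n := i) (by rw [Nat.card_zpowers, hi])
    have hkC : Subgroup.zpowers k ≤ C := Subgroup.zpowers_le.2 (hxC.2 hk)
    have heq : V = Subgroup.zpowers k ⊔ V := hV.eq_of_le le_sup_right (sup_le hkC hV.1)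
      (hp.to_sup_of_normal_right' hV.2.1 (hkC.trans hCV))
    rw [heq]
    exact Subgroup.mem_sup_left (Subgroup.mem_zpowers k)
  have hx3 : x ^ 3 = 1 := by rw [← hx, pow_orderOf_eq_one]
  have hxV : x ∈ V := hmemV x (Commute.refl x) hx3
  have hzx : Subgroup.zpowers x ≤ V := Subgroup.zpowers_le.2 hxV
  have haa : a * a = 1 := Invol.mul_self_of_orderOf_two ha
  have hai : a⁻¹ = a := Invol.inv_of_orderOf_two ha
  have haC : a ∈ C := hxC.2 hxa.symm
  obtain ⟨v, hv, hvx⟩ : ∃ v ∈ V, v ∉ Subgroup.zpowers x := by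
    by_contra hcon
    push Not at hcon
    have := Nat.le_of_dvd Nat.card_pos (Subgroup.card_dvd_of_le (hcon : V ≤ Subgroup.zpowers x))
    rw [hVc, Nat.card_zpowers, hx] at this
    omega
  set c := v⁻¹ * (a * v * a⁻¹) with hc
  have hcV : c ∈ V := V.mul_mem (V.inv_mem hv) (mem_conj_normalizer (hCV haC) hv)
  have hac : a * c * a⁻¹ = c⁻¹ := by
    calc a * c * a⁻¹ = (a * v * a⁻¹)⁻¹ * (a * a * v * (a * a)⁻¹) := by rw [hc]; group
      _ = (a * v * a⁻¹)⁻¹ * v := by rw [haa, inv_one, mul_one, one_mul]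
      _ = c⁻¹ := by rw [hc]; group
  have hc3 : c ^ 3 = 1 := hpow c hcV
  have hc1 : c ≠ 1 := by
    intro e
    rw [hc, inv_mul_eq_one] at e
    refine hvx (hCa v (hxC.1 (hV.1 hv)) ?_ (hpow v hv))
    exact ((mul_inv_eq_iff_eq_mul.1 e.symm).symm : v * a = a * v)
  have hco : orderOf c = 3 := orderOf_eq_prime hc3 hc1
  have hcx : Commute c x := hxC.1 (hV.1 hcV)
  have hcnx : c ∉ Subgroup.zpowers x := by
    intro hm
    obtain ⟨i, hi⟩ := Subgroup.mem_zpowers_iff.1 hm
    have h1 : Commute a c := hi ▸ (hxa.zpow_left i).symm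
    rw [mul_inv_eq_iff_eq_mul.2 h1.eq] at hac
    have h2 := orderOf_dvd_of_pow_eq_one (show c ^ 2 = 1 by rw [sq]; exact mul_eq_one_iff_eq_inv.2 hac)
    rw [hco] at h2
    omega
  -- `V = ⟨x⟩⟨c⟩`
  have hVdec : ∀ y ∈ V, ∃ p ∈ Subgroup.zpowers x, ∃ q ∈ Subgroup.zpowers c, y = p * q := by
    have hn : Subgroup.zpowers c ≤ Subgroup.normalizer (Subgroup.zpowers x : Set G) := by
      rw [Subgroup.zpowers_le]
      refine mem_normalizer_fintype ?_
      rintro _ ⟨i, rfl⟩
      exact ⟨i, by
        show x ^ i = c * x ^ i * c⁻¹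
        rw [(hcx.zpow_right i).eq, mul_inv_cancel_right]⟩
    have hinf : Subgroup.zpowers c ⊓ Subgroup.zpowers x = ⊥ := by
      rw [eq_bot_iff]
      rintro y ⟨hy1, hy2⟩
      rcases zpowers_three hc3 hy1 with rfl | rfl | rfl
      · exact Subgroup.mem_bot.2 rfl
      · exact absurd hy2 hcnx
      · exact absurd ((Subgroup.inv_mem_iff _).1 hy2) hcnx
    have e := card_sup_mul_card_inf hn
    rw [hinf, Subgroup.card_bot, mul_one, Nat.card_zpowers, Nat.card_zpowers, hco, hx] at e
    have hsup : Subgroup.zpowers c ⊔ Subgroup.zpowers x = V :=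
      Subgroup.eq_of_le_of_card_ge (sup_le (Subgroup.zpowers_le.2 hcV) hzx) (by rw [hVc, e]; norm_num)
    intro y hy
    rw [← hsup, sup_comm, ← SetLike.mem_coe,
      Subgroup.coe_mul_of_right_le_normalizer_left _ _ hn] at hy
    obtain ⟨p, hp, q, hq, rfl⟩ := hy
    exact ⟨p, hp, q, hq, rfl⟩
  -- classes
  set Cl : G → Prop := fun y => (∃ g : G, g * x * g⁻¹ = y) ∨ (∃ g : G, g * x * g⁻¹ = y⁻¹) with hCl
  have hCl_inv : ∀ y, Cl y → Cl y⁻¹ := fun y hy => by
    rcases hy with ⟨g, hg⟩ | ⟨g, hg⟩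
    · exact Or.inr ⟨g, by rw [hg, inv_inv]⟩
    · exact Or.inl ⟨g, hg⟩
  have hCl_conj : ∀ y k, Cl y → Cl (k * y * k⁻¹) := fun y k hy => by
    rcases hy with ⟨g, hg⟩ | ⟨g, hg⟩
    · exact Or.inl ⟨k * g, by rw [← hg]; group⟩
    · refine Or.inr ⟨k * g, ?_⟩
      calc k * g * x * (k * g)⁻¹ = k * (g * x * g⁻¹) * k⁻¹ := by group
        _ = _ := by rw [hg]; group
  have hnotc : ¬ Cl c := by
    intro hy
    have h2 : ∀ g : G, g * x * g⁻¹ = c → False := by
      intro g hg
      refine hninv (g⁻¹ * a * g) ?_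
      calc g⁻¹ * a * g * x * (g⁻¹ * a * g)⁻¹ = g⁻¹ * (a * (g * x * g⁻¹) * a⁻¹) * g := by group
        _ = g⁻¹ * c⁻¹ * g := by rw [hg, hac]
        _ = x⁻¹ := by rw [← hg]; group
    rcases hy with ⟨g, hg⟩ | ⟨g, hg⟩
    · exact h2 g hg
    · refine h2 (a * g) ?_
      calc a * g * x * (a * g)⁻¹ = a * (g * x * g⁻¹) * a⁻¹ := by group
        _ = (a * c * a⁻¹)⁻¹ := by rw [hg]; group
        _ = c := by rw [hac, inv_inv]
  -- the centraliser of `c` is a 3-group
  have hCc : IsPGroup 3 (Subgroup.centralizer ({c} : Set G)) := by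
    refine IsPGroup.of_card (n := (Nat.card (Subgroup.centralizer ({c} : Set G))).primeFactorsList.length)
      (Nat.eq_prime_pow_of_unique_prime_dvd Nat.card_pos.ne' fun {ℓ} hℓ hd => ?_)
    haveI := Fact.mk hℓ
    obtain ⟨k, hk⟩ := exists_prime_orderOf_dvd_card' (G := Subgroup.centralizer ({c} : Set G)) ℓ hd
    rw [← Subgroup.orderOf_coe] at hk
    have hkc : Commute (k : G) c := Subgroup.mem_centralizer_singleton_iff.1 k.2
    rcases h.primes_of_commute (Or.inr hco) hkc hℓ (by rw [hk]) with e | e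
    · exfalso
      obtain ⟨g, hg⟩ := hF2 k c (hk.trans e) hco hkc.symm
      apply hnotc
      rcases hg with hg | hg
      · exact Or.inl ⟨g⁻¹, by rw [← hg]; group⟩
      · refine Or.inr ⟨g⁻¹, ?_⟩
        calc g⁻¹ * x * g⁻¹⁻¹ = g⁻¹ * (x⁻¹)⁻¹ * g := by group
          _ = c⁻¹ := by rw [← hg]; group
    · exact e
  -- the Sylow subgroup
  obtain ⟨R, hVR⟩ := hV.2.1.exists_le_sylow
  have hRpow : ∀ y ∈ (R : Subgroup G), y ^ 3 = 1 := fun y hy => h.r_group_pow R.isPGroup' hy
  have hxR : x ∈ (R : Subgroup G) := hVR hxV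
  have hRx : ∀ g ∈ (R : Subgroup G), g * x * g⁻¹ ∈ V := fun g hg =>
    hmemV _ (engel_commute (hRpow _ (Subgroup.mul_mem _ hg hxR))
      (hRpow _ (Subgroup.mul_mem _ hg (Subgroup.inv_mem _ hxR))) (hRpow g hg)).symm
      (by rw [conj_pow, hx3]; group)
  have hCRx : ∀ g ∈ (R : Subgroup G), Commute g x → g ∈ V := fun g hg hgx => hmemV g hgx (hRpow g hg)
  -- centraliser of `c` in `R`, conjugation control
  have hmain : (∀ g ∈ (R : Subgroup G), Commute g c) ∧
      ∀ g : G, g * x * g⁻¹ ∈ (R : Subgroup G) →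
        ∃ ρ ∈ (R : Subgroup G), ρ * x * ρ⁻¹ = g * x * g⁻¹ := by
    by_cases hcase : Cl (x * c)
    · -- all elements of `V` outside `⟨c⟩` are conjugate to `x` or its inverse
      have hxc2 : Cl (x * c⁻¹) := by
        have := hCl_conj _ a hcase
        rwa [show a * (x * c) * a⁻¹ = (a * x * a⁻¹) * (a * c * a⁻¹) by group, hac,
          mul_inv_eq_iff_eq_mul.2 hxa.symm.eq] at this
      have hout : ∀ y ∈ V, y ≠ 1 → ¬ Cl y → y ∈ Subgroup.zpowers c := by
        intro y hy hy1 hn
        obtain ⟨p, hp, q, hq, rfl⟩ := hVdec y hy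
        rcases zpowers_three hx3 hp with rfl | rfl | rfl
        · rw [one_mul]; exact hq
        · exfalso
          rcases zpowers_three hc3 hq with rfl | rfl | rfl
          · exact hn (Or.inl ⟨1, by simp⟩)
          · exact hn hcase
          · exact hn hxc2
        · exfalso
          rcases zpowers_three hc3 hq with rfl | rfl | rfl
          · exact hn (Or.inr ⟨1, by simp⟩)
          · have := hCl_inv _ hxc2
            rw [mul_inv_rev, inv_inv, hcx.inv_right.eq] at this
            exact hn this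
          · have := hCl_inv _ hcase
            rw [mul_inv_rev, hcx.inv_inv.eq] at this
            exact hn this
      have key : ∀ g : G, Commute c (g * x * g⁻¹) → g⁻¹ * c * g ∈ Subgroup.zpowers c := by
        intro g hg
        refine hout _ (hmemV _ ?_ ?_) ?_ fun hy => hnotc ?_
        · have := hg.map (MulAut.conj g⁻¹)
          simp only [MulAut.conj_apply, inv_inv] at this
          rwa [show g⁻¹ * (g * x * g⁻¹) * g = x by group] at this
        · calc (g⁻¹ * c * g) ^ 3 = g⁻¹ * c ^ 3 * g := by simp only [pow_succ, pow_zero, one_mul]; group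
            _ = 1 := by rw [hc3]; group
        · intro e
          apply hc1
          calc c = g * (g⁻¹ * c * g) * g⁻¹ := by group
            _ = 1 := by rw [e]; group
        · have := hCl_conj _ g hy
          rwa [show g * (g⁻¹ * c * g) * g⁻¹ = c by group] at this
      have hR : ∀ g ∈ (R : Subgroup G), Commute g c := by
        intro g hg
        rcases zpowers_three hc3 (key g (hVcomm c hcV _ (hRx g hg))) with e | e | e
        · exfalso
          apply hc1
          calc c = g * (g⁻¹ * c * g) * g⁻¹ := by group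
            _ = 1 := by rw [e]; group
        · show g * c = c * g
          nth_rewrite 1 [← e]
          group
        · exfalso
          have hgo : ¬ 2 ∣ orderOf g := fun hd => by
            have h3 := hd.trans (orderOf_dvd_of_pow_eq_one (hRpow g hg)); omega
          have e' : g * c * g⁻¹ = c⁻¹ := by
            rw [eq_inv_iff_mul_eq_one] at e ⊢
            calc g * c * g⁻¹ * c = g * (c * (g⁻¹ * c * g)) * g⁻¹ := by group
              _ = g * 1 * g⁻¹ := by rw [mul_eq_one_comm.1 e]
              _ = 1 := by group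
          have h2 := orderOf_dvd_of_pow_eq_one
            (show c ^ 2 = 1 by rw [sq]; exact commute_of_conj_inv hgo e')
          rw [hco] at h2
          omega
      refine ⟨hR, fun g hg => ?_⟩
      have hRC : (R : Subgroup G) = Subgroup.centralizer ({c} : Set G) :=
        (R.is_maximal' hCc fun k hk => Subgroup.mem_centralizer_singleton_iff.2 (hR k hk).eq).symm
      rcases zpowers_three hc3 (key g (hR _ hg).symm) with e | e | e
      · exfalso
        apply hc1
        calc c = g * (g⁻¹ * c * g) * g⁻¹ := by group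
          _ = 1 := by rw [e]; group
      · refine ⟨g, hRC ▸ Subgroup.mem_centralizer_singleton_iff.2 ?_, rfl⟩
        nth_rewrite 1 [← e]
        group
      · refine ⟨g * a, hRC ▸ Subgroup.mem_centralizer_singleton_iff.2 ?_, ?_⟩
        · have e2 : g * c⁻¹ = c * g := by rw [← e]; group
          calc g * a * c = g * (a * c * a⁻¹) * a := by group
            _ = c * (g * a) := by rw [hac, e2, mul_assoc]
        · calc g * a * x * (g * a)⁻¹ = g * (a * x * a⁻¹) * g⁻¹ := by group
            _ = _ := by rw [mul_inv_eq_iff_eq_mul.2 hxa.symm.eq]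
    · -- `x` is isolated in `V`
      have hiso : ∀ g : G, g * x * g⁻¹ ∈ V → g * x * g⁻¹ = x := by
        intro g hg
        have hy : Cl (g * x * g⁻¹) := Or.inl ⟨g, rfl⟩
        obtain ⟨p, hp, q, hq, e⟩ := hVdec _ hg
        have hcase2 : ¬ Cl (x * c⁻¹) := fun h' => hcase (by
          have := hCl_conj _ a h'
          rwa [show a * (x * c⁻¹) * a⁻¹ = (a * x * a⁻¹) * (a * c * a⁻¹)⁻¹ by group, hac, inv_inv,
            mul_inv_eq_iff_eq_mul.2 hxa.symm.eq] at this)
        rw [e] at hy ⊢
        rcases zpowers_three hx3 hp with rfl | rfl | rfl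
        · exfalso
          rw [one_mul] at hy
          rcases zpowers_three hc3 hq with rfl | rfl | rfl
          · rw [one_mul, conj_eq_one_iff] at e
            rw [e, orderOf_one] at hx
            omega
          · exact hnotc hy
          · exact hnotc (by simpa using hCl_inv _ hy)
        · rcases zpowers_three hc3 hq with rfl | rfl | rfl
          · exact mul_one _
          · exact absurd hy hcase
          · exact absurd hy hcase2
        · exfalso
          rcases zpowers_three hc3 hq with rfl | rfl | rfl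
          · exact hninv g (by rw [e, mul_one])
          · have := hCl_inv _ hy
            rw [mul_inv_rev, inv_inv, hcx.inv_left.eq] at this
            exact hcase2 this
          · have := hCl_inv _ hy
            rw [mul_inv_rev, inv_inv, inv_inv, hcx.eq] at this
            exact hcase this
      have hRV : (R : Subgroup G) ≤ V := fun g hg =>
        hCRx g hg (mul_inv_eq_iff_eq_mul.1 (hiso g (hRx g hg)))
      refine ⟨fun g hg => hVcomm g (hRV hg) c hcV, fun g hg => ⟨1, Subgroup.one_mem _, ?_⟩⟩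
      rw [hiso g (hRV hg)]; simp
  obtain ⟨hRc, hfus⟩ := hmain
  -- modulo `⟨c⟩` the element `x` is central
  have hxfix : ∀ g ∈ (R : Subgroup G),
      g * x * g⁻¹ = x ∨ g * x * g⁻¹ = x * c ∨ g * x * g⁻¹ = x * c⁻¹ := by
    intro g hg
    obtain ⟨p, hp, q, hq, e⟩ := hVdec _ (hRx g hg)
    have hgq : g * q * g⁻¹ = q := by
      obtain ⟨i, rfl⟩ := Subgroup.mem_zpowers_iff.1 hq
      exact mul_inv_eq_iff_eq_mul.2 ((hRc g hg).zpow_right i).eq
    rcases zpowers_three hx3 hp with rfl | rfl | rfl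
    · exfalso
      rw [one_mul] at e
      have : x = q := by
        calc x = g⁻¹ * (g * x * g⁻¹) * g := by group
          _ = g⁻¹ * q * g := by rw [e]
          _ = q := by nth_rewrite 1 [← hgq]; group
      obtain ⟨i, hi⟩ := Subgroup.mem_zpowers_iff.1 (this ▸ hq)
      rcases zpowers_three hc3 (this ▸ hq) with e' | e' | e'
      · rw [e', orderOf_one] at hx; omega
      · exact hcnx (e' ▸ Subgroup.mem_zpowers x)
      · exact hcnx ((Subgroup.inv_mem_iff _).1 (e' ▸ Subgroup.mem_zpowers x))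
    · rcases zpowers_three hc3 hq with rfl | rfl | rfl
      · exact Or.inl (by rw [e, mul_one])
      · exact Or.inr (Or.inl e)
      · exact Or.inr (Or.inr e)
    · exfalso
      have hxq : Commute x q := (hxC.1 (hV.1 (Subgroup.zpowers_le.2 hcV hq))).symm
      have e2 : g * (g * x * g⁻¹) * g⁻¹ = x := by
        rw [e]
        calc g * (x⁻¹ * q) * g⁻¹ = (g * x * g⁻¹)⁻¹ * (g * q * g⁻¹) := by group
          _ = (x⁻¹ * q)⁻¹ * q := by rw [e, hgq]
          _ = q⁻¹ * (x * q) := by group
          _ = x := by rw [hxq.eq, inv_mul_cancel_left]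
      have hg4 : g = g ^ 2 * g ^ 2 := by
        rw [← pow_add, show (2 + 2) = 3 + 1 from rfl, pow_succ, hRpow g hg, one_mul]
      have hgx : Commute g x := by
        have h2 : Commute (g ^ 2) x := by
          refine mul_inv_eq_iff_eq_mul.1 ?_
          calc g ^ 2 * x * (g ^ 2)⁻¹ = g * (g * x * g⁻¹) * g⁻¹ := by rw [sq]; group
            _ = x := e2
        rw [hg4]; exact h2.mul_left h2
      rw [hgx.eq, mul_inv_cancel_right] at e
      have : x * x = q := by
        calc x * x = x * (x⁻¹ * q) := by rw [← e]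
          _ = q := by group
      have hxx : x * x = x⁻¹ := eq_inv_of_mul_eq_one_left (by rw [← hx3]; simp [pow_succ, mul_assoc])
      rcases zpowers_three hc3 (this ▸ hq) with e' | e' | e'
      · rw [hxx, inv_eq_one] at e'; rw [e', orderOf_one] at hx; omega
      · exact hcnx (e' ▸ Subgroup.mul_mem _ (Subgroup.mem_zpowers x) (Subgroup.mem_zpowers x))
      · exact hcnx ((Subgroup.inv_mem_iff _).1
          (e' ▸ Subgroup.mul_mem _ (Subgroup.mem_zpowers x) (Subgroup.mem_zpowers x)))
  -- `|R| ≤ 27`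
  have hRcard : Nat.card (R : Subgroup G) ≤ 27 := by
    have h1 := card_orbit_mul (R : Subgroup G) x
    have h2 : Nat.card ↥((R : Subgroup G) ⊓ Subgroup.centralizer ({x} : Set G)) ≤ 9 := by
      have : Nat.card V = 9 := by rw [hVc]; norm_num
      rw [← this]
      exact Subgroup.card_le_of_le fun g hg => hCRx g hg.1 (hxC.1 hg.2)
    have h3 : Nat.card {b : G // ∃ k ∈ (R : Subgroup G), k * x * k⁻¹ = b} ≤ 3 := by
      refine (Nat.card_mono (t := ({x, x * c, x * c⁻¹} : Set G)) (Set.toFinite _) ?_).trans ?_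
      · rintro b ⟨k, hk, rfl⟩
        exact hxfix k hk
      · rw [Nat.card_coe_set_eq]
        exact (Set.ncard_insert_le _ _).trans (by
          have := Set.ncard_insert_le (x * c) ({x * c⁻¹} : Set G)
          simp only [Set.ncard_singleton] at this; omega)
    rw [← h1]
    exact (Nat.mul_le_mul h3 h2).trans (by norm_num)
  set Rs : Subgroup G := (R : Subgroup G) with hRs
  -- the transfer
  have hcR : c ∈ Rs := hVR hcV
  set Z := (Subgroup.zpowers c).subgroupOf Rs with hZ
  haveI hZn : Z.Normal := by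
    refine Subgroup.normal_subgroupOf_of_le_normalizer fun g hg => mem_normalizer_fintype ?_
    rintro _ ⟨i, rfl⟩
    exact ⟨i, by
      show c ^ i = g * c ^ i * g⁻¹
      rw [((hRc g hg).zpow_right i).eq, mul_inv_cancel_right]⟩
  have hZc : Nat.card Z = 3 := by
    rw [Nat.card_congr (Subgroup.subgroupOfEquivOfLe (Subgroup.zpowers_le.2 hcR)).toEquiv,
      Nat.card_zpowers, hco]
  have hQcomm : ∀ p q : Rs ⧸ Z, p * q = q * p := by
    have hp : IsPGroup 3 (Rs ⧸ Z) := R.isPGroup'.to_quotient Z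
    obtain ⟨i, hi⟩ := hp.exists_card_eq
    have hi2 : i ≤ 2 := by
      have e := Subgroup.card_eq_card_quotient_mul_card_subgroup Z
      rw [hi, hZc] at e
      by_contra hlt
      have : 3 ^ 3 ≤ 3 ^ i := Nat.pow_le_pow_right (by norm_num) (by omega)
      omega
    rcases (by omega : i = 0 ∨ i = 1 ∨ i = 2) with rfl | rfl | rfl
    · haveI : Subsingleton (Rs ⧸ Z) := (Nat.card_eq_one_iff_unique.1 (by rw [hi, pow_zero])).1
      exact fun p q => Subsingleton.elim _ _
    · haveI : IsCyclic (Rs ⧸ Z) := isCyclic_of_prime_card (p := 3) (by rw [hi, pow_one])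
      exact fun p q => (IsCyclic.commGroup (α := Rs ⧸ Z)).mul_comm p q
    · exact IsPGroup.commutative_of_card_eq_prime_sq (p := 3) hi
  let iQ : CommGroup (Rs ⧸ Z) := { (inferInstance : Group (Rs ⧸ Z)) with mul_comm := hQcomm }
  let φ : Rs →* (Rs ⧸ Z) := QuotientGroup.mk' Z
  haveI : Fintype (G ⧸ Rs) := Fintype.ofFinite _
  have hkill : ∀ (g : G) (l : ℕ), 1 < l → l ∣ orderOf x → ∀ hm : g⁻¹ * x ^ l * g ∈ Rs,
      φ ⟨_, hm⟩ = 1 := by
    intro g l hl hd hm
    rw [hx] at hd
    have hl3 : l = 3 := ((Nat.dvd_prime Nat.prime_three).1 hd).resolve_left (by omega)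
    have e : g⁻¹ * x ^ l * g = 1 := by rw [hl3, hx3]; group
    rw [show (⟨_, hm⟩ : Rs) = 1 from Subtype.ext e, map_one]
  have htr := Transfer.HallWielandt.transfer_eq_prod_fixed φ x hkill
  have hone : φ.transfer x = 1 := by
    have := Abelianization.commutator_subset_ker φ.transfer
    rw [perfect_of_simple hns] at this
    exact this (Subgroup.mem_top x)
  set val := φ ⟨x, hxR⟩ with hval
  have hfixval : ∀ q : G ⧸ Rs,
      Transfer.HallWielandt.fixVal φ x q = if x • q = q then val else 1 := by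
    intro q
    split_ifs with hq
    · have hm := (Transfer.HallWielandt.smul_eq_iff q).1 hq
      rw [Transfer.HallWielandt.fixVal, dif_pos hm]
      obtain ⟨ρ, hρ, he⟩ := hfus q.out⁻¹ (by rwa [inv_inv])
      rw [inv_inv] at he
      exact Transfer.HallWielandt.conj_invariant φ (n := (⟨ρ, hρ⟩ : Rs)⁻¹)
        (Subtype.ext (by simp [he]))
    · exact Transfer.HallWielandt.fixVal_of_ne φ hq
  rw [Finset.prod_congr rfl (fun q _ => hfixval q), Finset.prod_ite, Finset.prod_const_one,
    mul_one, Finset.prod_const, hone] at htr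
  set k := (Finset.univ.filter fun q : G ⧸ Rs => x • q = q).card with hk
  -- the number of fixed cosets is prime to 3
  have hk3 : ¬ 3 ∣ k := by
    have hP : IsPGroup 3 (Subgroup.zpowers x) :=
      IsPGroup.of_card (n := 1) (by rw [Nat.card_zpowers, hx, pow_one])
    have hmod := hP.card_modEq_card_fixedPoints (α := G ⧸ Rs)
    have hfx : Nat.card (MulAction.fixedPoints (Subgroup.zpowers x) (G ⧸ Rs)) = k := by
      rw [hk, ← Fintype.card_subtype, ← Nat.card_eq_fintype_card]
      refine Nat.card_congr (Equiv.subtypeEquivRight fun q => ?_)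
      constructor
      · exact fun hq => hq ⟨x, Subgroup.mem_zpowers x⟩
      · rintro hq ⟨_, i, rfl⟩
        exact MulAction.mem_stabilizer_iff.1
          (Subgroup.zpow_mem _ (MulAction.mem_stabilizer_iff.2 hq) i)
    rw [hfx] at hmod
    intro hd
    refine R.not_dvd_index ?_
    rw [Subgroup.index_eq_card]
    exact (Nat.ModEq.dvd_iff hmod dvd_rfl).2 hd
  have hval3 : val ^ 3 = 1 := by
    rw [hval, ← map_pow, show (⟨x, hxR⟩ : Rs) ^ 3 = 1 from Subtype.ext hx3, map_one]
  have hvd : orderOf val ∣ 1 := (Nat.prime_three.coprime_iff_not_dvd.2 hk3) ▸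
    Nat.dvd_gcd (orderOf_dvd_of_pow_eq_one hval3) (orderOf_dvd_of_pow_eq_one htr.symm)
  rw [Nat.dvd_one, orderOf_eq_one_iff, hval, QuotientGroup.mk'_apply, QuotientGroup.eq_one_iff,
    hZ, Subgroup.mem_subgroupOf] at hvd
  rcases zpowers_three hc3 hvd with e | e | e
  · rw [show x = 1 from e, orderOf_one] at hx; omega
  · exact hcnx (e ▸ Subgroup.mem_zpowers x)
  · exact hcnx ((Subgroup.inv_mem_iff _).1 (e ▸ Subgroup.mem_zpowers x))

end Cfsg.Agent.Grp.ThreeOrders
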