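import Mathlib
import Cfsg.Prelude
import Cfsg.Agent.S0340
import Cfsg.Agent.Lib.Transfer.TICent.Config
import Cfsg.Agent.Lib.Transfer.CIT.PSLTwo
import Cfsg.Agent.Lib.Grp.ThreeOrders.SEOne

/-!
The case that the elements of order `r` of `N(S)` centralise `S`.
-/

set_option autoImplicit false
set_option linter.style.haveILetI false
set_option linter.unusedSectionVars false

universe u

namespace Cfsg.Agent.Grp.ThreeOrders

open Subgroup
open Cfsg.Agent.Fus.CTSimple (A M mem_A A_le_M)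
open scoped commutatorElement

variable {G : Type u} [Group G] [Finite G] {r : ℕ} {S : Sylow 2 G}

theorem two_arith {u Q k r p f : ℕ} (hr : r.Prime) (hr2 : r ≠ 2) (hr3 : r ≠ 3) (hu : u = r ^ k)
    (hk : k ≠ 0) (hp : p.Prime) (hQ : Q = p ^ f) (hQo : Q % 2 = 1)
    (h : 24 * u * (4 * u + 1) = Q * ((Q - 1) * (Q + 1))) : False := by
  have hr5 : 5 ≤ r := by
    have := hr.two_le
    by_contra hlt
    interval_cases r <;> first | omega | exact absurd hr (by norm_num)
  have hu5 : 5 ≤ u := hu ▸ hr5.trans (Nat.le_self_pow hk r)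
  have hr24 : ¬ r ∣ 24 := fun hd => by
    have h2 : r ∣ 2 ^ 3 * 3 := by norm_num; exact hd
    rcases hr.dvd_mul.1 h2 with e | e
    · exact hr2 ((Nat.prime_dvd_prime_iff_eq hr Nat.prime_two).1 (hr.dvd_of_dvd_pow e))
    · exact hr3 ((Nat.prime_dvd_prime_iff_eq hr Nat.prime_three).1 e)
  have hru : r ∣ u := hu ▸ dvd_pow_self r hk
  have h4 : ¬ r ∣ 4 * u + 1 := fun hd => hr.not_dvd_one
    ((Nat.dvd_add_right (hru.mul_left 4)).1 hd)
  have hcopr : ∀ {x : ℕ}, ¬ r ∣ x → u.Coprime x := fun hx => by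
    rw [hu]; exact (hr.coprime_iff_not_dvd.2 hx).pow_left k
  have hQ1 : 1 ≤ Q := by omega
  by_cases hrQ : r ∣ Q
  · have hpr : p = r := ((Nat.prime_dvd_prime_iff_eq hr hp).1 (hr.dvd_of_dvd_pow (hQ ▸ hrQ))).symm
    have hnd : ¬ r ∣ (Q - 1) * (Q + 1) := by
      intro hd
      rcases hr.dvd_mul.1 hd with e | e
      · exact hr.not_dvd_one (by
          have := Nat.dvd_sub hrQ e
          rwa [show Q - (Q - 1) = 1 by omega] at this)
      · exact hr.not_dvd_one ((Nat.dvd_add_right hrQ).1 e)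
    have h1 : u ∣ Q := (hcopr hnd).dvd_of_dvd_mul_right (Dvd.intro (24 * (4 * u + 1)) (by rw [← h]; ring))
    have h2 : Q ∣ u := by
      have hQc : Q.Coprime (24 * (4 * u + 1)) := by
        rw [hQ, hpr]
        exact (hr.coprime_iff_not_dvd.2 fun hd => (hr.dvd_mul.1 hd).elim hr24 h4).pow_left f
      exact hQc.dvd_of_dvd_mul_right (Dvd.intro ((Q - 1) * (Q + 1)) (by rw [← h]; ring))
    have he : Q = u := Nat.dvd_antisymm h2 h1
    subst he
    obtain ⟨b, rfl⟩ : ∃ b, Q = b + 1 := ⟨Q - 1, by omega⟩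
    simp only [Nat.add_sub_cancel] at h
    have hb : 24 * (4 * (b + 1) + 1) = b * (b + 1 + 1) :=
      Nat.eq_of_mul_eq_mul_left (Nat.succ_pos b) (by rw [← mul_assoc, mul_comm (b + 1) 24]; exact h)
    have hlt : b < 200 := by nlinarith
    interval_cases b <;> omega
  · have h1 : u ∣ (Q - 1) * (Q + 1) :=
      (hcopr hrQ).dvd_of_dvd_mul_left (Dvd.intro (24 * (4 * u + 1)) (by rw [← h]; ring))
    have h2 : u ∣ Q - 1 ∨ u ∣ Q + 1 := by
      by_cases hm : r ∣ Q - 1
      · refine Or.inl ((hcopr fun hd => hr2 ?_).dvd_of_dvd_mul_right h1)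
        have h3 := Nat.dvd_sub hd hm
        rw [show Q + 1 - (Q - 1) = 2 by omega] at h3
        exact (Nat.prime_dvd_prime_iff_eq hr Nat.prime_two).1 h3
      · exact Or.inr ((hcopr hm).dvd_of_dvd_mul_left h1)
    have huo : u % 2 = 1 := by
      rw [hu, Nat.pow_mod, hr.mod_two_eq_one_iff_ne_two.2 hr2]; simp
    rcases h2 with ⟨j, hj⟩ | ⟨j, hj⟩
    · have hQ' : Q = u * j + 1 := by omega
      rw [hj, hQ'] at h
      have hj2 : j % 2 = 0 := by
        rcases Nat.mod_two_eq_zero_or_one j with e | e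
        · exact e
        · exfalso
          have : (u * j) % 2 = 1 := by rw [Nat.mul_mod, huo, e]
          omega
      have hb : 24 * (4 * u + 1) = (u * j + 1) * (j * (u * j + 1 + 1)) :=
        Nat.eq_of_mul_eq_mul_left (by omega : 0 < u) (by linarith)
      by_cases hj4 : 4 ≤ j
      · have h5 : 4 * u ≤ u * j := by rw [mul_comm 4 u]; exact Nat.mul_le_mul_left u hj4
        have : (4 * u + 1) * (4 * (4 * u + 2)) ≤ (u * j + 1) * (j * (u * j + 1 + 1)) :=
          Nat.mul_le_mul (by omega) (Nat.mul_le_mul hj4 (by omega))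
        nlinarith
      · rcases (by omega : j = 0 ∨ j = 2) with rfl | rfl
        · omega
        · have hlt : u < 50 := by nlinarith
          interval_cases u <;> omega
    · have hQ' : Q = u * j - 1 := by omega
      have hj2 : j % 2 = 0 := by
        rcases Nat.mod_two_eq_zero_or_one j with e | e
        · exact e
        · exfalso
          have : (u * j) % 2 = 1 := by rw [Nat.mul_mod, huo, e]
          omega
      obtain ⟨d, hd⟩ : ∃ d, u * j = d + 2 := ⟨u * j - 2, by omega⟩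
      have hQd : Q = d + 1 := by omega
      rw [hj, hQd, Nat.add_sub_cancel] at h
      have hb : 24 * (4 * u + 1) = (d + 1) * (d * j) :=
        Nat.eq_of_mul_eq_mul_left (by omega : 0 < u) (by linarith)
      by_cases hj4 : 4 ≤ j
      · have h5 : 4 * u ≤ d + 2 := by rw [← hd, mul_comm 4 u]; exact Nat.mul_le_mul_left u hj4
        have : (4 * u - 1) * ((4 * u - 2) * 4) ≤ (d + 1) * (d * j) :=
          Nat.mul_le_mul (by omega) (Nat.mul_le_mul (by omega) hj4)
        obtain ⟨w, rfl⟩ : ∃ w, u = w + 5 := ⟨u - 5, by omega⟩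
        rw [show 4 * (w + 5) - 1 = 4 * w + 19 by omega, show 4 * (w + 5) - 2 = 4 * w + 18 by omega] at this
        nlinarith
      · rcases (by omega : j = 0 ∨ j = 2) with rfl | rfl
        · omega
        · have hd' : d = 2 * u - 2 := by omega
          subst hd'
          have hlt : u < 50 := by
            obtain ⟨w, rfl⟩ : ∃ w, u = w + 5 := ⟨u - 5, by omega⟩
            rw [show 2 * (w + 5) - 2 = 2 * w + 8 by omega] at hb
            nlinarith
          interval_cases u <;> omega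

namespace SEHyp

variable (c : SEHyp G r S)
include c

theorem two_absurd [IsSimpleGroup G]
    (hno : ∀ x ∈ nS S, orderOf x = r → x ∈ Subgroup.centralizer ((S : Subgroup G) : Set G)) :
    False := by
  classical
  haveI := Fact.mk Nat.prime_two
  have hr := c.twoR.prime
  have hSC : (S : Subgroup G) ≤ Subgroup.centralizer ((S : Subgroup G) : Set G) :=
    fun s hs => Subgroup.mem_centralizer_iff.2 fun x hx => c.comm hx hs
  have hfull : ∀ a ∈ (S : Subgroup G), a ≠ 1 →
      Subgroup.centralizer ({a} : Set G) ≤ Subgroup.centralizer ((S : Subgroup G) : Set G) := by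
    intro a ha ha1 x hx
    refine Transfer.prime_parts x _ fun ℓ hℓ y ⟨k, hk⟩ hyx => ?_
    have hyC : y ∈ Subgroup.centralizer ({a} : Set G) := (Subgroup.zpowers_le.2 hx) hyx
    have hyN : y ∈ nS S := c.cent a ha ha1 hyC
    have hya : Commute y a := Subgroup.mem_centralizer_singleton_iff.1 hyC
    rcases k with _ | _ | k
    · rw [pow_zero, orderOf_eq_one_iff] at hk; rw [hk]; exact one_mem _
    · rw [pow_one] at hk
      rcases c.twoR.primes_of_commute (Or.inl (c.orderOf_two ha ha1)) hya hℓ (by rw [hk]) with e | e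
      · subst e
        exact hSC (c.inv_mem hyN hk)
      · exact hno y hyN (hk.trans e)
    · exfalso
      rcases c.twoR.primes_of_commute (Or.inl (c.orderOf_two ha ha1)) hya hℓ
        (hk ▸ dvd_pow_self ℓ (by omega)) with rfl | e
      · exact (c.twoR.not_sq_dvd y).1 (hk ▸ ⟨2 ^ k, by ring⟩)
      · exact (c.twoR.not_sq_dvd y).2 (e ▸ hk ▸ ⟨ℓ ^ k, by ring⟩)
  obtain ⟨t, htS, ht1, x₀, hx₀, hx₀r⟩ := c.exists_mixed
  have ht := c.orderOf_two htS ht1
  have hA : A t = Subgroup.centralizer ((S : Subgroup G) : Set G) :=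
    le_antisymm (hfull t htS ht1) (Subgroup.centralizer_le (Set.singleton_subset_iff.2 htS))
  have hAN : A t ≤ nS S := c.cent t htS ht1
  have hSA : (S : Subgroup G) ≤ A t := hA ▸ hSC
  -- prime power elements of `A`
  have hpart : ∀ x ∈ A t, ∀ ℓ : ℕ, ℓ.Prime → ℓ ∣ orderOf x → ℓ = 2 ∨ ℓ = r := fun x hx ℓ hℓ hd =>
    c.twoR.primes_of_commute (Or.inl ht) (Subgroup.mem_centralizer_singleton_iff.1 hx) hℓ hd
  obtain ⟨hPC, hPr, hPN, hPodd⟩ := c.core_facts hfull htS ht1
  have hnil : Group.IsNilpotent (A t) := by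
    haveI := Fact.mk hr
    set M1 := (S : Subgroup G).subgroupOf (A t) with hM1
    set M2 := (coreAt t).subgroupOf (A t) with hM2
    haveI : M1.Normal := Subgroup.normal_subgroupOf_of_le_normalizer hAN
    haveI : M2.Normal := Subgroup.normal_subgroupOf_of_le_normalizer (hAN.trans hPN)
    have hn1 : Group.IsNilpotent M1 :=
      (S.isPGroup'.comap_subtype (K := A t) : IsPGroup 2 M1).isNilpotent
    have hn2 : Group.IsNilpotent M2 :=
      (hPr.comap_subtype (K := A t) : IsPGroup r M2).isNilpotent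
    have := isNilpotent_sup_normal M1 M2 hn1 hn2
    rw [show M1 ⊔ M2 = ⊤ from eq_top_iff.2 fun y _ => ?_] at this
    · exact (Group.isNilpotent_congr Subgroup.topEquiv).1 this
    refine Transfer.prime_parts y _ fun ℓ hℓ z ⟨k, hk⟩ _ => ?_
    rcases Nat.eq_zero_or_pos k with rfl | hk0
    · rw [pow_zero, orderOf_eq_one_iff] at hk; rw [hk]; exact one_mem _
    rcases hpart z z.2 ℓ hℓ (by rw [Subgroup.orderOf_coe, hk]; exact dvd_pow_self ℓ hk0.ne') with e | e
    · subst e
      refine Subgroup.mem_sup_left (Subgroup.mem_subgroupOf.2 ?_)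
      exact c.two_mem (hAN z.2) (c.twoR.two_group_sq (P := Subgroup.zpowers (z : G))
        (IsPGroup.of_card (n := k) (by rw [Nat.card_zpowers, Subgroup.orderOf_coe, hk]))
        (Subgroup.mem_zpowers _))
    · subst e
      refine Subgroup.mem_sup_right (Subgroup.mem_subgroupOf.2 (hPodd _ (hA ▸ z.2) ?_))
      rw [Subgroup.orderOf_coe, hk]
      exact fun hd => c.twoR.ne_two
        ((Nat.prime_dvd_prime_iff_eq Nat.prime_two hℓ).1 (Nat.prime_two.dvd_of_dvd_pow hd)).symm
  -- a nontrivial element of `A` has a power of order 2 or `r` centralised by `S`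
  have hpow : ∀ a ∈ A t, a ≠ 1 → ∃ i : ℕ, (orderOf (a ^ i) = 2 ∨ orderOf (a ^ i) = r) ∧
      (S : Subgroup G) ≤ Subgroup.centralizer ({a ^ i} : Set G) := by
    intro a ha ha1
    obtain ⟨ℓ, hℓ, hd⟩ := Nat.exists_prime_and_dvd (fun e => ha1 (orderOf_eq_one_iff.1 e) : orderOf a ≠ 1)
    refine ⟨orderOf a / ℓ, ?_, fun s hs => Subgroup.mem_centralizer_singleton_iff.2 ?_⟩
    · rw [orderOf_pow_orderOf_div (orderOf_pos a).ne' hd]
      exact hpart a ha ℓ hℓ hd
    · exact (Subgroup.mem_centralizer_iff.1 (hA ▸ (A t).pow_mem ha _ :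
        a ^ (orderOf a / ℓ) ∈ Subgroup.centralizer ((S : Subgroup G) : Set G)) s hs)
  have hcent : ∀ a x, a ∈ A t → a ≠ 1 → Commute x a → x ∈ A t := by
    intro a x ha ha1 hx
    obtain ⟨i, hio, hiS⟩ := hpow a ha ha1
    have hxN : x ∈ nS S := c.cent_le hio hiS
      (Subgroup.mem_centralizer_singleton_iff.2 (hx.pow_right i).eq)
    refine hA ▸ Transfer.prime_parts x _ fun ℓ hℓ y ⟨k, hk⟩ hyx => ?_
    have hyN : y ∈ nS S := (Subgroup.zpowers_le.2 hxN) hyx
    have hyc : Commute y (a ^ i) := by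
      obtain ⟨j, rfl⟩ := Subgroup.mem_zpowers_iff.1 hyx
      exact (hx.pow_right i).zpow_left j
    rcases k with _ | _ | k
    · rw [pow_zero, orderOf_eq_one_iff] at hk; rw [hk]; exact one_mem _
    · rw [pow_one] at hk
      rcases c.twoR.primes_of_commute hio hyc hℓ (by rw [hk]) with e | e
      · subst e
        exact hSC (c.inv_mem hyN hk)
      · exact hno y hyN (hk.trans e)
    · exfalso
      rcases c.twoR.primes_of_commute hio hyc hℓ (hk ▸ dvd_pow_self ℓ (by omega)) with rfl | e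
      · exact (c.twoR.not_sq_dvd y).1 (hk ▸ ⟨2 ^ k, by ring⟩)
      · exact (c.twoR.not_sq_dvd y).2 (e ▸ hk ▸ ⟨ℓ ^ k, by ring⟩)
  have hM : M t = nS S := by
    refine le_antisymm (fun n hn => mem_normalizer_fintype fun s hs => ?_) fun n hn => ?_
    · refine c.two_mem (hAN (mem_conj_normalizer hn (hSA hs))) ?_
      calc n * s * n⁻¹ * (n * s * n⁻¹) = n * (s * s) * n⁻¹ := by group
        _ = 1 := by rw [c.mul_self hs]; group
    · refine mem_normalizer_fintype fun y hy => ?_
      rw [SetLike.mem_coe] at hy ⊢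
      rw [hA] at hy ⊢
      rw [Subgroup.mem_centralizer_iff] at hy ⊢
      intro s hs
      have := hy _ (mem_conj_normalizer' hn hs)
      calc s * (n * y * n⁻¹) = n * ((n⁻¹ * s * n) * y) * n⁻¹ := by group
        _ = n * (y * (n⁻¹ * s * n)) * n⁻¹ := by rw [this]
        _ = _ := by group
  have hti : ∀ g a, a ∈ A t → a ≠ 1 → g * a * g⁻¹ ∈ A t → g ∈ M t := by
    intro g a ha ha1 hga
    obtain ⟨i, hio, hiS⟩ := hpow a ha ha1
    have hb : g * a ^ i * g⁻¹ ∈ A t := by
      rw [← conj_pow]; exact (A t).pow_mem hga i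
    have hbS : (S : Subgroup G) ≤ Subgroup.centralizer ({g * a ^ i * g⁻¹} : Set G) := fun s hs =>
      Subgroup.mem_centralizer_singleton_iff.2 (Subgroup.mem_centralizer_iff.1 (hA ▸ hb :
        g * a ^ i * g⁻¹ ∈ Subgroup.centralizer ((S : Subgroup G) : Set G)) s hs)
    have hbN := c.cent_le (x := g * a ^ i * g⁻¹) (by rwa [Invol.orderOf_conj_eq]) hbS
    rw [hM]
    refine mem_normalizer_fintype fun s hs => c.two_mem (hbN ?_) ?_
    · rw [Subgroup.mem_centralizer_singleton_iff]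
      have := Subgroup.mem_centralizer_singleton_iff.1 (hiS hs)
      calc g * s * g⁻¹ * (g * a ^ i * g⁻¹) = g * (s * a ^ i) * g⁻¹ := by group
        _ = g * (a ^ i * s) * g⁻¹ := by rw [this]
        _ = _ := by group
    · calc g * s * g⁻¹ * (g * s * g⁻¹) = g * (s * s) * g⁻¹ := by group
        _ = 1 := by rw [c.mul_self hs]; group
  -- the index
  have hidx : ((A t).subgroupOf (M t)).index = Nat.card (S : Subgroup G) - 1 := by
    have h := c.card_trans (K := nS S) le_rfl htS ht1 fun b hb hb1 => c.trans_nS htS ht1 hb hb1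
    rw [inf_eq_right.2 hAN] at h
    rw [hM]
    have h2 := ((A t).subgroupOf (nS S)).card_mul_index
    rw [Nat.card_congr (Subgroup.subgroupOfEquivOfLe hAN).toEquiv, ← h, mul_comm] at h2
    exact Nat.eq_of_mul_eq_mul_right Nat.card_pos h2
  have h4 := c.four_le
  have hcfg : Transfer.TICent.Cfg t S :=
    ⟨ht, hSA, hnil, hti, hcent, fun i hi hi2 x hx => Subgroup.mem_centralizer_iff.1 (hA ▸ hx :
        x ∈ Subgroup.centralizer ((S : Subgroup G) : Set G)) i (c.inv_mem (hAN hi) hi2) |>.symm,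
      hM ▸ c.ne_top, by rw [hidx]; omega⟩
  -- `|A| = q u`
  set u := ((S : Subgroup G).subgroupOf (A t)).index with hu
  have hcard : Nat.card (A t) = Nat.card (S : Subgroup G) * u := by
    rw [hu, ← Nat.card_congr (Subgroup.subgroupOfEquivOfLe hSA).toEquiv, Subgroup.card_mul_index]
  have hu2 : ¬ 2 ∣ u := fun hd => S.not_dvd_index (hd.trans (Subgroup.relIndex_dvd_index_of_le hSA))
  obtain ⟨k, hk⟩ : ∃ k, u = r ^ k := ⟨_, Nat.eq_prime_pow_of_unique_prime_dvd
    (fun e => hu2 (e ▸ dvd_zero 2)) fun {ℓ} hℓ hd => by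
      haveI := Fact.mk hℓ
      obtain ⟨y, hy⟩ := exists_prime_orderOf_dvd_card' (G := A t) ℓ (hcard ▸ hd.mul_left _)
      rcases hpart y y.2 ℓ hℓ (by rw [Subgroup.orderOf_coe, hy]) with e | e
      · exact absurd (e ▸ hd) hu2
      · exact e⟩
  obtain ⟨n, hn⟩ := S.isPGroup'.exists_card_eq
  have hk0 : k ≠ 0 := by
    intro e
    rw [e, pow_zero] at hk
    have hd : r ∣ Nat.card (S : Subgroup G) := by
      have := hx₀r ▸ Subgroup.orderOf_dvd_natCard _ (show x₀ ∈ A t from hx₀)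
      rwa [hcard, hk, mul_one] at this
    exact c.twoR.ne_two ((Nat.prime_dvd_prime_iff_eq hr Nat.prime_two).1 (hr.dvd_of_dvd_pow (hn ▸ hd)))
  have hrd : r ∣ Nat.card (A t) := hcard ▸ (hk ▸ dvd_pow_self r hk0).mul_left _
  have hG := hcfg.card_G
  rw [hidx, hcard] at hG
  set q := Nat.card (S : Subgroup G) with hq
  have hu3 : 3 ≤ u := hk ▸ le_trans
    (lt_of_le_of_ne hr.two_le (Ne.symm c.twoR.ne_two)) (Nat.le_self_pow hk0 r)
  have hn2 : 2 ≤ n := by
    by_contra hlt
    have h2 : 2 ^ n ≤ 2 ^ 1 := Nat.pow_le_pow_right (by norm_num) (by omega)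
    rw [pow_one] at h2
    omega
  have hqeven : 2 ∣ q := hn ▸ dvd_pow_self 2 (by omega)
  have hodd1 : ¬ 2 ∣ (q * u + 1) * (u * (q - 1)) := by
    rw [Nat.prime_two.dvd_mul, Nat.prime_two.dvd_mul]
    have : 2 ∣ q * u := hqeven.mul_right u
    omega
  have hval : ∀ {j d : ℕ}, Nat.card G = 2 ^ j * d → ¬ 2 ∣ d → 2 ^ j = q ∧ d = (q * u + 1) * (u * (q - 1)) := by
    intro j d hj hd
    have he : 2 ^ n * ((q * u + 1) * (u * (q - 1))) = 2 ^ j * d := by
      rw [← hj, hG, ← hn]; ring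
    have h1 : 2 ^ n ∣ 2 ^ j :=
      ((Nat.prime_two.coprime_iff_not_dvd.2 hd).pow_left n).dvd_of_dvd_mul_right (he ▸ dvd_mul_right _ _)
    have h2 : 2 ^ j ∣ 2 ^ n :=
      ((Nat.prime_two.coprime_iff_not_dvd.2 hodd1).pow_left j).dvd_of_dvd_mul_right (he ▸ dvd_mul_right _ _)
    have h3 : 2 ^ j = 2 ^ n := Nat.dvd_antisymm h2 h1
    exact ⟨h3.trans hn.symm, Nat.eq_of_mul_eq_mul_left (Nat.two_pow_pos j) (by rw [← he, h3])⟩
  rcases Cfsg.Agent.S0340.result hcfg.zassenhaus with ⟨F, iF, iT, ⟨e⟩⟩ | hSz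
  · have hnc : ¬ IsMulCommutative G := fun h => c.nonsolvable
      (Group.isSolvable_of_comm fun a b => h.is_comm.comm a b)
    have hF4 := Transfer.CIT.four_le_card_field hnc e
    have hc := Dickson.card_psl (F := F)
    rw [← Nat.card_congr e.toEquiv, show Dickson.del F = Nat.gcd 2 (Fintype.card F - 1) from rfl] at hc
    set Q := Fintype.card F with hQ
    rcases Nat.even_or_odd Q with he | ho
    · obtain ⟨p, hp⟩ := CharP.exists F
      haveI := hp
      obtain ⟨f, hpp, hf⟩ := FiniteField.card F p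
      have hp2 : p = 2 := ((Nat.prime_dvd_prime_iff_eq Nat.prime_two hpp).1
        (Nat.prime_two.dvd_of_dvd_pow (n := f) (by rw [← hf]; exact he.two_dvd))).symm
      obtain ⟨w, hw⟩ := he
      have hg : Nat.gcd 2 (Q - 1) = 1 :=
        Nat.Coprime.gcd_eq_one (Nat.prime_two.coprime_iff_not_dvd.2 (by omega))
      rw [hg, mul_one] at hc
      have hodd2 : ¬ 2 ∣ (Q - 1) * (Q + 1) := by rw [Nat.prime_two.dvd_mul]; omega
      obtain ⟨h1, h2⟩ := hval (j := (f : ℕ)) (d := (Q - 1) * (Q + 1))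
        (by rw [← hp2, ← hf]; exact hc) hodd2
      rw [← hp2, ← hf, ← hQ] at h1
      rw [h1] at h2
      have h3 : q + 1 = (q * u + 1) * u :=
        Nat.eq_of_mul_eq_mul_left (by omega : 0 < q - 1) (by rw [h2]; ring)
      have h6 : q * 3 ≤ q * u := Nat.mul_le_mul_left q hu3
      have h7 : (q * u + 1) * 1 ≤ (q * u + 1) * u := Nat.mul_le_mul_left _ (by omega)
      omega
    · obtain ⟨p, hp⟩ := CharP.exists F
      haveI := hp
      obtain ⟨f, hpp, hf⟩ := FiniteField.card F p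
      obtain ⟨w, hw⟩ := ho
      have hg : Nat.gcd 2 (Q - 1) = 2 := Nat.gcd_eq_left (by omega)
      rw [hg] at hc
      have h48 : ¬ 4 ∣ (Q - 1) / 2 ∧ ¬ 4 ∣ (Q + 1) / 2 := by
        constructor <;> intro hd
        · obtain ⟨g, hg'⟩ := Transfer.CIT.exists_orderOf_half e hF4 (m := 4) (Or.inl (by rw [hg]; exact hd))
          exact (c.twoR.not_sq_dvd g).1 (by rw [hg'])
        · obtain ⟨g, hg'⟩ := Transfer.CIT.exists_orderOf_half e hF4 (m := 4) (Or.inr (by rw [hg]; exact hd))
          exact (c.twoR.not_sq_dvd g).1 (by rw [hg'])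
      rw [hw] at h48 hc
      simp only [Nat.add_sub_cancel] at h48 hc
      obtain ⟨d, hd, hd2⟩ : ∃ d, w * (w + 1) = 2 * d ∧ ¬ 2 ∣ d := by
        rcases (by omega : w % 4 = 1 ∨ w % 4 = 2) with e1 | e1
        · obtain ⟨i, rfl⟩ : ∃ i, w = 4 * i + 1 := ⟨w / 4, by omega⟩
          refine ⟨(4 * i + 1) * (2 * i + 1), by ring, ?_⟩
          rw [Nat.prime_two.dvd_mul]; omega
        · obtain ⟨i, rfl⟩ : ∃ i, w = 4 * i + 2 := ⟨w / 4, by omega⟩
          refine ⟨(2 * i + 1) * (4 * i + 3), by ring, ?_⟩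
          rw [Nat.prime_two.dvd_mul]; omega
      obtain ⟨h1, h2⟩ := hval (j := 2) (d := (2 * w + 1) * d) (by
        refine Nat.eq_of_mul_eq_mul_right Nat.two_pos ?_
        rw [hc, show 2 * w * (2 * w + 1 + 1) = 4 * (w * (w + 1)) by ring, hd]; ring)
        (by rw [Nat.prime_two.dvd_mul]; omega)
      have hq4 : q = 4 := h1.symm
      have hr3 : r ≠ 3 := by
        intro e3
        have h5 := hcfg.coprime
        rw [hidx, hq4] at h5
        exact (Nat.prime_three.coprime_iff_not_dvd.1 h5.symm) (e3 ▸ hrd)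
      refine two_arith hr c.twoR.ne_two hr3 hk hk0 hpp hf (show Q % 2 = 1 by omega) ?_
      rw [hq4] at hG
      show 24 * u * (4 * u + 1) = Q * ((Q - 1) * (Q + 1))
      rw [hw]
      simp only [Nat.add_sub_cancel]
      rw [← hc, hG]
      simp only [show (4 : ℕ) - 1 = 3 from rfl]
      ring
  · obtain ⟨-, m, hm, hc⟩ := hSz
    set Qs := 2 ^ (2 * m + 1) with hQs
    have hQe : 2 ∣ Qs := dvd_pow_self 2 (by omega)
    have hpos : 0 < Qs := by positivity
    have hodd2 : ¬ 2 ∣ (Qs ^ 2 + 1) * (Qs - 1) := by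
      have h22 : 2 ∣ Qs ^ 2 := dvd_pow hQe two_ne_zero
      rw [Nat.prime_two.dvd_mul]; omega
    obtain ⟨h1, h2⟩ := hval (j := (2 * m + 1) * 2) (by rw [hc, pow_mul, ← hQs, mul_assoc]) hodd2
    rw [pow_mul, ← hQs] at h1
    rw [h1] at h2
    have h3 : Qs ≤ q := h1 ▸ Nat.le_self_pow two_ne_zero Qs
    have h4' : (q + 1) * (Qs - 1) ≤ (q + 1) * (q - 1) := Nat.mul_le_mul_left _ (by omega)
    have h5 : 0 < q - 1 := by omega
    have h6 : q * 3 ≤ q * u := Nat.mul_le_mul_left q hu3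
    have h7 : (q + 1) * (q - 1) < (q * u + 1) * (q - 1) := Nat.mul_lt_mul_of_pos_right (by omega) h5
    have h8 : (q * u + 1) * (q - 1) ≤ (q * u + 1) * (u * (q - 1)) :=
      Nat.mul_le_mul_left _ (Nat.le_mul_of_pos_left _ (by omega))
    omega

end SEHyp

end Cfsg.Agent.Grp.ThreeOrders
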