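import Mathlib
import Cfsg.Prelude
import Cfsg.Agent.Lib.Grp.ThreeOrders.SETwo
import Cfsg.Agent.Lib.Grp.ThreeOrders.SEThreeDouble
import Cfsg.Agent.Lib.Grp.ThreeOrders.SEThreeTransfer

/-!
The involution centralisers of a simple group of type `TwoR` with an element of order `2 r` do not lie
in the Sylow 2-normaliser.
-/

set_option autoImplicit false
set_option linter.style.haveILetI false
set_option linter.unusedSectionVars false

universe u

namespace Cfsg.Agent.Grp.ThreeOrders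

open Subgroup

variable {G : Type u} [Group G] [Finite G] {r : ℕ} {S : Sylow 2 G}

theorem SEHyp.absurd_hyp [IsSimpleGroup G] (c : SEHyp G r S) : False := by
  by_cases h1 : ∀ y ∈ nS S, ∀ ℓ : ℕ, ℓ.Prime → ℓ ∣ orderOf y → ℓ = 2 ∨ ℓ = r
  · exact c.one_absurd h1
  by_cases h2 : ∀ x ∈ nS S, orderOf x = r →
      x ∈ Subgroup.centralizer ((S : Subgroup G) : Set G)
  · exact c.two_absurd h2
  push Not at h1 h2
  obtain ⟨y, hy, ℓ, hℓ, hℓd, hℓ2, hℓr⟩ := h1
  obtain ⟨x, hx, hxo, hxC⟩ := h2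
  obtain ⟨H, H₀, st⟩ := c.exists_struct ⟨x, hx, hxo, hxC⟩ ⟨y, hy, ℓ, hℓ, hℓd, hℓ2, hℓr⟩
  obtain ⟨hr3, x', a, hx', ha, hxa, hC, hCa, hninv, hF2⟩ := c.exists_eighteen st
  exact eighteen_absurd (hr3 ▸ c.twoR) c.nonsolvable hx' ha hxa hC hCa hninv hF2

/-- The Sylow 2-subgroups of a simple group of type `TwoR` with an element of order `2 r` have
order 4. -/
theorem TwoR.card_sylow [IsSimpleGroup G] (h : TwoR G r) (hns : ¬ Group.IsSolvable G)
    (hex : ∃ g : G, orderOf g = 2 * r) (S : Sylow 2 G) : Nat.card (S : Subgroup G) = 4 := by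
  haveI := Fact.mk Nat.prime_two
  obtain ⟨n, hn⟩ := S.isPGroup'.exists_card_eq
  rcases (by omega : n ≤ 1 ∨ n = 2 ∨ 3 ≤ n) with hn1 | hn1 | hn1
  · exfalso
    refine h.not_cyclic hns S ?_
    rcases (by omega : n = 0 ∨ n = 1) with rfl | rfl
    · haveI : Subsingleton (S : Subgroup G) := (Nat.card_eq_one_iff_unique.1 (by rw [hn, pow_zero])).1
      infer_instance
    · exact isCyclic_of_prime_card (p := 2) (by rw [hn, pow_one])
  · rw [hn, hn1]; norm_num
  · exfalso
    exact SEHyp.absurd_hyp (S := S) ⟨h, hns, fun a ha ha1 => h.signal hns S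
      (by rw [hn]; exact Nat.pow_le_pow_right (by norm_num) hn1) ha ha1, hex⟩

end Cfsg.Agent.Grp.ThreeOrders
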