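import Mathlib
import Cfsg.Prelude
import Cfsg.Agent.Lib.Grp.ThreeOrders.CoreOf
import Cfsg.Agent.Lib.Grp.ThreeOrders.SEFinal
import Cfsg.Agent.Lib.Grp.CoprimeAbelian
import Cfsg.Agent.Lib.Grp.SignalizerTransitive

/-!
A simple group of type `TwoR` with an element of order `2 r` and Sylow 2-subgroups of order four:
the cores of the involution centralisers are trivial intersection sets.
-/

set_option autoImplicit false
set_option linter.style.haveILetI false
set_option linter.unusedSectionVars false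

universe u

namespace Cfsg.Agent.Grp.ThreeOrders

open Subgroup
open scoped commutatorElement

variable {G : Type u} [Group G] [Finite G] {r : ℕ}

/-- The hypotheses of the case of Sylow 2-subgroups of order four. -/
structure FourHyp (G : Type u) [Group G] [Finite G] (r : ℕ) (S : Sylow 2 G) : Prop where
  twoR : TwoR G r
  nonsolvable : ¬ Group.IsSolvable G
  mixed : ∃ g : G, orderOf g = 2 * r
  card_four : Nat.card (S : Subgroup G) = 4

/-- An `r`-subgroup normalised by `S`. -/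
def InvR (r : ℕ) (S : Sylow 2 G) (K : Subgroup G) : Prop :=
  IsPGroup r K ∧ (S : Subgroup G) ≤ Subgroup.normalizer (K : Set G)

theorem TwoR.exists_four (h : TwoR G r) [IsSimpleGroup G] (hns : ¬ Group.IsSolvable G)
    (hex : ∃ g : G, orderOf g = 2 * r) (S : Sylow 2 G) : FourHyp G r S :=
  ⟨h, hns, hex, h.card_sylow hns hex S⟩

namespace FourHyp

variable {S : Sylow 2 G} (c : FourHyp G r S)
include c

theorem mul_self {s : G} (hs : s ∈ (S : Subgroup G)) : s * s = 1 :=
  c.twoR.two_group_sq S.isPGroup' hs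

theorem comm {a b : G} (ha : a ∈ (S : Subgroup G)) (hb : b ∈ (S : Subgroup G)) : a * b = b * a :=
  congrArg Subtype.val ((c.twoR.two_group_comm S.isPGroup').is_comm.comm ⟨a, ha⟩ ⟨b, hb⟩)

theorem ord {a : G} (ha : a ∈ (S : Subgroup G)) (ha1 : a ≠ 1) : orderOf a = 2 :=
  c.twoR.orderOf_eq_two S.isPGroup' ha ha1

theorem solv {a : G} (ha : a ∈ (S : Subgroup G)) (ha1 : a ≠ 1) :
    Group.IsSolvable (Subgroup.centralizer ({a} : Set G)) :=
  c.twoR.solvable_of_le_centralizer (Or.inl (c.ord ha ha1)) le_rfl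

theorem sylow_le_cent {a : G} (ha : a ∈ (S : Subgroup G)) :
    (S : Subgroup G) ≤ Subgroup.centralizer ({a} : Set G) := c.twoR.sylow_le_centralizer S ha

theorem not_cyclic : ¬ IsCyclic (S : Subgroup G) := c.twoR.not_cyclic c.nonsolvable S

theorem four_elems {a b : G} (ha : a ∈ (S : Subgroup G)) (hb : b ∈ (S : Subgroup G)) (ha1 : a ≠ 1)
    (hb1 : b ≠ 1) (hba : b ≠ a) {x : G} (hx : x ∈ (S : Subgroup G)) :
    x = 1 ∨ x = a ∨ x = b ∨ x = a * b := by
  classical
  have hab1 : a * b ≠ 1 := fun e =>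
    hba ((eq_inv_of_mul_eq_one_right e).trans (inv_eq_of_mul_eq_one_right (c.mul_self ha)))
  have haba : a * b ≠ a := fun e => hb1 (mul_eq_left.1 e)
  have habb : a * b ≠ b := fun e => ha1 (mul_eq_right.1 e)
  let T : Finset G := {1, a, b, a * b}
  have hT : (T : Set G) ⊆ ((S : Subgroup G) : Set G) := by
    intro y hy
    simp only [T, Finset.coe_insert, Finset.coe_singleton, Set.mem_insert_iff,
      Set.mem_singleton_iff] at hy
    rcases hy with rfl | rfl | rfl | rfl
    exacts [one_mem _, ha, hb, mul_mem ha hb]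
  have hTc : T.card = 4 := by
    simp [T, Finset.card_insert_of_notMem, ha1.symm, hb1.symm, hab1.symm, hba.symm, haba.symm,
      habb.symm]
  have heq := Set.eq_of_subset_of_ncard_le hT (by
    rw [Set.ncard_coe_finset, hTc, ← Nat.card_coe_set_eq, ← c.card_four]; exact le_rfl)
  have hxT : x ∈ (T : Set G) := by rw [heq]; exact hx
  simpa [T] using hxT

theorem exists_ne_one : ∃ a : G, a ∈ (S : Subgroup G) ∧ a ≠ 1 := by
  have h : 1 < Nat.card (S : Subgroup G) := by rw [c.card_four]; norm_num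
  haveI : Nontrivial (S : Subgroup G) := Finite.one_lt_card_iff_nontrivial.1 h
  obtain ⟨a, ha⟩ := exists_ne (1 : (S : Subgroup G))
  exact ⟨a, a.2, fun e => ha (Subtype.ext e)⟩

theorem exists_other {a : G} (ha1 : a ≠ 1) : ∃ b ∈ (S : Subgroup G), b ≠ 1 ∧ b ≠ a := by
  classical
  by_contra hcon
  push Not at hcon
  have hsub : ((S : Subgroup G) : Set G) ⊆ {1, a} := fun x hx => by
    by_cases h1 : x = 1
    · exact Or.inl h1
    · exact Or.inr (hcon x hx h1)
  have h2 := Set.ncard_le_ncard hsub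
  rw [← Nat.card_coe_set_eq] at h2
  rw [Set.ncard_pair ha1.symm] at h2
  have h4 : Nat.card ((S : Subgroup G) : Set G) = 4 := c.card_four
  omega

/-- An element of odd order moving one element of `S` moves all. -/
theorem fpf_of {y s : G} (hy : y ∈ Subgroup.normalizer ((S : Subgroup G) : Set G))
    (hodd : ¬ 2 ∣ orderOf y) (hs : s ∈ (S : Subgroup G)) (hsy : ¬ Commute s y) :
    ∀ a ∈ (S : Subgroup G), Commute a y → a = 1 := by
  intro a ha hc
  by_contra ha1
  apply hsy
  have hs1 : s ≠ 1 := fun e => hsy (e ▸ Commute.one_left y)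
  have hsa : s ≠ a := fun e => hsy (e ▸ hc)
  have hne : y * s * y⁻¹ ≠ s := fun e => hsy (mul_inv_eq_iff_eq_mul.1 e).symm
  rcases c.four_elems ha hs ha1 hs1 hsa (mem_conj_normalizer hy hs) with e | e | e | e
  · exact absurd (conj_eq_one_iff.1 e) hs1
  · refine absurd ?_ hsa
    calc s = y⁻¹ * (y * s * y⁻¹) * y := by group
      _ = y⁻¹ * (a * y) := by rw [e]; group
      _ = a := by rw [hc.eq]; group
  · exact absurd e hne
  · have h2 : y ^ 2 * s * (y ^ 2)⁻¹ = s := by
      calc y ^ 2 * s * (y ^ 2)⁻¹ = y * (y * s * y⁻¹) * y⁻¹ := by rw [sq]; group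
        _ = y * (a * s) * y⁻¹ := by rw [e]
        _ = (y * a * y⁻¹) * (y * s * y⁻¹) := by group
        _ = _ := by rw [e, ← hc.eq, mul_inv_cancel_right, ← mul_assoc, c.mul_self ha, one_mul]
    obtain ⟨j, hj⟩ : ∃ j, orderOf y = 2 * j + 1 := ⟨orderOf y / 2, by omega⟩
    have hyy : (y ^ 2) ^ (j + 1) = y := by
      rw [← pow_mul, show 2 * (j + 1) = orderOf y + 1 by omega, pow_succ, pow_orderOf_eq_one, one_mul]
    have hc2 : Commute (y ^ 2) s := mul_inv_eq_iff_eq_mul.1 h2
    exact (hyy ▸ hc2.pow_left (j + 1)).symm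

theorem commutator_eq {y : G} (hy : y ∈ Subgroup.normalizer ((S : Subgroup G) : Set G))
    (hodd : ¬ 2 ∣ orderOf y) (hfpf : ∀ a ∈ (S : Subgroup G), Commute a y → a = 1) :
    ⁅(S : Subgroup G), Subgroup.zpowers y⁆ = (S : Subgroup G) :=
  free_commutator_eq hy (by
    rw [c.card_four, show (4 : ℕ) = 2 ^ 2 by norm_num]
    exact (Nat.prime_two.coprime_iff_not_dvd.2 hodd).pow_left 2) hfpf

/-- The automorphism of order three. -/
theorem exists_y [IsSimpleGroup G] :
    ∃ y ∈ Subgroup.normalizer ((S : Subgroup G) : Set G), (orderOf y).Prime ∧ orderOf y ≠ 2 ∧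
      ∀ a ∈ (S : Subgroup G), Commute a y → a = 1 := by
  have hne : ¬ ⁅(S : Subgroup G), Subgroup.normalizer ((S : Subgroup G) : Set G)⁆ ≤ ⊥ := fun h => by
    have h1 := (c.twoR.sylow_le_focal c.nonsolvable S).trans h
    rw [le_bot_iff, ← Subgroup.card_eq_one, c.card_four] at h1
    omega
  obtain ⟨y, hy, hyp, hy2, hyne⟩ := c.twoR.exists_prime_elt S ⊥
    (fun g _ => mem_normalizer_fintype fun x hx => by simp_all) hne
  have hodd : ¬ 2 ∣ orderOf y := fun hd =>
    hy2 ((Nat.prime_dvd_prime_iff_eq Nat.prime_two hyp).1 hd).symm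
  obtain ⟨s, hs, hsy⟩ : ∃ s ∈ (S : Subgroup G), ¬ Commute s y := by
    by_contra hcon
    push Not at hcon
    refine hyne (Subgroup.commutator_le.2 fun s hs z hz => ?_)
    obtain ⟨i, rfl⟩ := Subgroup.mem_zpowers_iff.1 hz
    exact Subgroup.mem_bot.2 (commutatorElement_eq_one_iff_mul_comm.2 ((hcon s hs).zpow_right i).eq)
  exact ⟨y, hy, hyp, hy2, c.fpf_of hy hodd hs hsy⟩

/-- `y` permutes the involutions of `S` transitively. -/
theorem conj_trans {y : G} (hy : y ∈ Subgroup.normalizer ((S : Subgroup G) : Set G))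
    (hodd : ¬ 2 ∣ orderOf y) (hfpf : ∀ a ∈ (S : Subgroup G), Commute a y → a = 1) {a b : G}
    (ha : a ∈ (S : Subgroup G)) (ha1 : a ≠ 1) (hb : b ∈ (S : Subgroup G)) (hb1 : b ≠ 1) :
    ∃ i : ℕ, i ≤ 2 ∧ y ^ i * a * (y ^ i)⁻¹ = b := by
  set a' := y * a * y⁻¹ with ha'
  have ha'S : a' ∈ (S : Subgroup G) := mem_conj_normalizer hy ha
  have ha'1 : a' ≠ 1 := fun e => ha1 (conj_eq_one_iff.1 e)
  have ha'a : a' ≠ a := fun e => ha1 (hfpf a ha (mul_inv_eq_iff_eq_mul.1 e).symm)
  rcases c.four_elems ha ha'S ha1 ha'1 ha'a hb with e | e | e | e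
  · exact absurd e hb1
  · exact ⟨0, by norm_num, by simp [e]⟩
  · exact ⟨1, by norm_num, by rw [pow_one, ← ha', e]⟩
  refine ⟨2, le_rfl, ?_⟩
  have h3 : y ^ 2 * a * (y ^ 2)⁻¹ = y * a' * y⁻¹ := by rw [ha', sq]; group
  rcases c.four_elems ha ha'S ha1 ha'1 ha'a (mem_conj_normalizer hy ha'S) with e' | e' | e' | e'
  · exact absurd (conj_eq_one_iff.1 e') ha'1
  · exfalso
    have h2 : Commute (y ^ 2) a := mul_inv_eq_iff_eq_mul.1 (h3.trans e')
    obtain ⟨j, hj⟩ : ∃ j, orderOf y = 2 * j + 1 := ⟨orderOf y / 2, by omega⟩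
    have hyy : (y ^ 2) ^ (j + 1) = y := by
      rw [← pow_mul, show 2 * (j + 1) = orderOf y + 1 by omega, pow_succ, pow_orderOf_eq_one, one_mul]
    exact ha1 (hfpf a ha (hyy ▸ h2.pow_left (j + 1)).symm)
  · exfalso
    exact ha'1 (hfpf a' ha'S (mul_inv_eq_iff_eq_mul.1 e').symm)
  · rw [h3, e', e]

theorem coreAt_inf_le {a b : G} (ha : a ∈ (S : Subgroup G)) (hb : b ∈ (S : Subgroup G))
    (hb1 : b ≠ 1) : coreAt a ⊓ Subgroup.centralizer ((S : Subgroup G) : Set G) ≤ coreAt b :=
  le_trans (inf_le_inf_left _ (Subgroup.centralizer_le (Set.singleton_subset_iff.2 hb)))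
    (c.twoR.coreAt_balance S (c.ord hb hb1) ha hb)

/-- The core of an involution centraliser meets `C(S)` trivially. -/
theorem inf_eq_bot [IsSimpleGroup G] {a : G} (ha : a ∈ (S : Subgroup G)) (ha1 : a ≠ 1) :
    coreAt a ⊓ Subgroup.centralizer ((S : Subgroup G) : Set G) = ⊥ := by
  haveI := Fact.mk c.twoR.prime
  haveI := Fact.mk Nat.prime_two
  by_contra hne
  have key : ∀ b ∈ (S : Subgroup G), b ≠ 1 →
      Subgroup.centralizer ({b} : Set G) ≤ Subgroup.normalizer ((S : Subgroup G) : Set G) := by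
    intro b hb hb1
    set W := coreAt a ⊓ Subgroup.centralizer ((S : Subgroup G) : Set G) with hW
    have hWd : ∀ d ∈ (S : Subgroup G), d ≠ 1 →
        coreAt d ⊓ Subgroup.centralizer ((S : Subgroup G) : Set G) = W := fun d hd hd1 =>
      le_antisymm (le_inf (c.coreAt_inf_le hd ha ha1) inf_le_right)
        (le_inf (c.coreAt_inf_le ha hd hd1) inf_le_right)
    have hNW : Subgroup.normalizer ((S : Subgroup G) : Set G) ≤ Subgroup.normalizer (W : Set G) := by
      intro g hg
      refine mem_normalizer_fintype fun x hx => ?_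
      rw [SetLike.mem_coe, ← hWd (g * a * g⁻¹) (mem_conj_normalizer hg ha)
        (fun e => ha1 (conj_eq_one_iff.1 e))]
      exact ⟨coreAt_conj_le a g ⟨x, hx.1, rfl⟩,
        mem_conj_normalizer (normalizer_le_centralizer_normalizer _ hg) hx.2⟩
    obtain ⟨x, hx, hxp⟩ := exists_prime_order_mem hne
    have hxr : orderOf x = r := by
      rcases c.twoR.primes_of_commute (Or.inl (c.ord ha ha1))
        (Subgroup.mem_centralizer_singleton_iff.1 (coreAt_le a hx.1)) hxp dvd_rfl with e | e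
      · exact absurd (e ▸ Subgroup.orderOf_dvd_natCard _ hx.1) (coreAt_odd a)
      · exact e
    set C := Subgroup.centralizer (W : Set G) with hC
    have hsol : Group.IsSolvable C := c.twoR.solvable_of_le_centralizer (Or.inr hxr)
      (Subgroup.centralizer_le (Set.singleton_subset_iff.2 hx))
    have hSC : (S : Subgroup G) ≤ C := Subgroup.le_centralizer_iff.1 inf_le_right
    have hUr : IsPGroup r (coreOf C) := c.twoR.invariant_isPGroup _ _ S.isPGroup' c.not_cyclic
      (hSC.trans (coreOf_normalized C)) (coreOf_odd C)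
    obtain ⟨y, hy, hyp, hy2, hfpf⟩ := c.exists_y
    have hyodd : ¬ 2 ∣ orderOf y := fun hd =>
      hy2 ((Nat.prime_dvd_prime_iff_eq Nat.prime_two hyp).1 hd).symm
    have hSU := c.twoR.lift_two (S : Subgroup G) (coreOf C) S.isPGroup' hUr
      (hSC.trans (coreOf_normalized C))
      (normalizer_le_coreOf C (normalizer_le_centralizer_normalizer W (hNW hy))) hy hyp hy2 rfl
    rw [c.commutator_eq hy hyodd hfpf] at hSU
    set O := coreAt b with hO
    have hOC : O ⊓ C ≤ Subgroup.centralizer ((S : Subgroup G) : Set G) := by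
      have hSN : (S : Subgroup G) ≤ Subgroup.normalizer ((O ⊓ C : Subgroup G) : Set G) := by
        intro s hs
        refine mem_normalizer_fintype fun z hz => ?_
        exact ⟨mem_conj_normalizer (coreAt_normalized b (c.sylow_le_cent hb hs)) hz.1,
          C.mul_mem (C.mul_mem (hSC hs) hz.2) (C.inv_mem (hSC hs))⟩
      exact (c.twoR.invariant_le_coreOf S hsol hSC _ inf_le_right
        (fun hd => coreAt_odd b (hd.trans (Subgroup.card_dvd_of_le inf_le_left))) hSN).trans
        (Subgroup.le_centralizer_iff.1 hSU)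
    have hOr : IsPGroup r O := c.twoR.invariant_isPGroup _ _ S.isPGroup' c.not_cyclic
      ((c.sylow_le_cent hb).trans (coreAt_normalized b)) (coreAt_odd b)
    have hWp : IsPGroup r W :=
      (c.twoR.invariant_isPGroup _ _ S.isPGroup' c.not_cyclic
        ((c.sylow_le_cent ha).trans (coreAt_normalized a)) (coreAt_odd a)).to_le inf_le_left
    have hSO : (S : Subgroup G) ≤ Subgroup.centralizer (O : Set G) := by
      refine Grp.thompson_PQ W (S : Subgroup G) hWp ?_ inf_le_right O hOr ?_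
        ((c.sylow_le_cent hb).trans (coreAt_normalized b)) hOC
      · rw [c.card_four, show (4 : ℕ) = 2 ^ 2 by norm_num]
        exact ((Nat.coprime_primes Nat.prime_two c.twoR.prime).2 (Ne.symm c.twoR.ne_two)).pow_left 2
      · rw [← hWd b hb hb1]
        exact inf_le_left.trans ((coreAt_le b).trans (coreAt_normalized b))
    exact c.twoR.centralizer_le_normalizer_of_core S (c.solv hb hb1) (c.sylow_le_cent hb) hSO
  exact SEHyp.absurd_hyp (S := S) ⟨c.twoR, c.nonsolvable, key, c.mixed⟩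

theorem coreAt_invR {a : G} (ha : a ∈ (S : Subgroup G)) : InvR r S (coreAt a) :=
  ⟨c.twoR.invariant_isPGroup _ _ S.isPGroup' c.not_cyclic
    ((c.sylow_le_cent ha).trans (coreAt_normalized a)) (coreAt_odd a),
    (c.sylow_le_cent ha).trans (coreAt_normalized a)⟩

theorem invR_odd {K : Subgroup G} (hK : InvR r S K) : ¬ 2 ∣ Nat.card K := by
  haveI := Fact.mk c.twoR.prime
  obtain ⟨n, hn⟩ := hK.1.exists_card_eq
  rw [hn]
  exact fun hd => c.twoR.ne_two
    ((Nat.prime_dvd_prime_iff_eq Nat.prime_two c.twoR.prime).1 (Nat.prime_two.dvd_of_dvd_pow hd)).symm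

theorem inf_cent_le {K : Subgroup G} (hK : InvR r S K) {a : G} (ha : a ∈ (S : Subgroup G))
    (ha1 : a ≠ 1) : K ⊓ Subgroup.centralizer ({a} : Set G) ≤ coreAt a := by
  refine c.twoR.invariant_le_coreAt S (c.solv ha ha1) (c.sylow_le_cent ha) _ inf_le_right
    (fun hd => c.invR_odd hK (hd.trans (Subgroup.card_dvd_of_le inf_le_left))) fun s hs => ?_
  refine mem_normalizer_fintype fun x hx => ⟨mem_conj_normalizer (hK.2 hs) hx.1, ?_⟩
  exact Subgroup.mul_mem _ (Subgroup.mul_mem _ (c.sylow_le_cent ha hs) hx.2)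
    (Subgroup.inv_mem _ (c.sylow_le_cent ha hs))

theorem eq_bot_of_cent [IsSimpleGroup G] {K : Subgroup G} (hK : InvR r S K)
    (h : (S : Subgroup G) ≤ Subgroup.centralizer (K : Set G)) : K = ⊥ := by
  obtain ⟨a, ha, ha1⟩ := c.exists_ne_one
  rw [eq_bot_iff, ← c.inf_eq_bot ha ha1]
  have hle : K ≤ Subgroup.centralizer ((S : Subgroup G) : Set G) := Subgroup.le_centralizer_iff.1 h
  exact fun x hx => ⟨c.inf_cent_le hK ha ha1
    ⟨hx, Subgroup.centralizer_le (Set.singleton_subset_iff.2 ha) (hle hx)⟩, hle hx⟩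

theorem normalizer_solvable [IsSimpleGroup G] {D : Subgroup G} (hD : InvR r S D) (hD1 : D ≠ ⊥) :
    Group.IsSolvable (Subgroup.normalizer (D : Set G)) := by
  haveI := Fact.mk Nat.prime_two
  set N := Subgroup.normalizer (D : Set G) with hN
  let S' : Sylow 2 N := S.subtype hD.2
  have hT := c.twoR.subgroup N
  have hcent : Subgroup.normalizer ((S' : Subgroup N) : Set N) ≤
      Subgroup.centralizer ((S' : Subgroup N) : Set N) := by
    by_contra hne
    have hne' : ¬ ⁅(S' : Subgroup N), Subgroup.normalizer ((S' : Subgroup N) : Set N)⁆ ≤ ⊥ := by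
      intro h
      refine hne fun g hg => Subgroup.mem_centralizer_iff.2 fun s hs => ?_
      exact commutatorElement_eq_one_iff_mul_comm.1
        (Subgroup.mem_bot.1 (h (Subgroup.commutator_mem_commutator hs hg)))
    obtain ⟨y, hy, hyp, hy2, hyne⟩ := hT.exists_prime_elt S' ⊥
      (fun g _ => mem_normalizer_fintype fun x hx => by simp_all) hne'
    obtain ⟨s, hs, hsy⟩ : ∃ s ∈ (S' : Subgroup N), ¬ Commute s y := by
      by_contra hcon
      push Not at hcon
      refine hyne (Subgroup.commutator_le.2 fun s hs z hz => ?_)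
      obtain ⟨i, rfl⟩ := Subgroup.mem_zpowers_iff.1 hz
      exact Subgroup.mem_bot.2 (commutatorElement_eq_one_iff_mul_comm.2 ((hcon s hs).zpow_right i).eq)
    have hyS : (y : G) ∈ Subgroup.normalizer ((S : Subgroup G) : Set G) := by
      refine mem_normalizer_fintype fun x hx => ?_
      have := mem_conj_normalizer hy (x := ⟨x, hD.2 hx⟩) (by
        show (⟨x, hD.2 hx⟩ : N) ∈ (S' : Subgroup N)
        rw [Sylow.coe_subtype]; exact Subgroup.mem_subgroupOf.2 hx)
      rw [Sylow.coe_subtype, Subgroup.mem_subgroupOf] at this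
      exact this
    have hodd : ¬ 2 ∣ orderOf (y : G) := by
      rw [Subgroup.orderOf_coe]
      exact fun hd => hy2 ((Nat.prime_dvd_prime_iff_eq Nat.prime_two hyp).1 hd).symm
    have hsS : (s : G) ∈ (S : Subgroup G) := by
      rw [Sylow.coe_subtype, Subgroup.mem_subgroupOf] at hs
      exact hs
    have hfpf := c.fpf_of hyS hodd hsS fun e => hsy (Subtype.ext e)
    have hl := c.twoR.lift_two (S : Subgroup G) D S.isPGroup' hD.1 hD.2 y.2 hyS
      (n := orderOf y) hyp hy2 (Subgroup.orderOf_coe y)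
    rw [c.commutator_eq hyS hodd hfpf] at hl
    exact hD1 (c.eq_bot_of_cent hD hl)
  set f := MonoidHom.transferSylow S' hcent
  refine solvable_ext f.ker (odd_solvable (MonoidHom.not_dvd_card_ker_transferSylow S' hcent)) ?_
  haveI : Group.IsNilpotent (S' : Subgroup N) := S'.isPGroup'.isNilpotent
  haveI : Group.IsSolvable f.range := inferInstance
  exact Group.isSolvable_of_surjective (f := (QuotientGroup.quotientKerEquivRange f).symm.toMonoidHom)
    (QuotientGroup.quotientKerEquivRange f).symm.surjective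

/-- Maximal invariant `r`-subgroups are trivial intersection sets. -/
theorem le_of_maximal [IsSimpleGroup G] {R K : Subgroup G} (hR : Maximal (InvR r S) R)
    (hK : InvR r S K) (hne : R ⊓ K ≠ ⊥) : K ≤ R := by
  haveI := Fact.mk c.twoR.prime
  by_contra hKR
  obtain ⟨D, -, hD⟩ := Finite.exists_le_maximal
    (p := fun D : Subgroup G => ∃ R K : Subgroup G, Maximal (InvR r S) R ∧ InvR r S K ∧ D = R ⊓ K ∧
      D ≠ ⊥ ∧ ¬ K ≤ R) (a := R ⊓ K) ⟨R, K, hR, hK, rfl, hne, hKR⟩
  obtain ⟨R, K, hR, hK, hDeq, hD1, hKR⟩ := hD.1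
  have hDK : D < K := lt_of_le_of_ne (hDeq ▸ inf_le_right) fun e => hKR (e ▸ hDeq ▸ inf_le_left)
  have hDR : D < R := lt_of_le_of_ne (hDeq ▸ inf_le_left) fun e => hKR
    (hR.2 hK (e ▸ hDeq ▸ inf_le_right))
  have hSD : (S : Subgroup G) ≤ Subgroup.normalizer (D : Set G) := by
    intro s hs
    rw [hDeq]
    exact mem_normalizer_fintype fun x hx =>
      ⟨mem_conj_normalizer (hR.1.2 hs) hx.1, mem_conj_normalizer (hK.2 hs) hx.2⟩
  have hDinv : InvR r S D := ⟨hR.1.1.to_le hDR.le, hSD⟩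
  set N := Subgroup.normalizer (D : Set G) with hN
  have hsol : Group.IsSolvable N := c.normalizer_solvable hDinv hD1
  have hU : InvR r S (coreOf N) := ⟨c.twoR.invariant_isPGroup _ _ S.isPGroup' c.not_cyclic
    (hSD.trans (coreOf_normalized N)) (coreOf_odd N), hSD.trans (coreOf_normalized N)⟩
  have hle : ∀ {P : Subgroup G}, InvR r S P → P ⊓ N ≤ coreOf N := fun {P} hP => by
    refine c.twoR.invariant_le_coreOf S hsol hSD _ inf_le_right
      (fun hd => c.invR_odd hP (hd.trans (Subgroup.card_dvd_of_le inf_le_left))) fun s hs => ?_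
    exact mem_normalizer_fintype fun x hx => ⟨mem_conj_normalizer (hP.2 hs) hx.1,
      N.mul_mem (N.mul_mem (hSD hs) hx.2) (N.inv_mem (hSD hs))⟩
  obtain ⟨R', hUR', hR'⟩ := Finite.exists_le_maximal hU
  have hRN := lt_inf_normalizer hR.1.1.isNilpotent hDR
  have hKN := lt_inf_normalizer hK.1.isNilpotent hDK
  have hR'R : R' ≤ R := by
    by_contra hnle
    have hbig : D < R ⊓ R' := lt_of_lt_of_le hRN (le_inf inf_le_left ((hle hR.1).trans hUR'))
    exact absurd (hD.2 ⟨R, R', hR, hR'.1, rfl, (bot_le.trans_lt hbig).ne', hnle⟩ hbig.le)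
      (not_le_of_gt hbig)
  exact absurd (le_inf (((hle hK).trans hUR').trans hR'R) inf_le_left)
    (not_le_of_gt (hDeq ▸ hKN))

theorem coreAt_ne_bot [IsSimpleGroup G] {a : G} (ha : a ∈ (S : Subgroup G)) (ha1 : a ≠ 1) :
    coreAt a ≠ ⊥ := by
  haveI := Fact.mk Nat.prime_two
  obtain ⟨g, hg⟩ := c.mixed
  set i := g ^ r with hi
  have hio : orderOf i = 2 := by
    rw [hi, orderOf_pow, hg, Nat.gcd_eq_right (dvd_mul_left r 2),
      Nat.mul_div_cancel _ c.twoR.prime.pos]
  have hp : IsPGroup 2 (Subgroup.zpowers i) :=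
    IsPGroup.of_card (n := 1) (by rw [Nat.card_zpowers, hio, pow_one])
  obtain ⟨P, hP⟩ := hp.exists_le_sylow
  obtain ⟨d, hd⟩ := MulAction.exists_smul_eq G S P
  have hb : d⁻¹ * i * d ∈ (S : Subgroup G) := (mem_smul_sylow d S).1 (hd ▸ hP (mem_zpowers i))
  have hb1 : d⁻¹ * i * d ≠ 1 := fun e => by
    have : i = 1 := by
      calc i = d * (d⁻¹ * i * d) * d⁻¹ := by group
        _ = 1 := by rw [e]; group
    rw [this, orderOf_one] at hio; omega
  obtain ⟨y, hy, hyp, hy2, hfpf⟩ := c.exists_y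
  obtain ⟨k, -, hk⟩ := c.conj_trans hy (fun hd =>
    hy2 ((Nat.prime_dvd_prime_iff_eq Nat.prime_two hyp).1 hd).symm) hfpf hb hb1 ha ha1
  set e := y ^ k * d⁻¹ with he
  have hei : e * i * e⁻¹ = a := by rw [he, ← hk]; group
  intro hbot
  have hzo : orderOf (e * g ^ 2 * e⁻¹) = r := by
    rw [← SemiconjBy.orderOf_eq (x := g ^ 2) (y := e * g ^ 2 * e⁻¹) e (by simp [SemiconjBy]),
      orderOf_pow, hg, Nat.gcd_eq_right (dvd_mul_right 2 r), Nat.mul_div_cancel_left _ Nat.two_pos]
  have hcomm : Commute (e * g ^ 2 * e⁻¹) a := by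
    rw [← hei]
    exact ((Commute.refl g).pow_pow 2 r).map (MulAut.conj e).toMonoidHom
  have hm := c.twoR.mem_coreAt_of_odd S c.card_four ha (c.ord ha ha1)
    (Subgroup.mem_centralizer_singleton_iff.2 hcomm.eq) (x := e * g ^ 2 * e⁻¹) (by
      rw [hzo]
      exact fun hd => c.twoR.ne_two ((Nat.prime_dvd_prime_iff_eq Nat.prime_two c.twoR.prime).1 hd).symm)
  rw [hbot, Subgroup.mem_bot] at hm
  rw [hm, orderOf_one] at hzo
  exact c.twoR.prime.ne_one hzo.symm

theorem coreAt_maximal [IsSimpleGroup G] {a : G} (ha : a ∈ (S : Subgroup G)) (ha1 : a ≠ 1) :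
    Maximal (InvR r S) (coreAt a) := by
  haveI := Fact.mk c.twoR.prime
  haveI := c.twoR.two_group_comm S.isPGroup'
  obtain ⟨R, haR, hR⟩ := Finite.exists_le_maximal (c.coreAt_invR ha)
  suffices hRa : R ≤ coreAt a by rwa [le_antisymm haR hRa]
  have hcop : (Nat.card (S : Subgroup G)).Coprime (Nat.card R) := by
    rw [c.card_four, show (4 : ℕ) = 2 ^ 2 by norm_num]
    exact (Nat.prime_two.coprime_iff_not_dvd.2 (c.invR_odd hR.1)).pow_left 2
  refine le_of_eq_of_le (generated_by_centralizers (S : Subgroup G) R c.not_cyclic hR.1.2 hcop).symm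
    (iSup₂_le fun b hb => ?_)
  by_cases hba : b = a
  · subst hba; exact c.inf_cent_le hR.1 ha ha1
  by_contra hne
  have hne' : R ⊓ coreAt b ≠ ⊥ := fun e => hne (by
    have : R ⊓ Subgroup.centralizer ({b} : Set G) ≤ R ⊓ coreAt b :=
      le_inf inf_le_left (c.inf_cent_le hR.1 hb.1 hb.2)
    rw [e] at this
    exact this.trans bot_le)
  have hbR : coreAt b ≤ R := c.le_of_maximal hR (c.coreAt_invR hb.1) hne'
  obtain ⟨y, hy, hyp, hy2, hfpf⟩ := c.exists_y
  have hodd : ¬ 2 ∣ orderOf y := fun hd =>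
    hy2 ((Nat.prime_dvd_prime_iff_eq Nat.prime_two hyp).1 hd).symm
  obtain ⟨i, hi2, hi⟩ := c.conj_trans hy hodd hfpf ha ha1 hb.1 hb.2
  set g := y ^ i with hg
  have hgN : g ∈ Subgroup.normalizer ((S : Subgroup G) : Set G) := pow_mem hy i
  set Rg := R.map (MulAut.conj g).toMonoidHom with hRg
  have hRgI : InvR r S Rg := by
    refine ⟨hR.1.1.map _, fun s hs => ?_⟩
    refine mem_normalizer_fintype ?_
    rintro _ ⟨x, hx, rfl⟩
    refine ⟨g⁻¹ * s * g * x * (g⁻¹ * s * g)⁻¹,
      mem_conj_normalizer (hR.1.2 (mem_conj_normalizer' hgN hs)) hx, ?_⟩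
    simp [mul_assoc]
  have hbg : coreAt b ≤ Rg := by
    intro x hx
    have hx' := coreAt_conj_le b g⁻¹ ⟨x, hx, rfl⟩
    rw [show g⁻¹ * b * g⁻¹⁻¹ = a by rw [← hi]; group] at hx'
    exact ⟨_, haR hx', by simp [mul_assoc]⟩
  have hle : Rg ≤ R := c.le_of_maximal hR hRgI
    (ne_bot_of_le_ne_bot (c.coreAt_ne_bot hb.1 hb.2) (le_inf hbR hbg))
  have hgR : g ∈ Subgroup.normalizer (R : Set G) :=
    mem_normalizer_fintype fun x hx => hle ⟨x, hx, rfl⟩
  have hyR : y ∈ Subgroup.normalizer (R : Set G) := by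
    obtain ⟨j, hj⟩ : ∃ j, orderOf y = 2 * j + 1 := ⟨orderOf y / 2, by omega⟩
    rcases (by omega : i = 0 ∨ i = 1 ∨ i = 2) with rfl | rfl | rfl
    · exact absurd (by rw [hg] at hi; simpa using hi.symm) hba
    · rwa [hg, pow_one] at hgR
    · have hyy : g ^ (j + 1) = y := by
        rw [hg, ← pow_mul, show 2 * (j + 1) = orderOf y + 1 by omega, pow_succ, pow_orderOf_eq_one,
          one_mul]
      exact hyy ▸ pow_mem hgR _
  have hl := c.twoR.lift_two (S : Subgroup G) R S.isPGroup' hR.1.1 hR.1.2 hyR hy hyp hy2 rfl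
  rw [c.commutator_eq hy hodd hfpf] at hl
  exact c.coreAt_ne_bot ha ha1 (le_bot_iff.1 (haR.trans (c.eq_bot_of_cent hR.1 hl).le))

/-- An invariant `r`-subgroup meeting a core lies in it. -/
theorem le_coreAt_of_meets [IsSimpleGroup G] {a : G} (ha : a ∈ (S : Subgroup G)) (ha1 : a ≠ 1)
    {K : Subgroup G} (hK : InvR r S K) (hne : coreAt a ⊓ K ≠ ⊥) : K ≤ coreAt a :=
  c.le_of_maximal (c.coreAt_maximal ha ha1) hK hne

end FourHyp

end Cfsg.Agent.Grp.ThreeOrders
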