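import Mathlib
import Cfsg.Prelude
import Cfsg.Agent.Lib.Grp.ThreeOrders.Four
import Cfsg.Agent.Lib.Transfer.CIT.PSLTwo
import Cfsg.Agent.S0508
import Cfsg.Agent.S2475

/-!
A simple group of type `TwoR` with an element of order `2 r` is a `PSL(2, q)` with `q` odd.
-/

set_option autoImplicit false
set_option linter.style.haveILetI false
set_option linter.unusedSectionVars false

universe u

namespace Cfsg.Agent.Grp.ThreeOrders

open Subgroup
open scoped commutatorElement

variable {G : Type u} [Group G] [Finite G] {r : ℕ}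

namespace FourHyp

variable {S : Sylow 2 G} (c : FourHyp G r S)
include c

theorem inverts [IsSimpleGroup G] {a b : G} (ha : a ∈ (S : Subgroup G)) (ha1 : a ≠ 1)
    (hb : b ∈ (S : Subgroup G)) (hb1 : b ≠ 1) (hba : b ≠ a) {x : G} (hx : x ∈ coreAt a) :
    b * x * b⁻¹ = x⁻¹ := by
  refine inverts_of_fpf (coreAt a) (c.mul_self hb) (fun n hn =>
    mem_conj_normalizer ((c.coreAt_invR ha).2 hb) hn) (fun n hn hc => ?_) hx
  have hmem : n ∈ coreAt a ⊓ Subgroup.centralizer ((S : Subgroup G) : Set G) := by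
    refine ⟨hn, Subgroup.mem_centralizer_iff.2 fun s hs => ?_⟩
    have hna : Commute a n := (Subgroup.mem_centralizer_singleton_iff.1 (coreAt_le a hn)).symm
    rcases c.four_elems ha hb ha1 hb1 hba hs with rfl | rfl | rfl | rfl
    exacts [by simp, hna.eq, hc.symm.eq, (hna.mul_left hc.symm).eq]
  rw [c.inf_eq_bot ha ha1] at hmem
  exact Subgroup.mem_bot.1 hmem

theorem coreAt_comm [IsSimpleGroup G] {a : G} (ha : a ∈ (S : Subgroup G)) (ha1 : a ≠ 1) {x y : G}
    (hx : x ∈ coreAt a) (hy : y ∈ coreAt a) : x * y = y * x := by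
  obtain ⟨b, hb, hb1, hba⟩ := c.exists_other ha1
  exact comm_of_inverted _ (fun n hn => c.inverts ha ha1 hb hb1 hba hn) hx hy

theorem centralizer_core [IsSimpleGroup G] {a : G} (ha : a ∈ (S : Subgroup G)) (ha1 : a ≠ 1) {s : G}
    (hs : s ∈ (S : Subgroup G)) (hc : s ∈ Subgroup.centralizer (coreAt a : Set G)) :
    s = 1 ∨ s = a := by
  by_contra hcon
  push Not at hcon
  refine c.coreAt_ne_bot ha ha1 (eq_bot_iff.2 fun x hx => Subgroup.mem_bot.2 ?_)
  have e := c.inverts ha ha1 hs hcon.1 hcon.2 hx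
  rw [← Subgroup.mem_centralizer_iff.1 hc x hx, mul_inv_cancel_right] at e
  by_contra hx1
  refine c.invR_odd (c.coreAt_invR ha) ?_
  have h2 : orderOf x = 2 := orderOf_eq_prime (by rw [sq]; nth_rw 2 [e]; exact mul_inv_cancel x) hx1
  exact h2 ▸ Subgroup.orderOf_dvd_natCard _ hx

theorem normalizer_le [IsSimpleGroup G] {a : G} (ha : a ∈ (S : Subgroup G)) (ha1 : a ≠ 1)
    {Y : Subgroup G} (hY : Y ≤ coreAt a) (hY1 : Y ≠ ⊥) :
    Subgroup.normalizer (Y : Set G) ≤ Subgroup.centralizer ({a} : Set G) := by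
  haveI := Fact.mk c.twoR.prime
  obtain ⟨b, hb, hb1, hba⟩ := c.exists_other ha1
  have hSY : (S : Subgroup G) ≤ Subgroup.normalizer (Y : Set G) := by
    intro s hs
    refine mem_normalizer_fintype fun y hy => ?_
    have hya : Commute a y := (Subgroup.mem_centralizer_singleton_iff.1 (coreAt_le a (hY hy))).symm
    rcases c.four_elems ha hb ha1 hb1 hba hs with rfl | rfl | rfl | rfl
    · simpa using hy
    · rw [hya.eq, mul_inv_cancel_right]; exact hy
    · rw [c.inverts ha ha1 hs hb1 hba (hY hy)]; exact Y.inv_mem hy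
    · have e : a * b * y * (a * b)⁻¹ = a * (b * y * b⁻¹) * a⁻¹ := by group
      rw [e, c.inverts ha ha1 hb hb1 hba (hY hy), hya.inv_right.eq, mul_inv_cancel_right]
      exact Y.inv_mem hy
  have hYinv : InvR r S Y := ⟨(c.coreAt_invR ha).1.to_le hY, hSY⟩
  set N := Subgroup.normalizer (Y : Set G) with hN
  have hsol : Group.IsSolvable N := c.normalizer_solvable hYinv hY1
  have hU : InvR r S (coreOf N) := ⟨c.twoR.invariant_isPGroup _ _ S.isPGroup' c.not_cyclic
    (hSY.trans (coreOf_normalized N)) (coreOf_odd N), hSY.trans (coreOf_normalized N)⟩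
  have hON : coreAt a ≤ N := fun x hx => mem_normalizer_fintype fun y hy => by
    rw [c.coreAt_comm ha ha1 hx (hY hy), mul_inv_cancel_right]; exact hy
  have hOU : coreAt a ≤ coreOf N := c.twoR.invariant_le_coreOf S hsol hSY _ hON (coreAt_odd a)
    (c.coreAt_invR ha).2
  have hUeq : coreOf N = coreAt a :=
    le_antisymm (c.le_coreAt_of_meets ha ha1 hU (by
      rw [inf_eq_left.2 hOU]; exact c.coreAt_ne_bot ha ha1)) hOU
  intro g hg
  haveI := hsol
  -- the conjugate of `a`
  have hm := (c.twoR.subgroup N).conj_mem_core_sup (S.subtype hSY) (x := ⟨g, hg⟩)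
    (s := ⟨a, hSY ha⟩) (by rw [Sylow.coe_subtype]; exact Subgroup.mem_subgroupOf.2 ha)
  have hm' := Subgroup.mem_map_of_mem N.subtype hm
  rw [Sylow.coe_subtype, Subgroup.map_sup, Subgroup.map_subgroupOf_eq_of_le hSY] at hm'
  change g * a * g⁻¹ ∈ coreOf N ⊔ (S : Subgroup G) at hm'
  rw [hUeq, ← SetLike.mem_coe,
    Subgroup.coe_mul_of_right_le_normalizer_left _ _ (c.coreAt_invR ha).2] at hm'
  obtain ⟨w, hw, s, hs, hws⟩ := hm'
  change w * s = g * a * g⁻¹ at hws
  have hgO : g ∈ Subgroup.normalizer (coreAt a : Set G) := hUeq ▸ coreOf_normalized N hg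
  have hcen : g * a * g⁻¹ ∈ Subgroup.centralizer (coreAt a : Set G) :=
    mem_conj_normalizer (normalizer_le_centralizer_normalizer _ hgO)
      (Subgroup.mem_centralizer_iff.2 fun x hx =>
        Subgroup.mem_centralizer_singleton_iff.1 (coreAt_le a hx))
  have hscen : s ∈ Subgroup.centralizer (coreAt a : Set G) := by
    have hwcen : w ∈ Subgroup.centralizer (coreAt a : Set G) :=
      Subgroup.mem_centralizer_iff.2 fun x hx => c.coreAt_comm ha ha1 hx hw
    rw [show s = w⁻¹ * (g * a * g⁻¹) by rw [← hws]; group]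
    exact Subgroup.mul_mem _ (Subgroup.inv_mem _ hwcen) hcen
  have hga : (g * a * g⁻¹) * (g * a * g⁻¹) = 1 := by
    calc (g * a * g⁻¹) * (g * a * g⁻¹) = g * (a * a) * g⁻¹ := by group
      _ = 1 := by rw [c.mul_self ha]; group
  have hw1 : w = 1 := by
    by_contra hw1
    refine coreAt_odd a (?_ : 2 ∣ _)
    have hcomm : Commute w s := Subgroup.mem_centralizer_iff.1 hscen w hw
    rw [← hws, hcomm.symm.mul_mul_mul_comm, c.mul_self hs, mul_one] at hga
    exact orderOf_eq_prime (by rw [sq, hga]) hw1 ▸ Subgroup.orderOf_dvd_natCard _ hw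
  subst hw1
  rw [one_mul] at hws
  rcases c.centralizer_core ha ha1 hs hscen with e | e
  · exact absurd (conj_eq_one_iff.1 (hws.symm.trans e)) ha1
  · exact Subgroup.mem_centralizer_singleton_iff.2 (mul_inv_eq_iff_eq_mul.1 (hws.symm.trans e))

theorem iso_psl [IsSimpleGroup G] :
    ∃ (F : Type) (_ : Field F) (_ : Fintype F), Odd (Fintype.card F) ∧
      Nonempty (G ≃* Matrix.ProjectiveSpecialLinearGroup (Fin 2) F) := by
  classical
  haveI := Fact.mk Nat.prime_two
  obtain ⟨a, ha, ha1⟩ := c.exists_ne_one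
  haveI : IsKleinFour (S : Subgroup G) :=
    { card_four := c.card_four
      exponent_two := by
        refine Nat.dvd_antisymm (Monoid.exponent_dvd_of_forall_pow_eq_one fun x => Subtype.ext ?_) ?_
        · rw [SubmonoidClass.coe_pow, sq]; exact c.mul_self x.2
        · have h := Monoid.order_dvd_exponent (⟨a, ha⟩ : (S : Subgroup G))
          rwa [Subgroup.orderOf_mk, c.ord ha ha1] at h }
  have hinf : (S : Subgroup G) ⊓ Subgroup.centralizer (coreAt a : Set G) = Subgroup.zpowers a := by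
    refine le_antisymm (fun s hs => ?_) (Subgroup.zpowers_le.2 ⟨ha, Subgroup.mem_centralizer_iff.2
      fun x hx => Subgroup.mem_centralizer_singleton_iff.1 (coreAt_le a hx)⟩)
    rcases c.centralizer_core ha ha1 hs.1 hs.2 with rfl | rfl
    exacts [one_mem _, mem_zpowers s]
  refine S0508.result S 2 le_rfl IsKleinFour.nonempty_mulEquiv a (c.ord ha ha1) ha
    (fun s hs => c.comm hs ha) (coreAt a) rfl (fun _ => ⟨?_, ?_⟩) ?_
    (fun Y hY hY1 => c.normalizer_le ha ha1 hY hY1)
  · rw [hinf]; infer_instance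
  · rw [hinf]
    have h := ((Subgroup.zpowers a).subgroupOf (S : Subgroup G)).card_mul_index
    rw [Nat.card_congr (Subgroup.subgroupOfEquivOfLe (Subgroup.zpowers_le.2 ha)).toEquiv,
      Nat.card_zpowers, c.ord ha ha1, c.card_four] at h
    show ((Subgroup.zpowers a).subgroupOf (S : Subgroup G)).index = 2
    omega
  · intro s hs hsc y hy
    refine c.inverts ha ha1 hs ?_ ?_ hy
    · rintro rfl; exact hsc (one_mem _)
    · rintro rfl
      exact hsc (Subgroup.mem_centralizer_iff.2 fun x hx =>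
        Subgroup.mem_centralizer_singleton_iff.1 (coreAt_le s hx))

end FourHyp

/-- The parameters of the group. -/
theorem TwoR.psl_param [IsSimpleGroup G] (h : TwoR G r) (hns : ¬ Group.IsSolvable G)
    (hex : ∃ g : G, orderOf g = 2 * r) :
    ∃ (F : Type) (_ : Field F) (_ : Fintype F), 5 < Fintype.card F ∧
      (Fintype.card F % 8 = 3 ∨ Fintype.card F % 8 = 5) ∧
      Nonempty (G ≃* Matrix.ProjectiveSpecialLinearGroup (Fin 2) F) := by
  haveI := Fact.mk Nat.prime_two
  obtain ⟨S⟩ : Nonempty (Sylow 2 G) := inferInstance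
  obtain ⟨F, iF, iT, hodd, ⟨e⟩⟩ := (h.exists_four hns hex S).iso_psl
  have hnc : ¬ IsMulCommutative G := fun hc =>
    hns (Group.isSolvable_of_comm fun a b => hc.is_comm.comm a b)
  have h4 := Transfer.CIT.four_le_card_field hnc e
  obtain ⟨q, hq⟩ : ∃ q, Fintype.card F = q := ⟨_, rfl⟩
  rw [hq] at h4 hodd
  obtain ⟨w, hw⟩ := hodd
  have hg : Nat.gcd 2 (q - 1) = 2 := Nat.gcd_eq_left (by omega)
  refine ⟨F, iF, iT, ?_, ?_, ⟨e⟩⟩
  · rw [hq]
    by_contra hle
    have hq5 : q = 5 := by omega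
    obtain ⟨p, hp⟩ := CharP.exists F
    haveI := hp
    haveI : Fact p.Prime := ⟨CharP.char_is_prime F p⟩
    have hS := S2475.result (F := F) p (by omega : 4 ≤ Fintype.card F)
    obtain ⟨g, hgo⟩ := hex
    have hmem : orderOf (e g) ∈ Set.range
        (orderOf : Matrix.ProjectiveSpecialLinearGroup (Fin 2) F → ℕ) := ⟨e g, rfl⟩
    rw [hS, MulEquiv.orderOf_eq, hgo] at hmem
    simp only [Set.mem_setOf_eq, hq, hg] at hmem
    rw [hq5, show (5 - 1) / 2 = 2 by norm_num, show (5 + 1) / 2 = 3 by norm_num] at hmem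
    obtain ⟨n, hpp, hn⟩ := FiniteField.card F p
    have hp5 : p = 5 := (Nat.prime_dvd_prime_iff_eq hpp (by norm_num : Nat.Prime 5)).1 (by
      rw [← hq5, ← hq, hn]; exact dvd_pow_self p n.ne_zero)
    have h2r : 6 ≤ 2 * r := by
      have := h.prime.two_le
      have := h.ne_two
      omega
    rcases hmem with hm | hm | hm
    · rw [hp5] at hm
      have := Nat.le_of_dvd (by norm_num) hm
      omega
    · have := Nat.le_of_dvd (by norm_num) hm
      omega
    · have := Nat.le_of_dvd (by norm_num) hm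
      omega
  · rw [hq]
    by_contra hcon
    have hd : 4 ∣ (q - 1) / 2 ∨ 4 ∣ (q + 1) / 2 := by omega
    obtain ⟨g, hg'⟩ := Transfer.CIT.exists_orderOf_half e (by omega) (m := 4)
      (by rw [hq, hg]; exact hd)
    exact (h.not_sq_dvd g).1 (by rw [hg'])

end Cfsg.Agent.Grp.ThreeOrders
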