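import Mathlib
import Cfsg.Prelude
import Cfsg.Agent.Lib.Grp.ThreeOrders.FourPSL
import Cfsg.Agent.Lib.Grp.InvolTransitive

/-!
A group of type `TwoR` whose socle contains an element of order `2 r` equals its socle.
-/

set_option autoImplicit false
set_option linter.style.haveILetI false
set_option linter.unusedSectionVars false

universe u

namespace Cfsg.Agent.Grp.ThreeOrders

open Subgroup
open scoped commutatorElement

variable {G : Type u} [Group G] [Finite G] {r : ℕ}

/-- `u` fixes a nontrivial element of the core of the centraliser of `a` in `M`. -/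
def FixesPoint (M : Subgroup G) (u : G) (a : M) : Prop :=
  ∃ x ∈ coreAt a, x ≠ 1 ∧ Commute (x : G) u

variable {M : Subgroup G} [M.Normal] [IsSimpleGroup M] {S : Sylow 2 M}

theorem FourHyp.fixes_two (c : FourHyp M r S) (h : TwoR G r) {u : G}
    (hu : orderOf u = 2 ∨ orderOf u = r) (hS : ∀ s ∈ (S : Subgroup M), Commute (s : G) u) {a b : M}
    (ha : a ∈ (S : Subgroup M)) (ha1 : a ≠ 1) (hb : b ∈ (S : Subgroup M)) (hb1 : b ≠ 1)
    (hba : b ≠ a) (hfa : FixesPoint M u a) (hfb : FixesPoint M u b) : False := by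
  set K : Subgroup M := (Subgroup.centralizer ({u} : Set G)).subgroupOf M with hK
  have hmemK : ∀ {m : M}, m ∈ K ↔ Commute (m : G) u := fun {m} => by
    rw [hK, Subgroup.mem_subgroupOf, Subgroup.mem_centralizer_singleton_iff]; exact Iff.rfl
  have hsol : Group.IsSolvable K := by
    refine isSolvable_of_injective (K.equivMapOfInjective M.subtype M.subtype_injective).toMonoidHom
      (MulEquiv.injective _) (h.solvable_of_le_centralizer hu ?_)
    rintro _ ⟨m, hm, rfl⟩
    exact hm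
  have hSK : (S : Subgroup M) ≤ K := fun s hs => hmemK.2 (hS s hs)
  have hU : InvR r S (coreOf K) := ⟨c.twoR.invariant_isPGroup _ _ S.isPGroup' c.not_cyclic
    (hSK.trans (coreOf_normalized K)) (coreOf_odd K), hSK.trans (coreOf_normalized K)⟩
  have hle : ∀ d ∈ (S : Subgroup M), coreAt d ⊓ K ≤ coreOf K := fun d hd => by
    refine c.twoR.invariant_le_coreOf S hsol hSK _ inf_le_right
      (fun hd' => coreAt_odd d (hd'.trans (Subgroup.card_dvd_of_le inf_le_left))) fun s hs => ?_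
    exact mem_normalizer_fintype fun x hx => ⟨mem_conj_normalizer ((c.coreAt_invR hd).2 hs) hx.1,
      K.mul_mem (K.mul_mem (hSK hs) hx.2) (K.inv_mem (hSK hs))⟩
  have hUd : ∀ d ∈ (S : Subgroup M), d ≠ 1 → FixesPoint M u d → coreOf K ≤ coreAt d := by
    rintro d hd hd1 ⟨x, hx, hx1, hxu⟩
    refine c.le_coreAt_of_meets hd hd1 hU fun e => hx1 (Subgroup.mem_bot.1 ?_)
    rw [← e]
    exact ⟨hx, hle d hd ⟨hx, hmemK.2 hxu⟩⟩
  obtain ⟨x, hx, hx1, hxu⟩ := hfb
  have hxa := hUd a ha ha1 hfa (hle b hb ⟨hx, hmemK.2 hxu⟩)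
  refine hx1 (Subgroup.mem_bot.1 ?_)
  rw [← c.inf_eq_bot ha ha1]
  refine ⟨hxa, Subgroup.mem_centralizer_iff.2 fun s hs => ?_⟩
  have h1 : Commute a x := (Subgroup.mem_centralizer_singleton_iff.1 (coreAt_le a hxa)).symm
  have h2 : Commute b x := (Subgroup.mem_centralizer_singleton_iff.1 (coreAt_le b hx)).symm
  rcases c.four_elems ha hb ha1 hb1 hba hs with rfl | rfl | rfl | rfl
  exacts [by simp, h1.eq, h2.eq, (h1.mul_left h2).eq]

theorem FourHyp.fixes_or (c : FourHyp M r S) {w : G} (hw : w * w = 1)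
    (hS : ∀ s ∈ (S : Subgroup M), Commute (s : G) w) {a b : M} (ha : a ∈ (S : Subgroup M))
    (ha1 : a ≠ 1) (hb : b ∈ (S : Subgroup M)) (hb1 : b ≠ 1) (hba : b ≠ a) :
    FixesPoint M w a ∨ FixesPoint M (w * (b : G)) a := by
  by_cases hfix : FixesPoint M w a
  · exact Or.inl hfix
  right
  have hfix' : ∀ x ∈ coreAt a, Commute (x : G) w → x = 1 := fun x hx hc => by
    by_contra hx1; exact hfix ⟨x, hx, hx1, hc⟩
  obtain ⟨x, hx, hx1⟩ := (Subgroup.bot_or_exists_ne_one (coreAt a)).resolve_left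
    (c.coreAt_ne_bot ha ha1)
  refine ⟨x, hx, hx1, ?_⟩
  have hnorm : ∀ n ∈ (coreAt a).map M.subtype, w * n * w⁻¹ ∈ (coreAt a).map M.subtype := by
    rintro _ ⟨n, hn, rfl⟩
    refine ⟨MulAut.conjNormal w n, coreOf_map_le (MulAut.conjNormal w) _ (fun y hy => ?_) hn,
      MulAut.conjNormal_apply w n⟩
    rw [Subgroup.mem_centralizer_singleton_iff] at hy ⊢
    have hwa : MulAut.conjNormal w a = a := Subtype.ext (by
      rw [MulAut.conjNormal_apply, ← (hS a ha).eq, mul_inv_cancel_right])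
    calc MulAut.conjNormal w y * a = MulAut.conjNormal w y * MulAut.conjNormal w a := by rw [hwa]
      _ = MulAut.conjNormal w (y * a) := (map_mul _ _ _).symm
      _ = MulAut.conjNormal w (a * y) := by rw [hy]
      _ = _ := by rw [map_mul, hwa]
  have hinv := inverts_of_fpf ((coreAt a).map M.subtype) hw hnorm (by
      rintro _ ⟨n, hn, rfl⟩ hc
      rw [hfix' n hn hc, map_one]) (Subgroup.mem_map_of_mem M.subtype hx)
  have hbx : (b : G) * x * (b : G)⁻¹ = (x : G)⁻¹ := by
    have e := congrArg Subtype.val (c.inverts ha ha1 hb hb1 hba hx)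
    simpa using e
  have hwx : w * (x : G) * w⁻¹ = (x : G)⁻¹ := hinv
  show (x : G) * (w * b) = w * b * x
  symm
  rw [← mul_inv_eq_iff_eq_mul]
  calc w * b * x * (w * (b : G))⁻¹ = w * ((b : G) * x * (b : G)⁻¹) * w⁻¹ := by group
    _ = (w * (x : G) * w⁻¹)⁻¹ := by rw [hbx]; group
    _ = x := by rw [hwx, inv_inv]

theorem FourHyp.no_outer_involution (c : FourHyp M r S) (h : TwoR G r) {w : G} (hw : orderOf w = 2)
    (hwM : w ∉ M) (hS : ∀ s ∈ (S : Subgroup M), Commute (s : G) w) : False := by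
  have hw2 : w * w = 1 := Invol.mul_self_of_orderOf_two hw
  have hu : ∀ s ∈ (S : Subgroup M), orderOf (w * (s : G)) = 2 ∧ (w * (s : G)) * (w * (s : G)) = 1 ∧
      ∀ t ∈ (S : Subgroup M), Commute (t : G) (w * (s : G)) := by
    intro s hs
    have h1 : (w * (s : G)) * (w * (s : G)) = 1 := by
      rw [(hS s hs).mul_mul_mul_comm, hw2, ← Subgroup.coe_mul, c.mul_self hs]; simp
    refine ⟨orderOf_eq_prime (by rw [sq, h1]) fun e => hwM ?_, h1, fun t ht =>
      (hS t ht).mul_right ?_⟩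
    · rw [eq_inv_of_mul_eq_one_left e]; exact M.inv_mem s.2
    · exact congrArg Subtype.val (c.comm ht hs)
  obtain ⟨a, ha, ha1⟩ := c.exists_ne_one
  obtain ⟨b, hb, hb1, hba⟩ := c.exists_other ha1
  have hab := mul_mem ha hb
  have hab1 : a * b ≠ 1 := fun e =>
    hba ((eq_inv_of_mul_eq_one_right e).trans (inv_eq_of_mul_eq_one_right (c.mul_self ha)))
  have haba : a * b ≠ a := fun e => hb1 (mul_eq_left.1 e)
  have habb : a * b ≠ b := fun e => ha1 (mul_eq_right.1 e)
  have two : ∀ {u : G}, orderOf u = 2 → (∀ s ∈ (S : Subgroup M), Commute (s : G) u) →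
      FixesPoint M u a → FixesPoint M u b → False := fun hu hS' h1 h2 =>
    c.fixes_two h (Or.inl hu) hS' ha ha1 hb hb1 hba h1 h2
  have e1 : w * (a : G) * (b : G) = w * ((a * b : M) : G) := by rw [Subgroup.coe_mul, mul_assoc]
  have e2 : w * (a : G) * ((a * b : M) : G) = w * (b : G) := by
    rw [mul_assoc, ← Subgroup.coe_mul, ← mul_assoc a a b, c.mul_self ha, one_mul]
  have e3 : w * (b : G) * (a : G) = w * ((a * b : M) : G) := by
    rw [mul_assoc, ← Subgroup.coe_mul, c.comm hb ha]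
  have e4 : w * (b : G) * ((a * b : M) : G) = w * (a : G) := by
    rw [mul_assoc, ← Subgroup.coe_mul, c.comm ha hb, ← mul_assoc b b a, c.mul_self hb, one_mul]
  -- pairs for `a`
  have Pa : (FixesPoint M w a ∧ FixesPoint M (w * (a : G)) a) ∨
      (FixesPoint M (w * (b : G)) a ∧ FixesPoint M (w * ((a * b : M) : G)) a) := by
    have a1 := c.fixes_or hw2 hS ha ha1 hb hb1 hba
    have a2 := c.fixes_or hw2 hS ha ha1 hab hab1 haba
    have a3 := c.fixes_or (hu a ha).2.1 (hu a ha).2.2 ha ha1 hb hb1 hba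
    have a4 := c.fixes_or (hu a ha).2.1 (hu a ha).2.2 ha ha1 hab hab1 haba
    rw [e1] at a3
    rw [e2] at a4
    rcases a1 with A | A <;> rcases a3 with B | B
    · exact Or.inl ⟨A, B⟩
    · rcases a4 with C | C
      exacts [Or.inl ⟨A, C⟩, Or.inr ⟨C, B⟩]
    · rcases a2 with C | C
      exacts [Or.inl ⟨C, B⟩, Or.inr ⟨A, C⟩]
    · exact Or.inr ⟨A, B⟩
  -- pairs for `b`
  have Pb : (FixesPoint M w b ∧ FixesPoint M (w * (b : G)) b) ∨
      (FixesPoint M (w * (a : G)) b ∧ FixesPoint M (w * ((a * b : M) : G)) b) := by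
    have b1 := c.fixes_or hw2 hS hb hb1 ha ha1 hba.symm
    have b2 := c.fixes_or hw2 hS hb hb1 hab hab1 habb
    have b3 := c.fixes_or (hu b hb).2.1 (hu b hb).2.2 hb hb1 ha ha1 hba.symm
    have b4 := c.fixes_or (hu b hb).2.1 (hu b hb).2.2 hb hb1 hab hab1 habb
    rw [e3] at b3
    rw [e4] at b4
    rcases b1 with A | A <;> rcases b3 with B | B
    · exact Or.inl ⟨A, B⟩
    · rcases b4 with C | C
      exacts [Or.inl ⟨A, C⟩, Or.inr ⟨C, B⟩]
    · rcases b2 with C | C
      exacts [Or.inl ⟨C, B⟩, Or.inr ⟨A, C⟩]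
    · exact Or.inr ⟨A, B⟩
  rcases Pa with ⟨A1, A2⟩ | ⟨A1, A2⟩ <;> rcases Pb with ⟨B1, B2⟩ | ⟨B1, B2⟩
  · exact two hw hS A1 B1
  · exact two (hu a ha).1 (hu a ha).2.2 A2 B1
  · exact two (hu b hb).1 (hu b hb).2.2 A1 B2
  · exact two (hu _ hab).1 (hu _ hab).2.2 A2 B2

theorem exists_fixes_of_order_r (c : FourHyp M r S) {x : G} (hx : orderOf x = r) {a : M}
    (ha : a ∈ (S : Subgroup M)) (ha1 : a ≠ 1) (hxa : Commute (a : G) x) : FixesPoint M x a := by
  haveI := Fact.mk c.twoR.prime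
  set N := (coreAt a).map M.subtype with hN
  have hNp : IsPGroup r N := (c.coreAt_invR ha).1.map _
  have hxN : x ∈ Subgroup.normalizer (N : Set G) := by
    refine mem_normalizer_fintype ?_
    rintro _ ⟨n, hn, rfl⟩
    refine ⟨MulAut.conjNormal x n, coreOf_map_le (MulAut.conjNormal x) _ (fun y hy => ?_) hn,
      MulAut.conjNormal_apply x n⟩
    rw [Subgroup.mem_centralizer_singleton_iff] at hy ⊢
    have hwa : MulAut.conjNormal x a = a := Subtype.ext (by
      rw [MulAut.conjNormal_apply, ← hxa.eq, mul_inv_cancel_right])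
    calc MulAut.conjNormal x y * a = MulAut.conjNormal x y * MulAut.conjNormal x a := by rw [hwa]
      _ = MulAut.conjNormal x (y * a) := (map_mul _ _ _).symm
      _ = MulAut.conjNormal x (a * y) := by rw [hy]
      _ = _ := by rw [map_mul, hwa]
  have hd : ¬ r ∣ Nat.card ((N : Set G) \ {1} : Set G) := by
    obtain ⟨j, hj⟩ := hNp.exists_card_eq
    have hj0 : j ≠ 0 := fun e => c.coreAt_ne_bot ha ha1
      ((Subgroup.map_eq_bot_iff_of_injective _ M.subtype_injective).1
        (Subgroup.card_eq_one.1 (by rw [← hN, hj, e, pow_zero])))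
    rw [Nat.card_coe_set_eq, Set.ncard_sdiff_singleton_of_mem N.one_mem, ← Nat.card_coe_set_eq,
      SetLike.coe_sort_coe, hj]
    intro hd
    have h1 : r ∣ r ^ j := dvd_pow_self r hj0
    have h0 : 0 < r ^ j := pow_pos c.twoR.prime.pos j
    have h2 := Nat.dvd_sub h1 hd
    rw [show r ^ j - (r ^ j - 1) = 1 by omega] at h2
    exact c.twoR.prime.ne_one (Nat.dvd_one.1 h2)
  obtain ⟨t, ⟨htN, ht1⟩, ht⟩ := InvTrans.exists_fixed
    (P := Subgroup.zpowers x) (IsPGroup.of_card (n := 1) (by rw [Nat.card_zpowers, hx, pow_one]))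
    ((N : Set G) \ {1}) (fun g hg t ht => ⟨mem_conj_normalizer (Subgroup.zpowers_le.2 hxN hg) ht.1,
      fun e => ht.2 (conj_eq_one_iff.1 e)⟩) hd
  obtain ⟨n, hn, rfl⟩ := htN
  exact ⟨n, hn, fun e => ht1 (by simp [e]), (ht x (Subgroup.mem_zpowers x)).symm⟩

/-- The socle is the whole group. -/
theorem TwoR.socle_eq_top (h : TwoR G r) (hMns : ¬ Group.IsSolvable M)
    (hex : ∃ g : M, orderOf g = 2 * r) : M = ⊤ := by
  classical
  haveI := Fact.mk Nat.prime_two
  obtain ⟨S⟩ : Nonempty (Sylow 2 M) := inferInstance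
  have c := (h.subgroup M).exists_four hMns hex S
  set S' := (S : Subgroup M).map M.subtype with hS'
  by_contra htop
  obtain ⟨P, hP⟩ := (S.isPGroup'.map M.subtype).exists_le_sylow
  by_cases hPM : (P : Subgroup G) ≤ M
  · have hodd : ¬ 2 ∣ M.index := fun hd => P.not_dvd_index (hd.trans (Subgroup.index_dvd_of_le hPM))
    have hsq : ∀ {g : G}, g * g ∈ M → g ∈ M := by
      intro g hg
      have h1 : (g : G ⧸ M) ^ 2 = 1 := by
        rw [← QuotientGroup.mk_pow, QuotientGroup.eq_one_iff, sq]; exact hg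
      have h2 : orderOf (g : G ⧸ M) = 1 := Nat.eq_one_of_dvd_coprimes
        ((Nat.prime_two.coprime_iff_not_dvd).2 hodd) (orderOf_dvd_of_pow_eq_one h1)
        (Subgroup.index_eq_card M ▸ _root_.orderOf_dvd_natCard _)
      exact (QuotientGroup.eq_one_iff g).1 (orderOf_eq_one_iff.1 h2)
    obtain ⟨g, hgN, hgM⟩ : ∃ g ∈ Subgroup.normalizer (S' : Set G), g ∉ M := by
      by_contra hcon
      push Not at hcon
      exact htop (eq_top_iff.2 ((Sylow.normalizer_sup_eq_top S).ge.trans (sup_le hcon le_rfl)))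
    obtain ⟨a, ha, ha1⟩ := c.exists_ne_one
    obtain ⟨b, hb, hb1, hba⟩ := c.exists_other ha1
    obtain ⟨y, hy, hyp, hy2, hfpf⟩ := c.exists_y
    have hyodd : ¬ 2 ∣ orderOf y := fun hd =>
      hy2 ((Nat.prime_dvd_prime_iff_eq Nat.prime_two hyp).1 hd).symm
    have hgS : ∀ {g : G}, g ∈ Subgroup.normalizer (S' : Set G) → ∀ s ∈ (S : Subgroup M),
        ∃ t ∈ (S : Subgroup M), (t : G) = g * (s : G) * g⁻¹ := fun hg s hs =>
      mem_conj_normalizer hg ⟨s, hs, rfl⟩
    obtain ⟨a', ha', hga⟩ := hgS hgN a ha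
    have ha'1 : a' ≠ 1 := fun e => ha1 (by
      rw [e, OneMemClass.coe_one] at hga
      exact Subtype.ext (conj_eq_one_iff.1 hga.symm))
    obtain ⟨i, -, hi⟩ := c.conj_trans hy hyodd hfpf ha' ha'1 ha ha1
    set g' := ((y ^ i : M) : G) * g with hg'
    have hg'M : g' ∉ M := fun e => hgM (by
      have := M.mul_mem (M.inv_mem (y ^ i).2) e
      rwa [hg', inv_mul_cancel_left] at this)
    have hg'N : g' ∈ Subgroup.normalizer (S' : Set G) := by
      refine Subgroup.mul_mem _ (mem_normalizer_fintype ?_) hgN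
      rintro _ ⟨s, hs, rfl⟩
      exact ⟨_, mem_conj_normalizer (pow_mem hy i) hs, by simp⟩
    have hfixa : Commute g' (a : G) := by
      rw [Commute, SemiconjBy, ← mul_inv_eq_iff_eq_mul]
      calc g' * (a : G) * g'⁻¹ = ((y ^ i : M) : G) * (g * (a : G) * g⁻¹) * ((y ^ i : M) : G)⁻¹ := by
            rw [hg']; group
        _ = ((y ^ i * a' * (y ^ i)⁻¹ : M) : G) := by rw [← hga]; rfl
        _ = a := by rw [hi]
    have hfix : ∀ s ∈ (S : Subgroup M), Commute (s : G) (g' * g') := by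
      have hfb : Commute (b : G) (g' * g') := by
        obtain ⟨b', hb', hgb⟩ := hgS hg'N b hb
        have hb'1 : b' ≠ 1 := fun e => hb1 (by
          rw [e, OneMemClass.coe_one] at hgb
          exact Subtype.ext (conj_eq_one_iff.1 hgb.symm))
        rcases c.four_elems ha hb ha1 hb1 hba hb' with rfl | rfl | rfl | rfl
        · exact absurd rfl hb'1
        · exfalso
          refine hba (Subtype.ext ?_)
          calc (b : G) = g'⁻¹ * (g' * (b : G) * g'⁻¹) * g' := by group
            _ = g'⁻¹ * ((b' : G) * g') := by rw [← hgb]; group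
            _ = b' := by rw [← hfixa.eq, inv_mul_cancel_left]
        · have : Commute g' (b' : G) := mul_inv_eq_iff_eq_mul.1 hgb.symm
          exact (this.mul_left this).symm
        · symm
          rw [Commute, SemiconjBy, ← mul_inv_eq_iff_eq_mul]
          calc g' * g' * (b : G) * (g' * g')⁻¹ = g' * (g' * (b : G) * g'⁻¹) * g'⁻¹ := by group
            _ = g' * ((a : G) * b) * g'⁻¹ := by rw [← hgb, Subgroup.coe_mul]
            _ = (g' * (a : G) * g'⁻¹) * (g' * (b : G) * g'⁻¹) := by group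
            _ = _ := by
              rw [hfixa.eq, mul_inv_cancel_right, ← hgb, ← Subgroup.coe_mul, ← mul_assoc a a b,
                c.mul_self ha, one_mul]
      intro s hs
      have hfa : Commute (a : G) (g' * g') := (hfixa.mul_left hfixa).symm
      rcases c.four_elems ha hb ha1 hb1 hba hs with rfl | rfl | rfl | rfl
      exacts [Commute.one_left _, hfa, hfb, hfa.mul_left hfb]
    set x0 := g' * g' with hx0
    have hx0M : x0 ∉ M := fun e => hg'M (hsq e)
    have ha2 : orderOf (a : G) = 2 := by rw [Subgroup.orderOf_coe]; exact c.ord ha ha1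
    have hrd : r ∣ orderOf x0 := by
      by_contra hrd
      apply hx0M
      obtain ⟨k, hk⟩ : ∃ k, orderOf x0 = 2 ^ k :=
        ⟨_, Nat.eq_prime_pow_of_unique_prime_dvd (orderOf_pos x0).ne' fun {ℓ} hℓ hd =>
          (h.primes_of_commute (Or.inl ha2) (hfix a ha).symm hℓ hd).resolve_right
            fun e => hrd (e ▸ hd)⟩
      have hp : IsPGroup 2 (Subgroup.zpowers x0) :=
        IsPGroup.of_card (n := k) (by rw [Nat.card_zpowers, hk])
      refine (QuotientGroup.eq_one_iff x0).1 (orderOf_eq_one_iff.1 (Nat.eq_one_of_dvd_coprimes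
        (((Nat.prime_two.coprime_iff_not_dvd).2 hodd).pow_left k)
        (hk ▸ orderOf_map_dvd (QuotientGroup.mk' M) x0)
        (Subgroup.index_eq_card M ▸ _root_.orderOf_dvd_natCard _)))
    set x := x0 * x0 with hx
    have hxM : x ∉ M := fun e => hx0M (hsq e)
    have hxo : orderOf x = r := by
      haveI := Fact.mk h.prime
      refine orderOf_eq_prime ?_ fun e => hxM (e ▸ M.one_mem)
      rw [hx, ← sq, ← pow_mul, ← orderOf_dvd_iff_pow_eq_one]
      exact h.dvd (Or.inr hrd)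
    have hxS : ∀ s ∈ (S : Subgroup M), Commute (s : G) x := fun s hs =>
      (hfix s hs).mul_right (hfix s hs)
    exact c.fixes_two h (Or.inr hxo) hxS ha ha1 hb hb1 hba
      (exists_fixes_of_order_r c hxo ha ha1 (hxS a ha))
      (exists_fixes_of_order_r c hxo hb hb1 (hxS b hb))
  · obtain ⟨w, hwP, hwM⟩ := Set.not_subset.1 hPM
    have hw1 : w ≠ 1 := fun e => hwM (e ▸ M.one_mem)
    refine c.no_outer_involution h (h.orderOf_eq_two P.isPGroup' hwP hw1) hwM fun s hs => ?_
    exact congrArg Subtype.val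
      ((h.two_group_comm P.isPGroup').is_comm.comm ⟨s, hP ⟨s, hs, rfl⟩⟩ ⟨w, hwP⟩)

end Cfsg.Agent.Grp.ThreeOrders
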