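import Mathlib
import Cfsg.Prelude
import Cfsg.Agent.Lib.Grp.ThreeOrders.SocleFacts
import Cfsg.Agent.Lib.Grp.InvolTransitive

/-!
The socle of a group of type `TwoR` with an element of order `2 r` has such an element too.
-/

set_option autoImplicit false
set_option linter.style.haveILetI false
set_option linter.unusedSectionVars false

universe u

namespace Cfsg.Agent.Grp.ThreeOrders

open Subgroup
open scoped Pointwise

variable {G : Type u} [Group G] [Finite G]

section Action

variable (M : Subgroup G) [M.Normal]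

/-- The conjugation action on the Sylow 2-subgroups of a normal subgroup. -/
noncomputable def sylAct (g : G) (T : Sylow 2 M) : Sylow 2 M :=
  haveI := Fact.mk Nat.prime_two
  T.mapSurjective (f := (MulAut.conjNormal g : M ≃* M).toMonoidHom) (MulEquiv.surjective _)

variable {M}

theorem mem_sylAct {g : G} {T : Sylow 2 M} {x : M} :
    x ∈ (sylAct M g T : Subgroup M) ↔ (MulAut.conjNormal g).symm x ∈ (T : Subgroup M) := by
  show x ∈ (T : Subgroup M).map _ ↔ _
  constructor
  · rintro ⟨y, hy, rfl⟩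
    show (MulAut.conjNormal g).symm (MulAut.conjNormal g y) ∈ (T : Subgroup M)
    rw [MulEquiv.symm_apply_apply]; exact hy
  · intro hx
    exact ⟨_, hx, by simp⟩

theorem sylAct_one (T : Sylow 2 M) : sylAct M (1 : G) T = T :=
  Sylow.ext (Subgroup.ext fun x => by rw [mem_sylAct, map_one]; rfl)

theorem sylAct_mul (g h : G) (T : Sylow 2 M) : sylAct M (g * h) T = sylAct M g (sylAct M h T) :=
  Sylow.ext (Subgroup.ext fun x => by rw [mem_sylAct, mem_sylAct, mem_sylAct, map_mul]; rfl)

theorem sylAct_coe (m : M) (T : Sylow 2 M) : sylAct M (m : G) T = m • T := by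
  haveI := Fact.mk Nat.prime_two
  refine Sylow.ext (Subgroup.ext fun x => ?_)
  rw [mem_sylAct, mem_smul_sylow]
  have e : (MulAut.conjNormal (m : G)).symm x = m⁻¹ * x * m := Subtype.ext (by simp)
  rw [e]

end Action

variable {M : Subgroup G} [M.Normal] [IsSimpleGroup M]

theorem EvenPSLFacts.eq_of_mem (f : EvenPSLFacts M) {r : ℕ} {S T : Sylow 2 M} {a : M} (hS : a ∈ (S : Subgroup M))
    (hT : a ∈ (T : Subgroup M)) (ha : a ≠ 1) (h : TwoR M r) : S = T := by
  haveI := Fact.mk Nat.prime_two
  refine Sylow.ext (le_antisymm (fun x hx => f.cent T a hT ha x ?_) (fun x hx => f.cent S a hS ha x ?_))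
  · exact congrArg Subtype.val ((h.two_group_comm S.isPGroup').is_comm.comm ⟨x, hx⟩ ⟨a, hS⟩)
  · exact congrArg Subtype.val ((h.two_group_comm T.isPGroup').is_comm.comm ⟨x, hx⟩ ⟨a, hT⟩)

theorem EvenPSLFacts.free (f : EvenPSLFacts M) {r : ℕ} (h : TwoR M r) {S T : Sylow 2 M} (hne : T ≠ S)
    {s : M} (hs : s ∈ (S : Subgroup M)) (hfix : s • T = T) : s = 1 := by
  haveI := Fact.mk Nat.prime_two
  by_contra hs1
  rw [Sylow.smul_eq_iff_mem_normalizer] at hfix
  have hp : IsPGroup 2 (Subgroup.zpowers s) := S.isPGroup'.to_le (Subgroup.zpowers_le.2 hs)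
  have hm : s ∈ Subgroup.zpowers s ⊓ Subgroup.normalizer ((T : Subgroup M) : Set M) :=
    ⟨Subgroup.mem_zpowers s, hfix⟩
  have hinf : Subgroup.zpowers s ⊓ Subgroup.normalizer ((T : Subgroup M) : Set M) =
      Subgroup.zpowers s ⊓ (T : Subgroup M) := hp.inf_normalizer_sylow T
  rw [hinf] at hm
  exact hne (f.eq_of_mem hm.2 hs hs1 h)

theorem EvenPSLFacts.trans' (f : EvenPSLFacts M) {r : ℕ} (h : TwoR M r) {S T T' : Sylow 2 M}
    (hT : T ≠ S) (hT' : T' ≠ S) : ∃ s ∈ (S : Subgroup M), s • T = T' := by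
  classical
  haveI := Fact.mk Nat.prime_two
  have hS : ∀ s ∈ (S : Subgroup M), s • S = S := fun s hs =>
    Sylow.smul_eq_iff_mem_normalizer.2 (Subgroup.le_normalizer hs)
  let φ : ↥(S : Subgroup M) → {U : Sylow 2 M // U ≠ S} := fun s =>
    ⟨(s : M) • T, fun e => hT (smul_left_cancel (s : M) (e.trans (hS s s.2).symm))⟩
  have hinj : Function.Injective φ := by
    intro u v e
    have e' : (u : M) • T = (v : M) • T := congrArg Subtype.val e
    refine (inv_mul_eq_one.mp (Subtype.ext (f.free h hT (v⁻¹ * u : (S : Subgroup M)).2 ?_))).symm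
    simp only [Subgroup.coe_mul, Subgroup.coe_inv, mul_smul, e', inv_smul_smul]
  have hc : Nat.card {U : Sylow 2 M // U ≠ S} = Nat.card (S : Subgroup M) := by
    have h1 := Nat.card_congr (Equiv.optionSubtypeNe S)
    rw [Finite.card_option, f.num S] at h1
    omega
  obtain ⟨s, hs⟩ := ((Nat.bijective_iff_injective_and_card φ).2 ⟨hinj, hc.symm⟩).2 ⟨T', hT'⟩
  exact ⟨s, s.2, congrArg Subtype.val hs⟩

/-- An element fixing all Sylow subgroups is trivial. -/
theorem eq_one_of_fix_all (hC : Subgroup.centralizer (M : Set G) = ⊥) (hns : ¬ Group.IsSolvable M)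
    {u : G} (hu : ∀ T : Sylow 2 M, sylAct M u T = T) : u = 1 := by
  haveI := Fact.mk Nat.prime_two
  rw [← Subgroup.mem_bot, ← hC, Subgroup.mem_centralizer_iff]
  intro m hm
  let k : M := MulAut.conjNormal u ⟨m, hm⟩ * ⟨m, hm⟩⁻¹
  have hk : k ∈ (MulAction.toPermHom M (Sylow 2 M)).ker := by
    rw [MonoidHom.mem_ker]
    refine Equiv.ext fun T => ?_
    show k • T = T
    rw [← sylAct_coe]
    have e : (k : G) = u * (m * (u⁻¹ * m⁻¹)) := by simp [k, mul_assoc]
    rw [e, sylAct_mul, sylAct_mul, sylAct_mul]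
    have hui : ∀ T : Sylow 2 M, sylAct M u⁻¹ T = T := fun T => by
      conv_lhs => rw [← hu T]
      rw [← sylAct_mul, inv_mul_cancel, sylAct_one]
    rw [hui, ← sylAct_mul m, mul_inv_cancel, sylAct_one, hu]
  rcases IsSimpleGroup.eq_bot_or_eq_top_of_normal _ (MonoidHom.normal_ker (MulAction.toPermHom M (Sylow 2 M))) with e | e
  · rw [e, Subgroup.mem_bot, mul_inv_eq_one] at hk
    have := congrArg Subtype.val hk
    rw [MulAut.conjNormal_apply] at this
    exact (mul_inv_eq_iff_eq_mul.1 this).symm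
  · exfalso
    obtain ⟨S⟩ : Nonempty (Sylow 2 M) := inferInstance
    have hall : Subgroup.normalizer ((S : Subgroup M) : Set M) = ⊤ := by
      refine eq_top_iff.2 fun x _ => Sylow.smul_eq_iff_mem_normalizer.1 ?_
      have : x ∈ (MulAction.toPermHom M (Sylow 2 M)).ker := e ▸ Subgroup.mem_top x
      exact congrArg (fun p : Equiv.Perm (Sylow 2 M) => p S) (MonoidHom.mem_ker.1 this)
    haveI := Subgroup.normalizer_eq_top_iff.1 hall
    rcases IsSimpleGroup.eq_bot_or_eq_top_of_normal (S : Subgroup M) inferInstance with e1 | e1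
    · refine hns (odd_solvable fun hd => ?_)
      exact S.ne_bot_of_dvd_card hd e1
    · refine hns ?_
      haveI : Group.IsNilpotent M :=
        (S.isPGroup'.of_equiv ((MulEquiv.subgroupCongr e1).trans Subgroup.topEquiv)).isNilpotent
      infer_instance

/-- Only elements of `M` centralise a Sylow 2-subgroup. -/
theorem EvenPSLFacts.centralizer_le (f : EvenPSLFacts M) {r : ℕ} (h : TwoR M r)
    (hC : Subgroup.centralizer (M : Set G) = ⊥) (hns : ¬ Group.IsSolvable M) (S : Sylow 2 M) {y : G}
    (hy : ∀ s ∈ (S : Subgroup M), Commute (s : G) y) : y ∈ M := by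
  haveI := Fact.mk Nat.prime_two
  have hyS : sylAct M y S = S := Sylow.ext (Subgroup.ext fun x => by
    rw [mem_sylAct]
    constructor
    · intro hx
      have e : ((MulAut.conjNormal y).symm x : G) = (x : G) := by
        have h1 := hy _ hx
        rw [MulAut.conjNormal_symm_apply] at h1 ⊢
        calc y⁻¹ * (x : G) * y = y * (y⁻¹ * (x : G) * y) * y⁻¹ := by rw [← h1.eq]; group
          _ = x := by group
      rwa [show (MulAut.conjNormal y).symm x = x from Subtype.ext e] at hx
    · intro hx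
      have e : (MulAut.conjNormal y).symm x = x := Subtype.ext (by
        rw [MulAut.conjNormal_symm_apply, mul_assoc, (hy x hx).eq, inv_mul_cancel_left])
      rwa [e])
  obtain ⟨T, hT⟩ : ∃ T : Sylow 2 M, T ≠ S := by
    by_contra hcon
    push Not at hcon
    have h1 : Nat.card (Sylow 2 M) = 1 :=
      Nat.card_eq_one_iff_unique.2 ⟨⟨fun a b => (hcon a).trans (hcon b).symm⟩, ⟨S⟩⟩
    have := f.num S
    have := f.four_le S
    omega
  have hT' : sylAct M y T ≠ S := fun e => hT (by
    have h2 := congrArg (sylAct M y⁻¹) (e.trans hyS.symm)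
    simpa only [← sylAct_mul, inv_mul_cancel, sylAct_one] using h2)
  obtain ⟨s, hs, hst⟩ := f.trans' h hT' hT
  have hu : ∀ U : Sylow 2 M, sylAct M ((s : G) * y) U = U := by
    intro U
    by_cases hU : U = S
    · subst hU
      rw [sylAct_mul, hyS, sylAct_coe]
      exact Sylow.smul_eq_iff_mem_normalizer.2 (Subgroup.le_normalizer hs)
    · obtain ⟨s', hs', rfl⟩ := f.trans' h hT hU
      rw [← sylAct_coe s' T, ← sylAct_mul]
      have hc : Commute (s' : G) ((s : G) * y) := by
        refine Commute.mul_right ?_ (hy s' hs')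
        have hc0 : s' * s = s * s' :=
          congrArg Subtype.val ((h.two_group_comm S.isPGroup').is_comm.comm ⟨s', hs'⟩ ⟨s, hs⟩)
        exact congrArg Subtype.val hc0
      rw [← hc.eq, sylAct_mul, sylAct_mul, sylAct_coe s, hst]
  have h1 := eq_one_of_fix_all hC hns hu
  rw [eq_inv_of_mul_eq_one_right h1]
  exact M.inv_mem s.2

variable {r : ℕ}

/-- The socle contains an element of order `2 r`. -/
theorem TwoR.socle_mixed (h : TwoR G r) (hC : Subgroup.centralizer (M : Set G) = ⊥)
    (hns : ¬ Group.IsSolvable M) (hex : ∃ g : G, orderOf g = 2 * r) :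
    ∃ g : M, orderOf g = 2 * r := by
  classical
  haveI := Fact.mk Nat.prime_two
  haveI := Fact.mk h.prime
  by_contra hno
  push Not at hno
  have hM := h.subgroup M
  have f := hM.even_facts hns hno
  -- the involutions lie in `M`
  have hinvM : ∀ w : G, orderOf w = 2 → w ∈ M := by
    intro w hw
    by_contra hwM
    obtain ⟨P, hP⟩ := (IsPGroup.of_card (p := 2) (n := 1) (G := Subgroup.zpowers w)
      (by rw [Nat.card_zpowers, hw, pow_one])).exists_le_sylow
    obtain ⟨S, hS⟩ := (P.isPGroup'.comap_of_injective M.subtype M.subtype_injective).exists_le_sylow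
    obtain ⟨Q, hQ⟩ := (S.isPGroup'.map M.subtype).exists_le_sylow
    by_cases hQM : (Q : Subgroup G) ≤ M
    · obtain ⟨d, rfl⟩ := MulAction.exists_smul_eq G Q P
      have := (mem_smul_sylow d Q).1 (hP (Subgroup.mem_zpowers w))
      refine hwM ?_
      have hc := (inferInstance : M.Normal).conj_mem _ (hQM this) d
      rwa [show d * (d⁻¹ * w * d) * d⁻¹ = w by group] at hc
    · obtain ⟨v, hvQ, hvM⟩ := Set.not_subset.1 hQM
      exact hvM (f.centralizer_le hM hC hns S fun s hs => congrArg Subtype.val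
        ((h.two_group_comm Q.isPGroup').is_comm.comm ⟨s, hQ ⟨s, hs, rfl⟩⟩ ⟨v, hvQ⟩))
  obtain ⟨g, hg⟩ := hex
  have hao : orderOf (g ^ r) = 2 := by
    rw [orderOf_pow, hg, Nat.gcd_eq_right (dvd_mul_left r 2), Nat.mul_div_cancel _ h.prime.pos]
  set y := g ^ 2 with hy
  have hyo : orderOf y = r := by
    rw [hy, orderOf_pow, hg, Nat.gcd_eq_right (dvd_mul_right 2 r), Nat.mul_div_cancel_left _ Nat.two_pos]
  set a : M := ⟨g ^ r, hinvM _ hao⟩ with ha
  have hao' : orderOf a = 2 := by rw [← Subgroup.orderOf_coe]; exact hao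
  have hay : Commute (a : G) y := (Commute.refl g).pow_pow r 2
  have ha1 : a ≠ 1 := fun e => by rw [e, orderOf_one] at hao'; omega
  obtain ⟨S, hS⟩ := (IsPGroup.of_card (p := 2) (n := 1) (G := Subgroup.zpowers a)
    (by rw [Nat.card_zpowers, hao', pow_one])).exists_le_sylow
  have haS : a ∈ (S : Subgroup M) := hS (Subgroup.mem_zpowers a)
  have hyM : y ∉ M := by
    intro hyM
    have hy' := f.cent S a haS ha1 ⟨y, hyM⟩ (Subtype.ext hay.eq.symm)
    have h2 := hM.two_group_sq S.isPGroup' hy'
    have h3 : y * y = 1 := congrArg Subtype.val h2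
    have h4 : r ∣ 2 := hyo ▸ orderOf_dvd_of_pow_eq_one (by rw [sq, h3])
    exact h.ne_two ((Nat.prime_dvd_prime_iff_eq h.prime Nat.prime_two).1 h4)
  -- `y` fixes `S`
  have hfixI : ∀ {u : G} {b : M}, Commute (b : G) u → (MulAut.conjNormal u).symm b = b := fun {u b} hc =>
    Subtype.ext (by rw [MulAut.conjNormal_symm_apply, mul_assoc, hc.eq, inv_mul_cancel_left])
  have hmapI : ∀ {u : G} {b : M} {T : Sylow 2 M}, Commute (b : G) u → b ∈ (T : Subgroup M) →
      b ≠ 1 → sylAct M u T = T := fun {u b T} hc hb hb1 =>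
    f.eq_of_mem (a := b) (by rw [mem_sylAct, hfixI hc]; exact hb) hb hb1 hM
  have hyS : sylAct M y S = S := hmapI hay haS ha1
  letI : MulAction (Subgroup.zpowers y) (Sylow 2 M) :=
    { smul := fun z T => sylAct M (z : G) T
      one_smul := fun T => sylAct_one T
      mul_smul := fun z z' T => sylAct_mul (z : G) z' T }
  have hsmul : ∀ (z : Subgroup.zpowers y) (T : Sylow 2 M), z • T = sylAct M (z : G) T := fun _ _ => rfl
  have hyp : IsPGroup r (Subgroup.zpowers y) :=
    IsPGroup.of_card (n := 1) (by rw [Nat.card_zpowers, hyo, pow_one])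
  have hmod := hyp.card_modEq_card_fixedPoints (Sylow 2 M)
  set Fix := MulAction.fixedPoints (Subgroup.zpowers y) (Sylow 2 M) with hFix
  have hSFix : S ∈ Fix := by
    intro z
    obtain ⟨k, hk⟩ := (isOfFinOrder_of_finite y).mem_zpowers_iff_mem_range_orderOf.1 z.2 |>
      Finset.mem_image.1
    rw [hsmul, ← hk.2]
    clear hk
    induction k with
    | zero => rw [pow_zero, sylAct_one]
    | succ k ih => rw [pow_succ, sylAct_mul, hyS, ih]
  obtain ⟨j, hj⟩ := S.isPGroup'.exists_card_eq
  have hq := f.num S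
  have hq4 := f.four_le S
  set q := Nat.card (S : Subgroup M) with hqdef
  have hrq : ¬ r ∣ q := fun hd => h.ne_two
    ((Nat.prime_dvd_prime_iff_eq h.prime Nat.prime_two).1 (h.prime.dvd_of_dvd_pow (hj ▸ hd)))
  obtain ⟨T, hTS, hT⟩ : ∃ T : Sylow 2 M, T ≠ S ∧ T ∈ Fix := by
    by_contra hcon
    push Not at hcon
    have h1 : Nat.card Fix = 1 := by
      refine Nat.card_eq_one_iff_unique.2 ⟨⟨fun A B => Subtype.ext ?_⟩, ⟨⟨S, hSFix⟩⟩⟩
      have hA : (A : Sylow 2 M) = S := by
        by_contra e; exact hcon _ e A.2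
      have hB : (B : Sylow 2 M) = S := by
        by_contra e; exact hcon _ e B.2
      rw [hA, hB]
    rw [h1, hq] at hmod
    exact hrq ((Nat.modEq_iff_dvd' (by omega)).1 hmod.symm)
  have hdvd : ∀ {m : ℕ}, (∃ g : M, orderOf g = m) → r ∣ m → ¬ 2 ∣ m → m = r := by
    rintro m ⟨g, hg'⟩ hd ho
    rw [← Subgroup.orderOf_coe] at hg'
    have h1 := h.dvd (g := (g : G)) (Or.inr (hg'.symm ▸ hd))
    rw [hg'] at h1
    exact Nat.dvd_antisymm
      (((Nat.prime_two.coprime_iff_not_dvd.2 ho).symm).dvd_of_dvd_mul_left h1) hd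
  have hqe : 2 ∣ q := by
    rcases j with _ | j
    · rw [hj, pow_zero] at hq4; omega
    · exact hj ▸ dvd_pow_self 2 j.succ_ne_zero
  -- fixed points on the involutions of a fixed Sylow subgroup
  have hperm : ∀ U ∈ Fix, ∀ z ∈ Subgroup.zpowers y, ∀ t ∈ (U : Subgroup M).map M.subtype,
      z * t * z⁻¹ ∈ (U : Subgroup M).map M.subtype := by
    rintro U hU z hz _ ⟨t, ht, rfl⟩
    refine ⟨MulAut.conjNormal z t, ?_, MulAut.conjNormal_apply z t⟩
    have hz' : sylAct M z U = U := hU ⟨z, hz⟩
    rw [← hz']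
    exact mem_sylAct.2 (by rw [MulEquiv.symm_apply_apply]; exact ht)
  by_cases hr1 : r ∣ q - 1
  · -- `y` fixes every involution of `S`
    have hqr : q - 1 = r := hdvd (f.low S) hr1 (by omega)
    refine hyM (f.centralizer_le hM hC hns S fun s hs => ?_)
    letI : MulAction (Subgroup.zpowers y) {x : (S : Subgroup M) // x ≠ 1} :=
      { smul := fun z x => ⟨⟨MulAut.conjNormal (z : G) x.1, by
            have hz' : sylAct M (z : G) S = S := hSFix z
            have hm := (mem_sylAct (g := (z : G)) (T := S) (x := MulAut.conjNormal (z : G) x.1)).2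
              (by rw [MulEquiv.symm_apply_apply]; exact x.1.2)
            rwa [hz'] at hm⟩,
          fun e => x.2 (Subtype.ext ((MulEquiv.map_eq_one_iff _).1 (congrArg Subtype.val e)))⟩
        one_smul := fun x => Subtype.ext (Subtype.ext (by
          show MulAut.conjNormal ((1 : Subgroup.zpowers y) : G) (x.1 : M) = (x.1 : M)
          rw [OneMemClass.coe_one, map_one]; rfl))
        mul_smul := fun z z' x => Subtype.ext (Subtype.ext (by
          show MulAut.conjNormal ((z * z' : Subgroup.zpowers y) : G) (x.1 : M) =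
            MulAut.conjNormal (z : G) (MulAut.conjNormal (z' : G) (x.1 : M))
          rw [Subgroup.coe_mul, map_mul]; rfl)) }
    have hmod' := hyp.card_modEq_card_fixedPoints {x : (S : Subgroup M) // x ≠ 1}
    have hcard : Nat.card {x : (S : Subgroup M) // x ≠ 1} = r := by
      have h1 := Nat.card_congr (Equiv.optionSubtypeNe (1 : (S : Subgroup M)))
      rw [Finite.card_option] at h1
      omega
    set Fx := MulAction.fixedPoints (Subgroup.zpowers y) {x : (S : Subgroup M) // x ≠ 1}
    have hmemFx : (⟨⟨a, haS⟩, fun e => ha1 (congrArg Subtype.val e)⟩ :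
        {x : (S : Subgroup M) // x ≠ 1}) ∈ Fx := by
      intro z
      refine Subtype.ext (Subtype.ext (Subtype.ext ?_))
      show (MulAut.conjNormal (z : G) a : G) = a
      obtain ⟨k, hk⟩ := Subgroup.mem_zpowers_iff.1 z.2
      rw [MulAut.conjNormal_apply, ← hk, ← ((hay.zpow_right k)).eq, mul_inv_cancel_right]
    have h2 : Nat.card Fx = r := by
      have hle : Nat.card Fx ≤ r := hcard ▸ Nat.card_le_card_of_injective _ Subtype.val_injective
      have hpos : 0 < Nat.card Fx := by
        haveI : Nonempty Fx := ⟨⟨_, hmemFx⟩⟩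
        exact Nat.card_pos
      rw [hcard] at hmod'
      have h3 : r ∣ Nat.card Fx := by
        have := hmod'.dvd_iff (dvd_refl r)
        exact this.1 dvd_rfl
      exact le_antisymm hle (Nat.le_of_dvd hpos h3)
    by_cases hs1 : s = 1
    · subst hs1; exact Commute.one_left _
    obtain ⟨x, hx⟩ := ((Nat.bijective_iff_injective_and_card
      (Subtype.val : Fx → {x : (S : Subgroup M) // x ≠ 1})).2
      ⟨Subtype.val_injective, h2.trans hcard.symm⟩).2 ⟨⟨s, hs⟩, fun e => hs1 (congrArg Subtype.val e)⟩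
    have h5 := congrArg (fun v : {x : (S : Subgroup M) // x ≠ 1} => ((v.1 : M) : G))
      (x.2 ⟨y, Subgroup.mem_zpowers y⟩)
    rw [hx] at h5
    change (MulAut.conjNormal y s : G) = s at h5
    rw [MulAut.conjNormal_apply] at h5
    exact (mul_inv_eq_iff_eq_mul.1 h5).symm
  · -- a fixed involution of `T`
    have hcardT : Nat.card (T : Subgroup M) = q := by
      have h1 := f.num T; omega
    have hd : ¬ r ∣ Nat.card ((((T : Subgroup M).map M.subtype : Subgroup G) : Set G) \ {1} : Set G) := by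
      rw [Nat.card_coe_set_eq, Set.ncard_sdiff_singleton_of_mem (Subgroup.one_mem _),
        ← Nat.card_coe_set_eq, SetLike.coe_sort_coe, Subgroup.card_map_of_injective M.subtype_injective,
        hcardT]
      exact hr1
    obtain ⟨t, ⟨htT, ht1⟩, ht⟩ := InvTrans.exists_fixed hyp
      ((((T : Subgroup M).map M.subtype : Subgroup G) : Set G) \ {1})
      (fun z hz t ht => ⟨hperm T hT z hz t ht.1, fun e => ht.2 (conj_eq_one_iff.1 e)⟩) hd
    obtain ⟨b, hb, rfl⟩ := htT
    have hb1 : b ≠ 1 := fun e => ht1 (by simp [e])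
    have hby : Commute (b : G) y := (ht y (Subgroup.mem_zpowers y)).symm
    set d := a * b with hd'
    have hd1 : d ≠ 1 := by
      intro e
      have e1 : b = a⁻¹ := eq_inv_of_mul_eq_one_right e
      exact hTS (f.eq_of_mem hb (e1 ▸ Subgroup.inv_mem _ haS) hb1 hM)
    have hab : ¬ Commute b a := fun hc => hTS (f.eq_of_mem hb (f.cent S a haS ha1 b hc) hb1 hM)
    have hdy : Commute (d : G) y := by rw [hd', Subgroup.coe_mul]; exact hay.mul_left hby
    have hdodd : ¬ 2 ∣ orderOf d := by
      intro h2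
      have hd2 : orderOf d = 2 := by
        rw [← Subgroup.orderOf_coe] at h2 ⊢
        have hdd := h.dvd (Or.inl h2)
        obtain ⟨k, hk⟩ := h2
        rw [hk] at hdd
        rcases h.prime.eq_one_or_self_of_dvd k (Nat.dvd_of_mul_dvd_mul_left Nat.two_pos hdd) with rfl | rfl
        · rw [hk, mul_one]
        · exact absurd ((Subgroup.orderOf_coe d).symm.trans hk) (hno d)
      apply hab
      have e : (a * b) * (a * b) = 1 := by
        have := pow_orderOf_eq_one d
        rwa [hd2, sq] at this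
      have ha2 : a * a = 1 := hM.two_group_sq S.isPGroup' haS
      have hb2 : b * b = 1 := hM.two_group_sq T.isPGroup' hb
      calc b * a = (a * a) * (b * a) * (b * b) := by rw [ha2, hb2, one_mul, mul_one]
        _ = a * ((a * b) * (a * b)) * b := by group
        _ = a * b := by rw [e, mul_one]
    obtain ⟨ℓ, hℓ, hℓd⟩ := Nat.exists_prime_and_dvd (fun e => hd1 (orderOf_eq_one_iff.1 e) :
      orderOf d ≠ 1)
    rw [← Subgroup.orderOf_coe] at hℓd hdodd
    have hℓr : ℓ = r := (h.primes_of_commute (Or.inr hyo) hdy hℓ hℓd).resolve_left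
      fun e => hdodd (e ▸ hℓd)
    subst hℓr
    have hrM : ℓ ∣ Nat.card M := hℓd.trans ((Subgroup.orderOf_coe d) ▸ _root_.orderOf_dvd_natCard d)
    have hcardM : ℓ ∣ q * ((q - 1) * (q + 1)) := by
      have hN := (Subgroup.normalizer ((S : Subgroup M) : Set M)).card_mul_index
      rw [show (Subgroup.normalizer ((S : Subgroup M) : Set M)).index = Nat.card (Sylow 2 M) from
        (Sylow.card_eq_index_normalizer S).symm, hq] at hN
      rw [← hN] at hrM
      rcases h.prime.dvd_mul.1 hrM with e | e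
      · -- an element of order `r` normalising `S`
        exfalso
        obtain ⟨z, hz⟩ := exists_prime_orderOf_dvd_card' ℓ e
        rw [← Subgroup.orderOf_coe] at hz
        have hfp : ¬ ℓ ∣ Nat.card ((((S : Subgroup M) : Set M)) \ {1} : Set M) := by
          rw [Nat.card_coe_set_eq, Set.ncard_sdiff_singleton_of_mem (Subgroup.one_mem _),
            ← Nat.card_coe_set_eq, SetLike.coe_sort_coe]
          exact hr1
        obtain ⟨t, ⟨htS, ht1⟩, htz⟩ := InvTrans.exists_fixed
          (P := Subgroup.zpowers (z : M))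
          (IsPGroup.of_card (n := 1) (by rw [Nat.card_zpowers, hz, pow_one]))
          (((S : Subgroup M) : Set M) \ {1})
          (fun k hk t ht => ⟨mem_conj_normalizer (Subgroup.zpowers_le.2 z.2 hk) ht.1,
            fun e => ht.2 (conj_eq_one_iff.1 e)⟩) hfp
        have := hM.two_group_sq S.isPGroup'
          (f.cent S t htS ht1 z (htz z (Subgroup.mem_zpowers _)))
        have h4 : ℓ ∣ 2 := hz ▸ orderOf_dvd_of_pow_eq_one (by rw [sq, this])
        exact h.ne_two ((Nat.prime_dvd_prime_iff_eq h.prime Nat.prime_two).1 h4)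
      · exact Dvd.dvd.mul_left (e.mul_left _) _
    have hr2 : ℓ ∣ q + 1 :=
      (h.prime.dvd_mul.1 ((h.prime.dvd_mul.1 hcardM).resolve_left hrq)).resolve_left hr1
    have hq1 : q + 1 = ℓ := hdvd (f.high S) hr2 (by omega)
    have h2F : 2 ≤ Nat.card Fix := by
      haveI : Nontrivial Fix := ⟨⟨T, hT⟩, ⟨S, hSFix⟩, fun e => hTS (congrArg Subtype.val e)⟩
      exact Finite.one_lt_card_iff_nontrivial.2 this
    have hFle : Nat.card Fix ≤ ℓ :=
      hq1 ▸ hq ▸ Nat.card_le_card_of_injective _ Subtype.val_injective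
    have hF : Nat.card Fix = ℓ := by
      rw [hq, hq1] at hmod
      exact le_antisymm hFle (Nat.le_of_dvd (by omega) ((hmod.dvd_iff (dvd_refl ℓ)).1 dvd_rfl))
    have hall : ∀ U : Sylow 2 M, U ∈ Fix := fun U => by
      obtain ⟨x, rfl⟩ := ((Nat.bijective_iff_injective_and_card (Subtype.val : Fix → Sylow 2 M)).2
        ⟨Subtype.val_injective, by rw [hF, hq, hq1]⟩).2 U
      exact x.2
    have := eq_one_of_fix_all hC hns fun U => hall U ⟨y, Subgroup.mem_zpowers y⟩
    change y = 1 at this
    exact hyM (this.symm ▸ M.one_mem)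

end Cfsg.Agent.Grp.ThreeOrders
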