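import Mathlib
import Cfsg.Prelude
import Cfsg.Agent.Lib.Grp.ThreeOrders.CitCase
import Cfsg.Agent.Lib.Grp.ThreeOrders.FourOuter
import Cfsg.Agent.Lib.Grp.ThreeOrders.NoTwoR

/-!
Nonsolvable groups in which no prime divides three distinct element orders.
-/

set_option autoImplicit false
set_option linter.style.haveILetI false
set_option linter.unusedSectionVars false

universe u

namespace Cfsg.Agent.Grp.ThreeOrders

open Subgroup Cfsg.Agent

variable {G : Type u} [Group G] [Finite G]

theorem three_orders_classification (hns : ¬ Group.IsSolvable G) (h3 : NoThree G) :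
    ThreeOrdersList G := by
  classical
  rcases h3.cases with heven | ⟨r, hr, hex⟩
  · exact cit_case hns h3 heven
  obtain ⟨M, hMn, hMs, hMns, hC⟩ := hr.exists_socle hns
  haveI := hMn
  haveI := hMs
  have hM : M = ⊤ := hr.socle_eq_top hMns (hr.socle_mixed hC hMns hex)
  subst hM
  haveI : Nontrivial G := (Subgroup.topEquiv (G := G)).toEquiv.symm.nontrivial
  haveI : IsSimpleGroup G := IsSimpleGroup.isSimpleGroup_of_surjective
    (Subgroup.topEquiv (G := G)).toMonoidHom (Subgroup.topEquiv (G := G)).surjective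
  obtain ⟨F, iF, iT, h5, h8, ⟨e⟩⟩ := hr.psl_param hns hex
  have hg : Nat.gcd 2 (Fintype.card F - 1) = 2 := Nat.gcd_eq_left (by omega)
  have hlen : ∀ {m : ℕ}, (∃ g : G, orderOf g = m) → m.primeFactorsList.length ≤ 2 := by
    rintro m ⟨g, rfl⟩; exact h3.length_le g
  exact Or.inr (Or.inl ⟨F, iF, iT, h5, h8,
    hlen (Transfer.CIT.exists_orderOf_half e (by omega) (Or.inr (by rw [hg]))),
    hlen (Transfer.CIT.exists_orderOf_half e (by omega) (Or.inl (by rw [hg]))), ⟨e⟩⟩)

end Cfsg.Agent.Grp.ThreeOrders
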